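import Cfsg.Agent.KFacts.MulDef

/-!
# Double covers: classes of involutions (helper279)

`π : L → X` a perfect double cover with kernel `{1, c}`.

* `sq_conj`: the square of a lift of an involution is a class function.
* `sq_eq_one` (SQ): one class of involutions in `X`, and a subgroup `4 × 2` in `X` ⇒ all involutions of `X` lift to
  involutions.
* `comm_of_perfect`: a lift of `t` commutes with every lift of an element of `C_X(t)`, if `C_X(t)` is perfect.
* `Cls`: a class of `X` whose elements have perfect centralisers lifts to two classes (`uniq`, `exists_lift`).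
* `false_of_squares`: no subgroup `T` of odd index with `c ∈ T`, `c ∉ ⟨x² | x ∈ T⟩`.
* `exists_sylow`: one class of involutions ⇒ a Sylow 2-subgroup of `L` that contains `c` and maps into `C_X(t)`.
-/

set_option autoImplicit false
set_option linter.style.haveILetI false

namespace Cfsg.Agent.KFacts.MulSpor.Class

open Subgroup Cfsg.Agent.KFacts.MulTwo Cfsg.Agent.KFacts.MulDef
open scoped commutatorElement

variable {L X : Type*} [Group L] [Group X] {π : L →* X} {c : L}

theorem pi_c (hd : Dbl π c) : π c = 1 := (hd.ker c).2 (Or.inr rfl)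

theorem eq_or (hd : Dbl π c) {x y : L} (h : π x = π y) : x = y ∨ x = c * y := by
  have h1 : π (x * y⁻¹) = 1 := by rw [map_mul, map_inv, h, mul_inv_cancel]
  rcases (hd.ker _).1 h1 with h2 | h2
  · left; exact mul_inv_eq_one.1 h2
  · right; exact mul_inv_eq_iff_eq_mul.1 h2

theorem comm_or (hd : Dbl π c) {x y : L} (h : π x * π y = π y * π x) : x * y = y * x ∨ x * y = c * (y * x) :=
  eq_or hd (by rw [map_mul, map_mul, h])

theorem sq_or (hd : Dbl π c) {x : L} (h : π x * π x = 1) : x * x = 1 ∨ x * x = c := by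
  rw [← map_mul] at h
  exact (hd.ker _).1 h

/-- squares of the two lifts -/
theorem sq_eq_of_pi (hd : Dbl π c) {x y : L} (h : π x = π y) : x * x = y * y := by
  rcases eq_or hd h with rfl | rfl
  · rfl
  · calc c * y * (c * y) = c * (y * c) * y := by group
      _ = c * (c * y) * y := by rw [hd.cen y]
      _ = (c * c) * (y * y) := by group
      _ = y * y := by rw [hd.sq, one_mul]

/-- the square of a lift of an involution is a class function -/
theorem sq_conj (hd : Dbl π c) {x y : L} (g : X) (hg : g * π x * g⁻¹ = π y) (hx : π x * π x = 1) :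
    y * y = x * x := by
  obtain ⟨g, rfl⟩ := hd.surj g
  have h1 : π (g * x * g⁻¹) = π y := by rw [map_mul, map_mul, map_inv, hg]
  rw [← sq_eq_of_pi hd h1]
  have h2 : g * x * g⁻¹ * (g * x * g⁻¹) = g * (x * x) * g⁻¹ := by group
  rw [h2]
  rcases sq_or hd hx with h3 | h3
  · rw [h3]; group
  · rw [h3, ← hd.cen g]; group

/-- (SQ): one class of involutions, and `X` has a subgroup `⟨x⟩ × ⟨y⟩` of type `4 × 2`. -/
theorem sq_eq_one (hd : Dbl π c) (hone : ∀ x y : X, orderOf x = 2 → orderOf y = 2 → IsConj x y)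
    {x y : X} (hx : x * x * (x * x) = 1) (hx1 : x * x ≠ 1) (hy : y * y = 1) (hy1 : y ≠ 1) (hxy : x * y = y * x)
    (hne : x * x ≠ y) (a : L) (ha : π a * π a = 1) : a * a = 1 := by
  by_contra hcon
  have hac : a * a = c := (sq_or hd ha).resolve_left hcon
  have ha1 : π a ≠ 1 := by
    intro h
    rcases (hd.ker a).1 h with rfl | rfl
    · exact hcon (one_mul _)
    · exact hcon hd.sq
  have ord : ∀ b : X, b * b = 1 → b ≠ 1 → orderOf b = 2 := fun b h1 h2 =>
    orderOf_eq_prime (by rw [pow_two, h1]) h2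
  have hall : ∀ b : L, π b * π b = 1 → π b ≠ 1 → b * b = c := by
    intro b h1 h2
    obtain ⟨g, hg⟩ := isConj_iff.1 (hone _ _ (ord _ ha ha1) (ord _ h1 h2))
    rw [sq_conj hd g hg ha, hac]
  obtain ⟨x, rfl⟩ := hd.surj x
  obtain ⟨y, rfl⟩ := hd.surj y
  have e1 : x * x * (x * x) = c := hall (x * x) (by rw [map_mul]; exact hx) (by rw [map_mul]; exact hx1)
  have e2 : y * y = c := hall y hy hy1
  have e3 : (x * x) * y = y * (x * x) := by
    rcases comm_or hd hxy with h | h
    · calc x * x * y = x * (x * y) := by group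
        _ = x * (y * x) := by rw [h]
        _ = (x * y) * x := by group
        _ = (y * x) * x := by rw [h]
        _ = y * (x * x) := by group
    · calc x * x * y = x * (x * y) := by group
        _ = x * (c * (y * x)) := by rw [h]
        _ = (x * c) * (y * x) := by group
        _ = (c * x) * (y * x) := by rw [hd.cen x]
        _ = c * (x * y) * x := by group
        _ = c * (c * (y * x)) * x := by rw [h]
        _ = (c * c) * (y * (x * x)) := by group
        _ = y * (x * x) := by rw [hd.sq, one_mul]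
  have e4 : (x * x * y) * (x * x * y) = 1 := by
    calc (x * x * y) * (x * x * y) = (x * x) * (y * (x * x)) * y := by group
      _ = (x * x) * ((x * x) * y) * y := by rw [e3]
      _ = (x * x * (x * x)) * (y * y) := by group
      _ = 1 := by rw [e1, e2, hd.sq]
  have e5 : (x * x * y) * (x * x * y) = c := by
    apply hall
    · rw [← map_mul, e4, map_one]
    · rw [map_mul, map_mul]
      intro h
      apply hne
      rw [eq_inv_of_mul_eq_one_left h]
      exact inv_eq_of_mul_eq_one_left hy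
  rw [e4] at e5
  exact hd.ne e5.symm

/-- A lift of `t` commutes with all lifts of elements of `C_X(t)` if `C_X(t)` is perfect. -/
theorem comm_of_perfect (hd : Dbl π c) {t : X} (hC : commutator (centralizer ({t} : Set X)) = ⊤) {τ : L}
    (hτ : π τ = t) {g : L} (hg : π g * t = t * π g) : g * τ = τ * g := by
  -- the elements of `C_X(t)` that lift to elements of `C(τ)`
  let N : Subgroup (centralizer ({t} : Set X)) :=
    { carrier := {x | ∃ n : L, π n = x ∧ n * τ = τ * n}
      one_mem' := ⟨1, by simp, by simp⟩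
      mul_mem' := by
        rintro a b ⟨n, hn, hn'⟩ ⟨m, hm, hm'⟩
        refine ⟨n * m, by rw [map_mul, hn, hm]; rfl, ?_⟩
        rw [mul_assoc, hm', ← mul_assoc, hn', mul_assoc]
      inv_mem' := by
        rintro a ⟨n, hn, hn'⟩
        refine ⟨n⁻¹, by rw [map_inv, hn]; rfl, ?_⟩
        rw [inv_mul_eq_iff_eq_mul, ← mul_assoc, hn', mul_inv_cancel_right] }
  have hN : N = ⊤ := by
    rw [eq_top_iff, ← hC, _root_.commutator_def, Subgroup.commutator_le]
    rintro ⟨a, ha⟩ _ ⟨b, hb⟩ _
    obtain ⟨a, rfl⟩ := hd.surj a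
    obtain ⟨b, rfl⟩ := hd.surj b
    refine ⟨⁅a, b⁆, by rw [map_commutatorElement]; rfl, ?_⟩
    have h1 : ∀ y : L, π y * t = t * π y → ∃ e : L, (∀ w, e * w = w * e) ∧ e * e = 1 ∧ y * τ = e * (τ * y) := by
      intro y hy
      rw [← hτ] at hy
      rcases comm_or hd hy with h | h
      · exact ⟨1, fun w => by rw [one_mul, mul_one], one_mul _, by rw [one_mul, h]⟩
      · exact ⟨c, hd.cen, hd.sq, h⟩
    obtain ⟨e, he, hee, h2⟩ := h1 a (mem_centralizer_singleton_iff.1 ha)
    obtain ⟨f, hf, hff, h3⟩ := h1 b (mem_centralizer_singleton_iff.1 hb)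
    have key : ∀ y w e f : L, (∀ x, f * x = x * f) → y * τ = e * (τ * y) → w * τ = f * (τ * w) →
        y * w * τ = (f * e) * (τ * (y * w)) := by
      intro y w e f hf h2 h3
      calc y * w * τ = y * (w * τ) := by group
        _ = y * (f * (τ * w)) := by rw [h3]
        _ = (y * f) * (τ * w) := by group
        _ = (f * y) * (τ * w) := by rw [hf y]
        _ = f * (y * τ) * w := by group
        _ = f * (e * (τ * y)) * w := by rw [h2]
        _ = (f * e) * (τ * (y * w)) := by group
    have kinv : ∀ y e : L, (∀ x, e * x = x * e) → e * e = 1 → y * τ = e * (τ * y) → y⁻¹ * τ = e * (τ * y⁻¹) := by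
      intro y e he hee h2
      rw [inv_mul_eq_iff_eq_mul]
      calc τ = (e * e) * τ := by rw [hee, one_mul]
        _ = e * (e * (τ * y)) * y⁻¹ := by group
        _ = e * (y * τ) * y⁻¹ := by rw [← h2]
        _ = (e * y) * (τ * y⁻¹) := by group
        _ = (y * e) * (τ * y⁻¹) := by rw [he]
        _ = y * (e * (τ * y⁻¹)) := by group
    have k1 := key a b e f hf h2 h3
    have k2 := key (a * b) a⁻¹ (f * e) e he k1 (kinv a e he hee h2)
    have k3 := key (a * b * a⁻¹) b⁻¹ (e * (f * e)) f hf k2 (kinv b f hf hff h3)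
    have k4 : f * (e * (f * e)) = 1 := by
      calc f * (e * (f * e)) = f * ((e * f) * e) := by group
        _ = f * ((f * e) * e) := by rw [he f]
        _ = (f * f) * (e * e) := by group
        _ = 1 := by rw [hff, hee, one_mul]
    rw [k4, one_mul] at k3
    exact k3
  have h1 : (⟨π g, mem_centralizer_singleton_iff.2 hg⟩ : centralizer ({t} : Set X)) ∈ N := by
    rw [hN]; trivial
  obtain ⟨n, hn, hn'⟩ := h1
  rcases eq_or hd (x := g) (y := n) hn.symm with rfl | rfl
  · exact hn'
  · rw [mul_assoc, hn', ← mul_assoc, hd.cen τ, mul_assoc]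

/-! ### The class of `τ` -/

/-- the class of `τ` -/
def Cls (τ : L) : Set L := {x | ∃ g, g * τ * g⁻¹ = x}

theorem self_mem (τ : L) : τ ∈ Cls τ := ⟨1, by simp⟩

theorem conj_mem {τ x : L} (g : L) (hx : x ∈ Cls τ) : g * x * g⁻¹ ∈ Cls τ := by
  obtain ⟨k, rfl⟩ := hx
  exact ⟨g * k, by group⟩

theorem uniq (hd : Dbl π c) {t : X} (hC : commutator (centralizer ({t} : Set X)) = ⊤) {τ : L} (hτ : π τ = t)
    {x y : L} (hx : x ∈ Cls τ) (hy : y ∈ Cls τ) (h : π x = π y) : x = y := by
  obtain ⟨g, rfl⟩ := hx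
  obtain ⟨k, rfl⟩ := hy
  rw [map_mul, map_mul, map_mul, map_mul, map_inv, map_inv, hτ] at h
  have h1 : π (k⁻¹ * g) * t = t * π (k⁻¹ * g) := by
    rw [map_mul, map_inv]
    calc (π k)⁻¹ * π g * t = (π k)⁻¹ * (π g * t * (π g)⁻¹) * π g := by group
      _ = (π k)⁻¹ * (π k * t * (π k)⁻¹) * π g := by rw [h]
      _ = _ := by group
  have h2 := comm_of_perfect hd hC hτ h1
  calc g * τ * g⁻¹ = k * ((k⁻¹ * g) * τ) * g⁻¹ := by group
    _ = k * (τ * (k⁻¹ * g)) * g⁻¹ := by rw [h2]
    _ = k * τ * k⁻¹ := by group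

theorem exists_lift (hd : Dbl π c) {t : X} (hone : ∀ x y : X, orderOf x = 2 → orderOf y = 2 → IsConj x y)
    (ht : orderOf t = 2) {τ : L} (hτ : π τ = t) {a : X} (ha : a * a = 1) (ha1 : a ≠ 1) :
    ∃ x ∈ Cls τ, π x = a := by
  obtain ⟨g, hg⟩ := isConj_iff.1 (hone t a ht (orderOf_eq_prime (by rw [pow_two, ha]) ha1))
  obtain ⟨g, rfl⟩ := hd.surj g
  exact ⟨g * τ * g⁻¹, ⟨g, rfl⟩, by rw [map_mul, map_mul, map_inv, hτ, hg]⟩

/-! ### Squares -/

/-- No subgroup `T` of odd index with `c ∈ T`, all squares of elements of `T` in a subgroup `Q₁ ≤ T`, `c ∉ Q₁`. -/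
theorem false_of_squares [Finite L] (h : Ctr c) {T Q₁ : Subgroup L} (hcT : c ∈ T) (hodd : ¬ 2 ∣ T.index)
    (hQT : Q₁ ≤ T) (hQ : ∀ x ∈ T, x * x ∈ Q₁) (hc : c ∉ Q₁) : False := by
  classical
  -- a maximal subgroup between `Q₁` and `T` not containing `c`
  let S : Set (Subgroup L) := {M | Q₁ ≤ M ∧ M ≤ T ∧ c ∉ M}
  have hS : S.Finite := Set.toFinite _
  obtain ⟨M, hM⟩ := hS.exists_maximal ⟨Q₁, le_refl _, hQT, hc⟩
  obtain ⟨⟨hQM, hMT, hcM⟩, hmax⟩ := hM
  refine h.false_of_compl hcT hodd (P₁ := M) hcM fun x hx => ?_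
  by_cases hxM : x ∈ M
  · exact Or.inl hxM
  right
  have hsq : ∀ y ∈ T, y * y ∈ M := fun y hy => hQM (hQ y hy)
  -- `T` normalises `M`
  have hnorm : ∀ g ∈ T, ∀ m ∈ M, g * m * g⁻¹ ∈ M := by
    intro g hg m hm
    have e : g * m * g⁻¹ = (g * m * (g * m)) * (m⁻¹ * (g⁻¹ * g⁻¹) * m) * m⁻¹ := by group
    have e2 : m⁻¹ * (g⁻¹ * g⁻¹) * m ∈ M :=
      mul_mem (mul_mem (inv_mem hm) (hsq _ (inv_mem hg))) hm
    rw [e]
    exact mul_mem (mul_mem (hsq _ (mul_mem hg (hMT hm))) e2) (inv_mem hm)
  let M' : Subgroup L :=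
    { carrier := {y | y ∈ M ∨ x * y ∈ M}
      one_mem' := Or.inl (one_mem _)
      mul_mem' := by
        rintro a b (ha | ha) (hb | hb)
        · exact Or.inl (mul_mem ha hb)
        · right
          have e : x * (a * b) = (x * a * x⁻¹) * (x * b) := by group
          rw [e]
          exact mul_mem (hnorm x hx a ha) hb
        · right
          rw [← mul_assoc]
          exact mul_mem ha hb
        · left
          have e : a * b = (x * x)⁻¹ * ((x * (x * a) * x⁻¹) * (x * b)) := by group
          rw [e]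
          exact mul_mem (inv_mem (hsq x hx)) (mul_mem (hnorm x hx _ ha) hb)
      inv_mem' := by
        rintro a (ha | ha)
        · exact Or.inl (inv_mem ha)
        · right
          have e : x * a⁻¹ = x * (x * a)⁻¹ * x⁻¹ * (x * x) := by group
          rw [e]
          exact mul_mem (hnorm x hx _ (inv_mem ha)) (hsq x hx) }
  have hMM : M ≤ M' := fun y hy => Or.inl hy
  have hxM' : x ∈ M' := Or.inr (hsq x hx)
  have hM'T : M' ≤ T := by
    rintro y (hy | hy)
    · exact hMT hy
    · have := mul_mem (inv_mem hx) (hMT hy)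
      rwa [inv_mul_cancel_left] at this
  have hcM' : c ∈ M' := by
    by_contra hcon
    have := hmax (y := M') ⟨hQM.trans hMM, hM'T, hcon⟩ hMM
    exact hxM (this hxM')
  rcases hcM' with h1 | h1
  · exact absurd h1 hcM
  · rwa [h.cen x]

/-- If all involutions of `X` are conjugate, then some Sylow 2-subgroup of `L` maps into `C_X(t)`. -/
theorem exists_sylow [Finite L] (hd : Dbl π c) (hone : ∀ x y : X, orderOf x = 2 → orderOf y = 2 → IsConj x y) {t : X}
    (ht : orderOf t = 2) : ∃ T : Sylow 2 L, c ∈ (T : Subgroup L) ∧ ∀ x ∈ (T : Subgroup L), π x * t = t * π x := by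
  have hp : Fact (Nat.Prime 2) := ⟨Nat.prime_two⟩
  obtain ⟨T⟩ := (inferInstance : Nonempty (Sylow 2 L))
  -- `c ∈ T'` for every Sylow subgroup
  have hc : ∀ T' : Sylow 2 L, c ∈ (T' : Subgroup L) := by
    intro T'
    have h1 : IsPGroup 2 (zpowers c) := by
      rw [IsPGroup.iff_card]
      refine ⟨1, ?_⟩
      rw [Nat.card_zpowers, pow_one]
      exact orderOf_eq_prime (by rw [pow_two, hd.sq]) hd.ne
    have hn : (zpowers c).Normal := ⟨fun n hn g => by
      obtain ⟨k, rfl⟩ := mem_zpowers_iff.1 hn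
      have : g * c ^ k * g⁻¹ = c ^ k := by
        have h2 : Commute c g := hd.cen g
        rw [← (h2.zpow_left k).eq, mul_inv_cancel_right]
      rw [this]
      exact ⟨k, rfl⟩⟩
    have h2 : IsPGroup 2 ((T' : Subgroup L) ⊔ zpowers c : Subgroup L) :=
      T'.isPGroup'.to_sup_of_normal_right h1
    have h3 := T'.is_maximal' h2 le_sup_left
    have h4 : c ∈ (T' : Subgroup L) ⊔ zpowers c := mem_sup_right (mem_zpowers c)
    rw [h3] at h4
    exact h4
  -- an involution in the centre of `T / c`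
  have hfX : Finite X := Finite.of_surjective π hd.surj
  have hmap : IsPGroup 2 ((T : Subgroup L).map π) := T.isPGroup'.map π
  have h2X : 2 ∣ Nat.card X := by rw [← ht]; exact orderOf_dvd_natCard t
  have hnt : Nontrivial ((T : Subgroup L).map π) := by
    by_contra hcon
    rw [not_nontrivial_iff_subsingleton] at hcon
    have h1 : (T : Subgroup L).map π = ⊥ := by
      rw [eq_bot_iff]
      intro y hy
      have := hcon.elim ⟨y, hy⟩ 1
      exact congrArg Subtype.val this
    -- then `2` does not divide the index of `ker`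
    have h2 : (T : Subgroup L) ≤ π.ker := by rwa [Subgroup.map_eq_bot_iff] at h1
    have h3 : π.ker.index ∣ (T : Subgroup L).index := index_dvd_of_le h2
    have h4 : π.ker.index = Nat.card X := by
      rw [index_ker, MonoidHom.range_eq_top.2 hd.surj, card_top]
    rw [h4] at h3
    exact T.not_dvd_index (h2X.trans h3)
  have hcent : Nontrivial (center ((T : Subgroup L).map π)) := hmap.center_nontrivial
  have hcp : IsPGroup 2 (center ((T : Subgroup L).map π)) := hmap.to_subgroup _
  have hdvd : 2 ∣ Nat.card (center ((T : Subgroup L).map π)) := by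
    obtain ⟨n, hn⟩ := IsPGroup.iff_card.1 hcp
    rcases n with _ | n
    · exfalso
      rw [pow_zero] at hn
      have := Finite.one_lt_card_iff_nontrivial.2 hcent
      omega
    · rw [hn]; exact dvd_pow_self 2 (Nat.succ_ne_zero n)
  obtain ⟨w, hw⟩ := exists_prime_orderOf_dvd_card' 2 hdvd
  have hw' : orderOf (((w : (T : Subgroup L).map π) : X)) = 2 := by
    exact ((Subgroup.orderOf_coe (w : (T : Subgroup L).map π)).trans (Subgroup.orderOf_coe w)).trans hw
  obtain ⟨g, hg⟩ := isConj_iff.1 (hone _ _ hw' ht)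
  obtain ⟨g, rfl⟩ := hd.surj g
  have hwc : ∀ x ∈ (T : Subgroup L), π x * ((w : (T : Subgroup L).map π) : X) =
      ((w : (T : Subgroup L).map π) : X) * π x := by
    intro x hx
    have := mem_center_iff.1 w.2 ⟨π x, mem_map_of_mem π hx⟩
    exact congrArg Subtype.val this
  refine ⟨g • T, hc _, ?_⟩
  intro x hx
  rw [Sylow.coe_subgroup_smul] at hx
  obtain ⟨s, hs, rfl⟩ := (mem_smul_pointwise_iff_exists _ _ _).1 hx
  have h1 := hwc s hs
  rw [← hg]
  show π (g * s * g⁻¹) * (π g * ((w : (T : Subgroup L).map π) : X) * (π g)⁻¹) =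
    π g * ((w : (T : Subgroup L).map π) : X) * (π g)⁻¹ * π (g * s * g⁻¹)
  rw [map_mul, map_mul, map_inv]
  calc π g * π s * (π g)⁻¹ * (π g * ((w : (T : Subgroup L).map π) : X) * (π g)⁻¹)
      = π g * (π s * ((w : (T : Subgroup L).map π) : X)) * (π g)⁻¹ := by group
    _ = π g * (((w : (T : Subgroup L).map π) : X) * π s) * (π g)⁻¹ := by rw [h1]
    _ = _ := by group

end Cfsg.Agent.KFacts.MulSpor.Class
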