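import Cfsg.Agent.KFacts.MulDef
import Cfsg.Agent.McLLyComp.CoverMT
import Cfsg.Agent.TypeM.FactsMcL
import Cfsg.Agent.TypeM.FactsLy

/-!
# The 2-part of the Schur multiplier of `McL` and `Ly` is trivial

`noDouble_of_mt`: no group with one class of involutions and `C(t) = 2.A_n`, `n ≥ 8`, has a perfect double cover.
-/

set_option autoImplicit false

namespace Cfsg.Agent.KFacts.MulSpor.McLLy

open Subgroup Cfsg.Agent.KFacts.MulDef Cfsg.Agent.TypeM.Two Cfsg.Agent.McLLyComp

theorem noDouble_of_mt {X : Type*} [Group X] [Finite X] {n : ℕ} (hn : 8 ≤ n) (L : MT n X) : NoDouble X := by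
  intro J _ _ π c hd
  have hc : π.ker ≤ center J := by
    intro z hz
    rcases (hd.ker z).1 (MonoidHom.mem_ker.1 hz) with rfl | rfl
    · exact one_mem _
    · exact mem_center_iff.2 fun g => (hd.cen g).symm
  obtain ⟨m, hm, hz⟩ := CoverMT.pow_ker L hn hd.perf π hd.surj hc
  have h1 : c ^ m = 1 := hz c (MonoidHom.mem_ker.2 ((hd.ker c).2 (Or.inr rfl)))
  obtain ⟨k, rfl⟩ := hm
  rw [pow_succ, pow_mul, pow_two, hd.sq, one_pow, one_mul] at h1
  exact hd.ne h1

/-- **The multiplier of `McL` has odd order.** -/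
theorem mcl {X : Type*} [Group X] (h : Cfsg.Spor.IsoMcL X) : NoDouble X := by
  obtain ⟨hf, -, -, ⟨L⟩⟩ := Cfsg.Agent.TypeM.FactsMcL.facts h
  exact noDouble_of_mt (by norm_num) L

/-- **The multiplier of `Ly` has odd order.** -/
theorem ly {X : Type*} [Group X] (h : Cfsg.Spor.IsoLy X) : NoDouble X := by
  obtain ⟨hf, -, -, ⟨L⟩⟩ := Cfsg.Agent.TypeM.FactsLy.facts h
  exact noDouble_of_mt (by norm_num) L

end Cfsg.Agent.KFacts.MulSpor.McLLy
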