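import Cfsg.Agent.KFacts.MulBound
import Cfsg.Agent.KFacts.MulSpor.Class

/-!
# Lifting a perfect subgroup whose quotient has only one double cover (helper282)

`π : L → X` a perfect double cover with kernel `{1, c}`, `N ≤ X` with `[N, N] = N`, `f : N → Y` onto with a central
kernel of even order, `OneCover Y`.  Then `D = [π⁻¹(N), π⁻¹(N)]` is a complement of `⟨c⟩` in `π⁻¹(N)`.
-/

set_option autoImplicit false
set_option linter.style.haveILetI false

namespace Cfsg.Agent.KFacts.MulSpor.OneLift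

open Subgroup Cfsg.Agent.KFacts.MulTwo Cfsg.Agent.KFacts.MulDef Cfsg.Agent.KFacts.MulBound
open Cfsg.Agent.KFacts.MulSpor.Class
open scoped commutatorElement

universe u v w

variable {L : Type u} {X : Type v} {Y : Type w} [Group L] [Group X] [Group Y] {π : L →* X} {c : L}

/-- the lift of `N` -/
def DD (π : L →* X) (N : Subgroup X) : Subgroup L := ⁅N.comap π, N.comap π⁆

theorem DD_le (N : Subgroup X) : DD π N ≤ N.comap π := commutator_le_self _

theorem conj_mem_DD {N : Subgroup X} {g : L} (hg : ∀ n ∈ N, π g * n * (π g)⁻¹ ∈ N) {d : L} (hd : d ∈ DD π N) :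
    g * d * g⁻¹ ∈ DD π N := by
  have h1 : ∀ m ∈ N.comap π, g * m * g⁻¹ ∈ N.comap π := fun m hm => by
    rw [mem_comap, map_mul, map_mul, map_inv]
    exact hg _ hm
  have h2 : DD π N ≤ (DD π N).comap (MulAut.conj g).toMonoidHom := by
    rw [DD, commutator_le]
    intro a ha b hb
    rw [mem_comap, map_commutatorElement]
    exact commutator_mem_commutator (h1 a ha) (h1 b hb)
  exact h2 hd

theorem conj_c (hd : Dbl π c) (z : L) {x y : L} (h : π x = π y) : x * z * x⁻¹ = y * z * y⁻¹ := by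
  rcases eq_or hd h with rfl | rfl
  · rfl
  · calc c * y * z * (c * y)⁻¹ = c * (y * z * y⁻¹) * c⁻¹ := by group
      _ = y * z * y⁻¹ := by rw [hd.cen, mul_inv_cancel_right]

/-- the commutator of two elements does not depend on the lifts -/
theorem comm_eq_of_pi (hd : Dbl π c) {x x' y y' : L} (hx : π x = π x') (hy : π y = π y') : ⁅x, y⁆ = ⁅x', y'⁆ := by
  rw [commutatorElement_def, commutatorElement_def, conj_c hd y hx]
  rcases eq_or hd hy with rfl | rfl
  · rfl
  · calc x' * (c * y') * x'⁻¹ * (c * y')⁻¹ = x' * (c * y') * x'⁻¹ * y'⁻¹ * c⁻¹ := by group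
      _ = x' * (y' * c) * x'⁻¹ * y'⁻¹ * c⁻¹ := by rw [hd.cen]
      _ = x' * y' * (c * (x'⁻¹ * y'⁻¹)) * c⁻¹ := by group
      _ = x' * y' * x'⁻¹ * y'⁻¹ := by rw [hd.cen]; group

theorem exists_mem_DD (hd : Dbl π c) {N : Subgroup X} (hN : ⁅N, N⁆ = N) {n : X} (hn : n ∈ N) :
    ∃ d ∈ DD π N, π d = n := by
  have h1 : (DD π N).map π = N := by
    rw [DD, map_commutator, map_comap_eq_self_of_surjective hd.surj, hN]
  rw [← h1] at hn
  exact hn

theorem DD_perfect (hd : Dbl π c) {N : Subgroup X} (hN : ⁅N, N⁆ = N) : ⁅DD π N, DD π N⁆ = DD π N := by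
  apply le_antisymm (commutator_le_self _)
  conv_lhs => rw [DD]
  rw [commutator_le]
  intro a ha b hb
  obtain ⟨a', ha', e1⟩ := exists_mem_DD hd hN ha
  obtain ⟨b', hb', e2⟩ := exists_mem_DD hd hN hb
  rw [comm_eq_of_pi hd e1.symm e2.symm]
  exact commutator_mem_commutator ha' hb'

theorem commutator_DD (hd : Dbl π c) {N : Subgroup X} (hN : ⁅N, N⁆ = N) : commutator (DD π N) = ⊤ := by
  apply map_injective (DD π N).subtype_injective
  rw [commutator_def, map_commutator, ← MonoidHom.range_eq_map, range_subtype, DD_perfect hd hN]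

/-- an element of `D` over an element of the centre of `N` is central in `D` -/
theorem central (hd : Dbl π c) {N : Subgroup X} (hN : ⁅N, N⁆ = N) {k : L}
    (hk : ∀ n ∈ N, π k * n = n * π k) {d : L} (hdD : d ∈ DD π N) : k * d = d * k := by
  have h1 : DD π N ≤ centralizer ({k} : Set L) := by
    rw [← DD_perfect hd hN, commutator_le]
    intro a ha b hb
    have h2 : ∀ x ∈ DD π N, π (k * x * k⁻¹) = π x := fun x hx => by
      rw [map_mul, map_mul, map_inv, hk _ (DD_le N hx), mul_inv_cancel_right]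
    rw [mem_centralizer_singleton_iff]
    have h3 : k * ⁅a, b⁆ * k⁻¹ = ⁅a, b⁆ := by
      have h4 : k * ⁅a, b⁆ * k⁻¹ = ⁅k * a * k⁻¹, k * b * k⁻¹⁆ := by
        simp only [commutatorElement_def]; group
      rw [h4]
      exact comm_eq_of_pi hd (h2 a ha) (h2 b hb)
    exact (mul_inv_eq_iff_eq_mul.1 h3).symm
  exact (mem_centralizer_singleton_iff.1 (h1 hdD)).symm

/-- **`c` is not in `[π⁻¹(N), π⁻¹(N)]`.** -/
theorem not_mem [Finite L] (hd : Dbl π c) (hY : OneCover Y) {N : Subgroup X} (hN : ⁅N, N⁆ = N) {f : N →* Y}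
    (hf : Function.Surjective f) (hk : f.ker ≤ center N) (h2 : 2 ∣ Nat.card f.ker) : c ∉ DD π N := by
  intro hc
  let p : DD π N →* N :=
    { toFun := fun d => ⟨π d, DD_le N d.2⟩
      map_one' := Subtype.ext (by simp)
      map_mul' := fun a b => Subtype.ext (by simp) }
  have hp : ∀ d, (p d : X) = π d := fun _ => rfl
  have hps : Function.Surjective p := fun n => by
    obtain ⟨d, h1, h2⟩ := exists_mem_DD hd hN n.2
    exact ⟨⟨d, h1⟩, Subtype.ext h2⟩
  refine hY.not_four_dvd (K := DD π N) (commutator_DD hd hN) (f := f.comp p) (hf.comp hps) ?_ ?_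
  · intro k hk1
    rw [mem_center_iff]
    intro g
    apply Subtype.ext
    have h3 : p k ∈ center N := hk hk1
    refine (central hd hN (k := k) (fun n hn => ?_) g.2).symm
    exact (congrArg Subtype.val (mem_center_iff.1 h3 ⟨n, hn⟩)).symm
  · -- the kernel has twice the order
    let q : (f.comp p).ker →* f.ker :=
      { toFun := fun k => ⟨p k, k.2⟩
        map_one' := Subtype.ext (by simp)
        map_mul' := fun a b => Subtype.ext (by simp) }
    have hqs : Function.Surjective q := by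
      rintro ⟨n, hn⟩
      obtain ⟨d, rfl⟩ := hps n
      exact ⟨⟨d, hn⟩, rfl⟩
    have h3 := Subgroup.card_mul_index q.ker
    rw [Subgroup.index_ker, MonoidHom.range_eq_top.2 hqs, Subgroup.card_top] at h3
    have h4 : 2 ∣ Nat.card q.ker := by
      have hcp : p ⟨c, hc⟩ = 1 := Subtype.ext (pi_c hd)
      have hc1 : (⟨c, hc⟩ : DD π N) ∈ (f.comp p).ker := by
        rw [MonoidHom.mem_ker, MonoidHom.comp_apply, hcp, map_one]
      have hc2 : (⟨⟨c, hc⟩, hc1⟩ : (f.comp p).ker) ∈ q.ker := Subtype.ext hcp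
      have h5 : orderOf (⟨⟨⟨c, hc⟩, hc1⟩, hc2⟩ : q.ker) = 2 := by
        apply orderOf_eq_prime
        · rw [pow_two]
          exact Subtype.ext (Subtype.ext (Subtype.ext hd.sq))
        · intro h
          exact hd.ne (congrArg (fun x : q.ker => (((x : (f.comp p).ker) : DD π N) : L)) h)
      rw [← h5]
      exact orderOf_dvd_natCard _
    rw [← h3]
    exact Nat.mul_dvd_mul h4 h2

end Cfsg.Agent.KFacts.MulSpor.OneLift
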