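import Mathlib

/-!
# An invariant complement from fixed-point-free elements

`A` is an elementary abelian subgroup containing a central element `c ≠ 1` of the ambient group, `P` normalises `A`, and
`D ⊆ P` is a `P`-invariant set of elements which act on `A` with order dividing three and with fixed points `{1, c}`
only. If `D` is connected under the relation "the actions on `A` commute", then `⟨c⟩` has a `P`-invariant complement in
`A`.
-/

set_option autoImplicit false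

namespace Cfsg.Agent.KFacts.MulSpor.Fpf

open Subgroup

variable {L : Type*} [Group L] {c : L} {A P : Subgroup L} {D : Set L}

/-- The relation "the actions on `A` commute". -/
def Rel (A : Subgroup L) (D : Set L) (x y : L) : Prop :=
  x ∈ D ∧ y ∈ D ∧ ∀ a ∈ A, x * (y * a * y⁻¹) * x⁻¹ = y * (x * a * x⁻¹) * y⁻¹

/-- Standing hypotheses. -/
structure Hyp (c : L) (A P : Subgroup L) (D : Set L) : Prop where
  ne : c ≠ 1
  cen : ∀ x : L, c * x = x * c
  cA : c ∈ A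
  sqA : ∀ a ∈ A, a * a = 1
  norm : ∀ g ∈ P, ∀ a ∈ A, g * a * g⁻¹ ∈ A
  DP : D ⊆ P
  conj : ∀ g ∈ P, ∀ d ∈ D, g * d * g⁻¹ ∈ D
  three : ∀ d ∈ D, ∀ a ∈ A, d * (d * (d * a * d⁻¹) * d⁻¹) * d⁻¹ = a
  fpf : ∀ d ∈ D, ∀ a ∈ A, d * a * d⁻¹ = a → a = 1 ∨ a = c

namespace Hyp

variable (H : Hyp c A P D)
include H

theorem comm {x y : L} (hx : x ∈ A) (hy : y ∈ A) : x * y = y * x := by
  have h1 := H.sqA _ (mul_mem hx hy)
  have h2 : (x * y)⁻¹ = x * y := inv_eq_of_mul_eq_one_left h1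
  rw [← h2, mul_inv_rev, inv_eq_of_mul_eq_one_left (H.sqA x hx), inv_eq_of_mul_eq_one_left (H.sqA y hy)]

/-- The map `a ↦ [d, a]`. -/
noncomputable def f {d : L} (hd : d ∈ D) : A →* L where
  toFun a := d * a * d⁻¹ * a
  map_one' := by simp
  map_mul' := by
    intro a b
    have h1 : d * (b : L) * d⁻¹ ∈ A := H.norm d (H.DP hd) b b.2
    show d * ((a * b : A) : L) * d⁻¹ * ((a * b : A) : L) = d * a * d⁻¹ * a * (d * b * d⁻¹ * b)
    rw [coe_mul]
    calc d * (a * b : L) * d⁻¹ * (a * b) = (d * a * d⁻¹) * (d * b * d⁻¹ * a) * b := by group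
      _ = (d * a * d⁻¹) * (a * (d * b * d⁻¹)) * b := by rw [H.comm h1 a.2]
      _ = _ := by group

theorem f_apply {d : L} (hd : d ∈ D) (a : A) : H.f hd a = d * a * d⁻¹ * a := rfl

theorem f_mem {d : L} (hd : d ∈ D) (a : A) : H.f hd a ∈ A :=
  mul_mem (H.norm d (H.DP hd) a a.2) a.2

theorem range_le {d : L} (hd : d ∈ D) : (H.f hd).range ≤ A := by
  rintro _ ⟨a, rfl⟩
  exact H.f_mem hd a

theorem c_not_mem {d : L} (hd : d ∈ D) : c ∉ (H.f hd).range := by
  rintro ⟨a, ha⟩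
  rw [H.f_apply hd] at ha
  have haa := H.sqA a a.2
  have hcc := H.sqA c H.cA
  have h1 : d * (a : L) * d⁻¹ = c * a := by
    rw [← ha, mul_assoc (d * (a : L) * d⁻¹), haa, mul_one]
  have h2 : ∀ x : L, d * (c * x) * d⁻¹ = c * (d * x * d⁻¹) := by
    intro x
    rw [← mul_assoc, ← mul_assoc, ← mul_assoc, ← H.cen d]
  have h3 := H.three d hd a a.2
  have h4 : d * (d * (a : L) * d⁻¹) * d⁻¹ = a := by
    rw [h1, h2, h1, ← mul_assoc c c, hcc, one_mul]
  rw [h4, h1] at h3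
  exact H.ne (mul_eq_right.1 h3)

theorem ker_eq {d : L} (hd : d ∈ D) (a : A) : a ∈ (H.f hd).ker ↔ (a : L) = 1 ∨ (a : L) = c := by
  rw [MonoidHom.mem_ker, H.f_apply hd]
  have haa := H.sqA a a.2
  constructor
  · intro h
    apply H.fpf d hd a a.2
    have : d * (a : L) * d⁻¹ = (a : L)⁻¹ := eq_inv_of_mul_eq_one_left h
    rw [this, inv_eq_of_mul_eq_one_left haa]
  · rintro (h | h)
    · rw [h]; group
    · rw [h, ← H.cen d, mul_assoc c d, mul_inv_cancel, mul_one]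
      exact H.sqA c H.cA

theorem card_ker {d : L} (hd : d ∈ D) : Nat.card (H.f hd).ker = 2 := by
  rw [Nat.card_eq_two_iff]
  refine ⟨1, ⟨⟨c, H.cA⟩, (H.ker_eq hd _).2 (Or.inr rfl)⟩, ?_, ?_⟩
  · intro h
    have h' : (1 : L) = c := congrArg (fun x : (H.f hd).ker => ((x : A) : L)) h
    exact H.ne h'.symm
  · ext x
    simp only [Set.mem_insert_iff, Set.mem_singleton_iff, Set.mem_univ, iff_true]
    rcases (H.ker_eq hd x).1 x.2 with h | h
    · left; exact Subtype.ext (Subtype.ext h)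
    · right; exact Subtype.ext (Subtype.ext h)

theorem card_range [Finite L] {d : L} (hd : d ∈ D) : Nat.card A = 2 * Nat.card (H.f hd).range := by
  have h1 := Subgroup.card_eq_card_quotient_mul_card_subgroup (H.f hd).ker
  rw [H.card_ker hd, Nat.card_congr (QuotientGroup.quotientKerEquivRange (H.f hd)).toEquiv] at h1
  rw [h1, mul_comm]

theorem mem_or [Finite L] {d : L} (hd : d ∈ D) {a : L} (ha : a ∈ A) :
    a ∈ (H.f hd).range ∨ c * a ∈ (H.f hd).range := by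
  have hle := H.range_le hd
  have h2 : ((H.f hd).range.subgroupOf A).index = 2 := by
    have h1 := ((H.f hd).range.subgroupOf A).card_mul_index
    have h3 := H.card_range hd
    rw [h3, Nat.card_congr (subgroupOfEquivOfLe hle).toEquiv, mul_comm] at h1
    have h4 : 0 < Nat.card (H.f hd).range := Nat.card_pos
    exact Nat.eq_of_mul_eq_mul_right h4 h1
  by_cases h : a ∈ (H.f hd).range
  · exact Or.inl h
  · right
    have := (Subgroup.mul_mem_iff_of_index_two h2 (a := ⟨c, H.cA⟩) (b := ⟨a, ha⟩)).2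
      (iff_of_false (fun h' => H.c_not_mem hd h') (fun h' => h h'))
    exact this

theorem range_le_of_rel [Finite L] {x y : L} (hx : x ∈ D) (hy : y ∈ D)
    (h : ∀ a ∈ A, x * (y * a * y⁻¹) * x⁻¹ = y * (x * a * x⁻¹) * y⁻¹) : (H.f hx).range ≤ (H.f hy).range := by
  have hinv : ∀ u ∈ (H.f hx).range, y * u * y⁻¹ ∈ (H.f hx).range := by
    rintro _ ⟨a, rfl⟩
    refine ⟨⟨y * a * y⁻¹, H.norm y (H.DP hy) a a.2⟩, ?_⟩
    rw [H.f_apply hx, H.f_apply hx]
    show x * (y * a * y⁻¹) * x⁻¹ * (y * a * y⁻¹) = y * (x * a * x⁻¹ * a) * y⁻¹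
    rw [h a a.2]; group
  let g : (H.f hx).range → (H.f hx).range := fun u => ⟨y * u * y⁻¹ * u, mul_mem (hinv u u.2) u.2⟩
  have hg : Function.Injective g := by
    intro u v huv
    have hu : (u : L) ∈ A := H.range_le hx u.2
    have hv : (v : L) ∈ A := H.range_le hx v.2
    have huv' : y * (u : L) * y⁻¹ * u = y * v * y⁻¹ * v := congrArg Subtype.val huv
    have h1 : H.f hy ⟨u, hu⟩ = H.f hy ⟨v, hv⟩ := huv'
    have h2 : (⟨u, hu⟩ : A) * ⟨v, hv⟩ ∈ (H.f hy).ker := by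
      rw [MonoidHom.mem_ker, map_mul, h1, ← map_mul]
      have : (⟨v, hv⟩ : A) * ⟨v, hv⟩ = 1 := Subtype.ext (H.sqA v hv)
      rw [this, map_one]
    rcases (H.ker_eq hy _).1 h2 with h3 | h3
    · apply Subtype.ext
      have : (u : L) * v = 1 := h3
      rw [eq_inv_of_mul_eq_one_left this, inv_eq_of_mul_eq_one_left (H.sqA v hv)]
    · exfalso
      have h4 : (u : L) * v ∈ (H.f hx).range := mul_mem u.2 v.2
      have h5 : (u : L) * v = c := h3
      exact H.c_not_mem hx (Eq.mp (congrArg (fun w => w ∈ (H.f hx).range) h5) h4)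
  have hgs : Function.Surjective g := Finite.surjective_of_injective hg
  intro u hu
  obtain ⟨v, hv⟩ := hgs ⟨u, hu⟩
  exact ⟨⟨v, H.range_le hx v.2⟩, congrArg Subtype.val hv⟩

theorem range_eq_of_rel [Finite L] {x y : L} (hx : x ∈ D) (hy : y ∈ D)
    (h : ∀ a ∈ A, x * (y * a * y⁻¹) * x⁻¹ = y * (x * a * x⁻¹) * y⁻¹) : (H.f hx).range = (H.f hy).range :=
  le_antisymm (H.range_le_of_rel hx hy h) (H.range_le_of_rel hy hx fun a ha => (h a ha).symm)

/-- **The complement.** -/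
theorem exists_compl [Finite L] {d₀ : L} (hd₀ : d₀ ∈ D)
    (conn : ∀ d ∈ D, Relation.ReflTransGen (Rel A D) d₀ d) :
    ∃ A₁ : Subgroup L, A₁ ≤ A ∧ (∀ g ∈ P, ∀ a ∈ A₁, g * a * g⁻¹ ∈ A₁) ∧ c ∉ A₁ ∧
      ∀ a ∈ A, a ∈ A₁ ∨ c * a ∈ A₁ := by
  have heq : ∀ d (hd : d ∈ D), (H.f hd).range = (H.f hd₀).range := by
    intro d hd
    have h1 := conn d hd
    induction h1 with
    | refl => rfl
    | tail _ h2 ih => exact (H.range_eq_of_rel h2.1 h2.2.1 h2.2.2).symm.trans (ih h2.1)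
  refine ⟨(H.f hd₀).range, H.range_le hd₀, ?_, H.c_not_mem hd₀, fun a ha => H.mem_or hd₀ ha⟩
  rintro g hg _ ⟨a, rfl⟩
  have h1 : g * d₀ * g⁻¹ ∈ D := H.conj g hg d₀ hd₀
  rw [← heq _ h1]
  refine ⟨⟨g * a * g⁻¹, H.norm g hg a a.2⟩, ?_⟩
  rw [H.f_apply h1, H.f_apply hd₀]
  show g * d₀ * g⁻¹ * (g * a * g⁻¹) * (g * d₀ * g⁻¹)⁻¹ * (g * a * g⁻¹) = g * (d₀ * a * d₀⁻¹ * a) * g⁻¹
  group

end Hyp

end Cfsg.Agent.KFacts.MulSpor.Fpf
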