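import Cfsg.Agent.KFacts.MulTwo
import Cfsg.Agent.KFacts.MulSpor.Fpf

/-!
# Central extensions by an involution: subgroups of shape `2^k : A_n` of odd index

* `exists_section` : a central extension of `A_n`, `n ≥ 5`, by a group of order two splits if an involution of `A_n`
  with two orbits of length two lifts to an involution.
* `Aff.false` : no perfect group with a central involution `c` has a subgroup `P` of odd index with a map `ρ` onto
  `A_n`, `n ≥ 8`, such that the kernel `A ∋ c` of `ρ` is elementary abelian, the elements over three-cycles have no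
  fixed points on `A` outside `⟨c⟩`, and some involution lies over a double transposition.
-/

set_option autoImplicit false

namespace Cfsg.Agent.KFacts.MulSpor.AffAlt

open Subgroup Equiv
open Cfsg.Agent.KFacts.MulTwo
open Cfsg.Agent.SporadicRecognition.AltCover
open Cfsg.Agent.Lib.AltCarmichael

/-! ### Double transpositions -/

section dt

variable {α : Type*} [Fintype α] [DecidableEq α]

omit [Fintype α] in
theorem swap_mul_swap_comm {a b c d : α} (hac : a ≠ c) (had : a ≠ d) (hbc : b ≠ c) (hbd : b ≠ d) :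
    swap a b * swap c d = swap c d * swap a b := by
  have h := Equiv.swap_apply_apply (swap a b) c d
  rw [swap_apply_of_ne_of_ne hac.symm hbc.symm, swap_apply_of_ne_of_ne had.symm hbd.symm, swap_inv] at h
  calc swap a b * swap c d = swap a b * swap c d * (swap a b * swap a b) := by rw [swap_mul_self, mul_one]
    _ = (swap a b * swap c d * swap a b) * swap a b := by group
    _ = _ := by rw [← h]

/-- Two products of two disjoint transpositions are conjugate in the alternating group. -/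
theorem exists_conj {a b c d a' b' c' d' : α} (hab : a ≠ b) (hac : a ≠ c) (had : a ≠ d) (hbc : b ≠ c)
    (hbd : b ≠ d) (hcd : c ≠ d) (hab' : a' ≠ b') (hac' : a' ≠ c') (had' : a' ≠ d') (hbc' : b' ≠ c')
    (hbd' : b' ≠ d') (hcd' : c' ≠ d') :
    ∃ g : Perm α, g ∈ alternatingGroup α ∧ g * (swap a b * swap c d) * g⁻¹ = swap a' b' * swap c' d' := by
  -- a permutation with the prescribed values
  let f : Fin 4 → α := ![a, b, c, d]
  let f' : Fin 4 → α := ![a', b', c', d']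
  have hf : Function.Injective f := by
    intro i j
    fin_cases i <;> fin_cases j <;>
      simp [f, hab, hac, had, hbc, hbd, hcd, hab.symm, hac.symm, had.symm, hbc.symm, hbd.symm, hcd.symm]
  have hf' : Function.Injective f' := by
    intro i j
    fin_cases i <;> fin_cases j <;>
      simp [f', hab', hac', had', hbc', hbd', hcd', hab'.symm, hac'.symm, had'.symm, hbc'.symm, hbd'.symm,
        hcd'.symm]
  obtain ⟨g, hg⟩ : ∃ g : Perm α, ∀ i, g (f i) = f' i := by
    classical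
    let e : Set.range f ≃ Set.range f' := (Equiv.ofInjective f hf).symm.trans (Equiv.ofInjective f' hf')
    refine ⟨e.extendSubtype, fun i => ?_⟩
    have h1 := e.extendSubtype_apply_of_mem (f i) ⟨i, rfl⟩
    rw [h1]
    show ((Equiv.ofInjective f' hf') ((Equiv.ofInjective f hf).symm ⟨f i, _⟩) : α) = f' i
    have h2 : (Equiv.ofInjective f hf).symm ⟨f i, ⟨i, rfl⟩⟩ = i := by
      rw [Equiv.symm_apply_eq]; rfl
    rw [h2]; rfl
  have ga : g a = a' := hg 0
  have gb : g b = b' := hg 1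
  have gc : g c = c' := hg 2
  have gd : g d = d' := hg 3
  have key : g * (swap a b * swap c d) * g⁻¹ = swap a' b' * swap c' d' := by
    have h1 := Equiv.swap_apply_apply g a b
    have h2 := Equiv.swap_apply_apply g c d
    rw [ga, gb] at h1
    rw [gc, gd] at h2
    rw [h1, h2]; group
  rcases Int.units_eq_one_or (Perm.sign g) with h | h
  · exact ⟨g, Perm.mem_alternatingGroup.2 h, key⟩
  · refine ⟨g * swap a b, Perm.mem_alternatingGroup.2 ?_, ?_⟩
    · rw [map_mul, h, Perm.sign_swap hab]; rfl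
    · rw [← key]
      have h3 : (g * swap a b)⁻¹ = swap a b * g⁻¹ := by rw [mul_inv_rev, swap_inv]
      rw [h3]
      calc g * swap a b * (swap a b * swap c d) * (swap a b * g⁻¹)
          = g * (swap a b * swap a b) * (swap c d * swap a b) * g⁻¹ := by group
        _ = g * (swap a b * swap c d) * g⁻¹ := by
          rw [swap_mul_self, mul_one, swap_mul_swap_comm hac had hbc hbd]

end dt

/-! ### (MUL-AN) -/

theorem cyc_mul_cyc {m : ℕ} (hm : 3 ≤ m) : cyc m 0 * cyc m 1 =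
    swap (Fin.ofNat (m + 2) 0) (Fin.ofNat (m + 2) m) * swap (Fin.ofNat (m + 2) 1) (Fin.ofNat (m + 2) (m + 1)) := by
  rw [cyc_def, cyc_def]
  have h2 : swap (Fin.ofNat (m + 2) m) (Fin.ofNat (m + 2) (m + 1)) * swap (Fin.ofNat (m + 2) 1) (Fin.ofNat (m + 2) m) *
      swap (Fin.ofNat (m + 2) m) (Fin.ofNat (m + 2) (m + 1)) =
      swap (Fin.ofNat (m + 2) 1) (Fin.ofNat (m + 2) (m + 1)) := by
    have := swap_conj (a := Fin.ofNat (m + 2) (m + 1)) (b := Fin.ofNat (m + 2) m) (c := Fin.ofNat (m + 2) 1)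
      (ofNat_ne (by omega) (by omega) (by omega)) (ofNat_ne (by omega) (by omega) (by omega))
    rw [swap_comm (Fin.ofNat (m + 2) (m + 1)) (Fin.ofNat (m + 2) m),
      swap_comm (Fin.ofNat (m + 2) m) (Fin.ofNat (m + 2) 1),
      swap_comm (Fin.ofNat (m + 2) (m + 1)) (Fin.ofNat (m + 2) 1)] at this
    exact this
  rw [← h2]; simp only [mul_assoc]

/-- A central extension of `A_n` by a group of order two splits if a double transposition lifts to an involution. -/
theorem exists_section {C : Type*} [Group C] {m : ℕ} (hm : 3 ≤ m) (π : C →* alternatingGroup (Fin (m + 2))) (z : C)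
    (z_ne : z ≠ 1) (z_mul : z * z = 1) (z_comm : ∀ x, x * z = z * x) (surj : Function.Surjective π)
    (ker : ∀ x, π x = 1 ↔ x = 1 ∨ x = z) {x : C} (hx : x * x = 1) {a b c d : Fin (m + 2)} (hab : a ≠ b)
    (hac : a ≠ c) (had : a ≠ d) (hbc : b ≠ c) (hbd : b ≠ d) (hcd : c ≠ d)
    (hx' : (π x : Perm (Fin (m + 2))) = swap a b * swap c d) :
    ∃ s : alternatingGroup (Fin (m + 2)) →* C, ∀ g, π (s g) = g := by
  by_contra hno
  push Not at hno
  have H : IsCover π z := ⟨z_ne, z_mul, z_comm, surj, ker, fun s hs => by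
    obtain ⟨g, hg⟩ := hno s
    exact hg (hs g)⟩
  obtain ⟨u, hu, hu'⟩ := H.exists_cube (cy_cube (m := m) (i := 0) (by omega))
  obtain ⟨v, hv, hv'⟩ := H.exists_cube (cy_cube (m := m) (i := 1) (by omega))
  have h1 := H.sq_eq hm (i := 0) (j := 1) (by omega) (by omega) (by omega) hu hu' hv hv'
  obtain ⟨g, hg, hgc⟩ := exists_conj hab hac had hbc hbd hcd
    (ofNat_ne (m := m) (i := 0) (j := m) (by omega) (by omega) (by omega))
    (ofNat_ne (m := m) (i := 0) (j := 1) (by omega) (by omega) (by omega))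
    (ofNat_ne (m := m) (i := 0) (j := m + 1) (by omega) (by omega) (by omega))
    (ofNat_ne (m := m) (i := m) (j := 1) (by omega) (by omega) (by omega))
    (ofNat_ne (m := m) (i := m) (j := m + 1) (by omega) (by omega) (by omega))
    (ofNat_ne (m := m) (i := 1) (j := m + 1) (by omega) (by omega) (by omega))
  obtain ⟨y, hy⟩ := surj ⟨g, hg⟩
  have h2 : π (y * x * y⁻¹) = π (u * v) := by
    apply Subtype.ext
    rw [map_mul, map_mul, map_inv, map_mul, hu', hv', hy]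
    show g * (π x : Perm (Fin (m + 2))) * g⁻¹ = cyc m 0 * cyc m 1
    rw [hx', hgc, cyc_mul_cyc hm]
  have h3 : (y * x * y⁻¹) * (y * x * y⁻¹) = 1 := by
    have : (y * x * y⁻¹) * (y * x * y⁻¹) = y * (x * x) * y⁻¹ := by group
    rw [this, hx]; group
  rcases H.eq_or_of_map_eq h2 with h4 | h4
  · rw [h4, ← pow_two, h1] at h3
    exact z_ne h3
  · rw [h4] at h3
    have h5 : u * v * z * (u * v * z) = (u * v) ^ 2 * (z * z) := by
      rw [mul_assoc (u * v) z, ← z_comm (u * v * z), pow_two]; group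
    rw [h5, z_mul, mul_one, h1] at h3
    exact z_ne h3

/-! ### The contradiction -/

variable {L : Type*} [Group L] {c : L}

/-- An invariant complement `A₁` of `⟨c⟩` in the kernel of a map onto `A_n` gives a contradiction. -/
theorem false_of_invariant [Finite L] (h : Ctr c) {P A A₁ : Subgroup L} (odd : ¬ 2 ∣ P.index) (cA : c ∈ A)
    (AP : A ≤ P) {m : ℕ} (hm : 3 ≤ m) (ρ : P →* alternatingGroup (Fin (m + 2))) (surj : Function.Surjective ρ)
    (ker : ∀ g : P, ρ g = 1 ↔ (g : L) ∈ A) (hA₁ : A₁ ≤ A) (inv₁ : ∀ g ∈ P, ∀ a ∈ A₁, g * a * g⁻¹ ∈ A₁)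
    (hc₁ : c ∉ A₁) (h₁ : ∀ a ∈ A, a ∈ A₁ ∨ c * a ∈ A₁) {x : P} (hx : x * x = 1)
    {a b a' b' : Fin (m + 2)} (h1 : a ≠ b) (h2 : a ≠ a') (h3 : a ≠ b') (h4 : b ≠ a') (h5 : b ≠ b')
    (h6 : a' ≠ b') (hx' : (ρ x : Perm (Fin (m + 2))) = swap a b * swap a' b') : False := by
  have hcP : c ∈ P := AP cA
  let N : Subgroup P := A₁.subgroupOf P
  have hNn : N.Normal := ⟨fun n hn g => mem_subgroupOf.2 (inv₁ g g.2 n (mem_subgroupOf.1 hn))⟩
  have hN : ∀ g : P, (QuotientGroup.mk g : P ⧸ N) = 1 ↔ (g : L) ∈ A₁ := fun g => by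
    rw [QuotientGroup.eq_one_iff]; exact mem_subgroupOf
  let π : P ⧸ N →* alternatingGroup (Fin (m + 2)) := QuotientGroup.lift N ρ (fun g hg =>
    (ker g).2 (hA₁ (mem_subgroupOf.1 hg)))
  have hπ : ∀ g : P, π (QuotientGroup.mk g) = ρ g := fun g => rfl
  let z : P ⧸ N := QuotientGroup.mk ⟨c, hcP⟩
  have hzz : z * z = 1 := by
    show (QuotientGroup.mk (⟨c, hcP⟩ * ⟨c, hcP⟩ : P) : P ⧸ N) = 1
    have : (⟨c, hcP⟩ * ⟨c, hcP⟩ : P) = 1 := Subtype.ext h.sq
    rw [this]; rfl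
  have hz1 : z ≠ 1 := fun e => hc₁ ((hN _).1 e)
  have hzc : ∀ y : P ⧸ N, y * z = z * y := by
    intro y
    induction y using QuotientGroup.induction_on with
    | H g =>
      show (QuotientGroup.mk (g * ⟨c, hcP⟩ : P) : P ⧸ N) = QuotientGroup.mk (⟨c, hcP⟩ * g : P)
      have : (g * ⟨c, hcP⟩ : P) = ⟨c, hcP⟩ * g := Subtype.ext (h.cen g).symm
      rw [this]
  have hker : ∀ y : P ⧸ N, π y = 1 ↔ y = 1 ∨ y = z := by
    intro y
    induction y using QuotientGroup.induction_on with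
    | H g =>
      rw [hπ, ker]
      constructor
      · intro hg
        rcases h₁ g hg with e | e
        · left; exact (hN g).2 e
        · right
          have e1 : (QuotientGroup.mk (⟨c, hcP⟩ * g : P) : P ⧸ N) = 1 := (hN _).2 e
          have e2 : z * (QuotientGroup.mk g : P ⧸ N) = 1 := e1
          rw [eq_inv_of_mul_eq_one_right e2, inv_eq_of_mul_eq_one_left hzz]
      · rintro (e | e)
        · exact hA₁ ((hN g).1 e)
        · have e1 : (QuotientGroup.mk g : P ⧸ N) * (QuotientGroup.mk ⟨c, hcP⟩)⁻¹ = 1 := by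
            rw [e]; exact mul_inv_cancel z
          have e2 : (QuotientGroup.mk (g * ⟨c, hcP⟩⁻¹ : P) : P ⧸ N) = 1 := e1
          have e3 : (g : L) * c⁻¹ ∈ A := hA₁ ((hN _).1 e2)
          have := mul_mem e3 cA
          rwa [inv_mul_cancel_right] at this
  have hsurj : Function.Surjective π := fun y => by
    obtain ⟨g, rfl⟩ := surj y
    exact ⟨QuotientGroup.mk g, rfl⟩
  have hxx : (QuotientGroup.mk x : P ⧸ N) * QuotientGroup.mk x = 1 := by
    show (QuotientGroup.mk (x * x : P) : P ⧸ N) = 1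
    rw [hx]; rfl
  obtain ⟨s, hs⟩ := exists_section hm π z hz1 hzz hzc hsurj hker hxx h1 h2 h3 h4 h5 h6 hx'
  -- the complement
  refine h.false_of_compl (P₁ := (s.range.comap (QuotientGroup.mk' N)).map P.subtype) hcP odd ?_ ?_
  · rintro ⟨g, hg, hgc⟩
    have e1 : g = ⟨c, hcP⟩ := Subtype.ext hgc
    obtain ⟨y, hy⟩ := hg
    have e2 : s y = z := by rw [hy, e1]; rfl
    have e3 := hs y
    rw [e2, (hker z).2 (Or.inr rfl)] at e3
    rw [← e3, map_one] at e2
    exact hz1 e2.symm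
  · intro g hg
    have e1 : π ((QuotientGroup.mk ⟨g, hg⟩ : P ⧸ N) * (s (π (QuotientGroup.mk ⟨g, hg⟩)))⁻¹) = 1 := by
      rw [map_mul, map_inv, hs, mul_inv_cancel]
    rcases (hker _).1 e1 with e2 | e2
    · left
      refine ⟨⟨g, hg⟩, ?_, rfl⟩
      show (QuotientGroup.mk ⟨g, hg⟩ : P ⧸ N) ∈ s.range
      rw [mul_inv_eq_one.1 e2]
      exact ⟨_, rfl⟩
    · right
      refine ⟨⟨c, hcP⟩ * ⟨g, hg⟩, ?_, rfl⟩
      show z * (QuotientGroup.mk ⟨g, hg⟩ : P ⧸ N) ∈ s.range
      have e3 : (QuotientGroup.mk ⟨g, hg⟩ : P ⧸ N) = z * s (π (QuotientGroup.mk ⟨g, hg⟩)) :=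
        mul_inv_eq_iff_eq_mul.1 e2
      have e4 : z * (QuotientGroup.mk ⟨g, hg⟩ : P ⧸ N) = s (π (QuotientGroup.mk ⟨g, hg⟩)) := by
        calc z * (QuotientGroup.mk ⟨g, hg⟩ : P ⧸ N) = z * (z * s (π (QuotientGroup.mk ⟨g, hg⟩))) :=
              congrArg (z * ·) e3
          _ = _ := by rw [← mul_assoc, hzz, one_mul]
      rw [e4]
      exact ⟨_, rfl⟩

/-- Three-cycles of `Fin n`, `n ≥ 8`, are connected by at most two steps of disjointness. -/
theorem exists_disjoint {n : ℕ} (hn : 8 ≤ n) {σ τ : Perm (Fin n)} (hσ : σ.IsThreeCycle) (hτ : τ.IsThreeCycle)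
    (hne : ¬ σ.Disjoint τ) : ∃ μ : Perm (Fin n), μ.IsThreeCycle ∧ σ.Disjoint μ ∧ μ.Disjoint τ := by
  classical
  have h1 : (σ.support ∪ τ.support).card ≤ 5 := by
    have h2 := Finset.card_union_add_card_inter σ.support τ.support
    rw [hσ.card_support, hτ.card_support] at h2
    have h3 : (σ.support ∩ τ.support).Nonempty := by
      rw [Finset.nonempty_iff_ne_empty, Ne, ← Finset.disjoint_iff_inter_eq_empty, ← Perm.disjoint_iff_disjoint_support]
      exact hne
    have h4 := h3.card_pos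
    omega
  have h2 : 3 ≤ (σ.support ∪ τ.support)ᶜ.card := by
    rw [Finset.card_compl, Fintype.card_fin]; omega
  obtain ⟨x, y, z, hx, hy, hz, hxy, hxz, hyz⟩ := Finset.two_lt_card_iff.1 (show 2 < (σ.support ∪ τ.support)ᶜ.card by omega)
  rw [Finset.mem_compl, Finset.mem_union, not_or, Perm.notMem_support, Perm.notMem_support] at hx hy hz
  refine ⟨swap x y * swap x z, Perm.isThreeCycle_swap_mul_swap_same hxy hxz hyz, ?_, ?_⟩
  · intro w
    by_cases h : w = x ∨ w = y ∨ w = z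
    · left
      rcases h with rfl | rfl | rfl
      · exact hx.1
      · exact hy.1
      · exact hz.1
    · right
      push Not at h
      rw [Perm.mul_apply, swap_apply_of_ne_of_ne h.1 h.2.2, swap_apply_of_ne_of_ne h.1 h.2.1]
  · intro w
    by_cases h : w = x ∨ w = y ∨ w = z
    · right
      rcases h with rfl | rfl | rfl
      · exact hx.2
      · exact hy.2
      · exact hz.2
    · left
      push Not at h
      rw [Perm.mul_apply, swap_apply_of_ne_of_ne h.1 h.2.2, swap_apply_of_ne_of_ne h.1 h.2.1]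

/-- Data: a subgroup of odd index with a map onto `A_n`. -/
structure Aff {L : Type*} [Group L] (c : L) (P A : Subgroup L) {m : ℕ}
    (ρ : P →* alternatingGroup (Fin (m + 2))) : Prop where
  odd : ¬ 2 ∣ P.index
  cA : c ∈ A
  AP : A ≤ P
  ker : ∀ g : P, ρ g = 1 ↔ (g : L) ∈ A
  surj : Function.Surjective ρ
  sqA : ∀ a ∈ A, a * a = 1
  fpf : ∀ d : P, (ρ d : Perm (Fin (m + 2))).IsThreeCycle → ∀ a ∈ A, d * a * (d : L)⁻¹ = a → a = 1 ∨ a = c
  inv : ∃ x : P, x * x = 1 ∧ ∃ a b a' b' : Fin (m + 2), a ≠ b ∧ a ≠ a' ∧ a ≠ b' ∧ b ≠ a' ∧ b ≠ b' ∧ a' ≠ b' ∧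
    (ρ x : Perm (Fin (m + 2))) = swap a b * swap a' b'

namespace Aff

variable {P A : Subgroup L} {m : ℕ} {ρ : P →* alternatingGroup (Fin (m + 2))}

theorem norm (H : Aff c P A ρ) : ∀ g ∈ P, ∀ a ∈ A, g * a * g⁻¹ ∈ A := by
  intro g hg a ha
  have h1 : ρ (⟨g, hg⟩ * ⟨a, H.AP ha⟩ * ⟨g, hg⟩⁻¹) = 1 := by
    rw [map_mul, map_mul, (H.ker ⟨a, H.AP ha⟩).2 ha, mul_one, map_inv, mul_inv_cancel]
  exact (H.ker _).1 h1

theorem comm (H : Aff c P A ρ) {x y : L} (hx : x ∈ A) (hy : y ∈ A) : x * y = y * x := by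
  have h1 := H.sqA _ (mul_mem hx hy)
  have h2 : (x * y)⁻¹ = x * y := inv_eq_of_mul_eq_one_left h1
  rw [← h2, mul_inv_rev, inv_eq_of_mul_eq_one_left (H.sqA x hx), inv_eq_of_mul_eq_one_left (H.sqA y hy)]

/-- the elements over three-cycles -/
def D (ρ : P →* alternatingGroup (Fin (m + 2))) : Set L :=
  {d | ∃ h : d ∈ P, (ρ ⟨d, h⟩ : Perm (Fin (m + 2))).IsThreeCycle}

/-- elements with the same image act in the same way -/
theorem act_eq (H : Aff c P A ρ) {g k : P} (h : ρ g = ρ k) {a : L} (ha : a ∈ A) :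
    g * a * (g : L)⁻¹ = k * a * (k : L)⁻¹ := by
  have h1 : (k⁻¹ * g : P) = (k⁻¹ * g : P) := rfl
  have h2 : ((k⁻¹ * g : P) : L) ∈ A := (H.ker _).1 (by rw [map_mul, map_inv, h, inv_mul_cancel])
  have h3 := H.comm h2 ha
  have h4 : (g : L) = k * ((k⁻¹ * g : P) : L) := by
    rw [coe_mul, coe_inv]; group
  calc (g : L) * a * (g : L)⁻¹ = k * (((k⁻¹ * g : P) : L) * a) * ((k⁻¹ * g : P) : L)⁻¹ * (k : L)⁻¹ := by
        conv_lhs => rw [h4]
        group
    _ = k * a * (k : L)⁻¹ := by rw [h3]; group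

theorem fpfHyp (h : Ctr c) (H : Aff c P A ρ) : Fpf.Hyp c A P (D ρ) where
  ne := h.ne
  cen := h.cen
  cA := H.cA
  sqA := H.sqA
  norm := H.norm
  DP := fun _ hd => hd.1
  conj := by
    rintro g hg d ⟨hd, hd'⟩
    refine ⟨mul_mem (mul_mem hg hd) (inv_mem hg), ?_⟩
    have : ρ ⟨g * d * g⁻¹, mul_mem (mul_mem hg hd) (inv_mem hg)⟩ = ρ ⟨g, hg⟩ * ρ ⟨d, hd⟩ * (ρ ⟨g, hg⟩)⁻¹ := by
      rw [← map_inv, ← map_mul, ← map_mul]; rfl
    rw [this]
    show (Perm.IsThreeCycle ((ρ ⟨g, hg⟩ : Perm (Fin (m + 2))) * (ρ ⟨d, hd⟩ : Perm (Fin (m + 2))) *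
      (ρ ⟨g, hg⟩ : Perm (Fin (m + 2)))⁻¹))
    rw [Perm.IsThreeCycle, Perm.cycleType_conj]
    exact hd'
  three := by
    rintro d ⟨hd, hd'⟩ a ha
    have h1 : ρ (⟨d, hd⟩ * ⟨d, hd⟩ * ⟨d, hd⟩) = ρ 1 := by
      rw [map_mul, map_mul, map_one]
      have := hd'.orderOf
      have h2 : (ρ ⟨d, hd⟩ : Perm (Fin (m + 2))) ^ 3 = 1 := by rw [← this]; exact pow_orderOf_eq_one _
      apply Subtype.ext
      rw [pow_succ, pow_two] at h2
      exact h2
    have h2 := H.act_eq h1 ha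
    rw [coe_mul, coe_mul, coe_one] at h2
    calc d * (d * (d * a * d⁻¹) * d⁻¹) * d⁻¹ = d * d * d * a * (d * d * d)⁻¹ := by group
      _ = 1 * a * 1⁻¹ := h2
      _ = a := by group
  fpf := by
    rintro d ⟨hd, hd'⟩ a ha hda
    exact H.fpf ⟨d, hd⟩ hd' a ha hda

theorem rel (H : Aff c P A ρ) {x y : P} (hx : (ρ x : Perm (Fin (m + 2))).IsThreeCycle)
    (hy : (ρ y : Perm (Fin (m + 2))).IsThreeCycle) (hxy : (ρ x : Perm (Fin (m + 2))).Disjoint (ρ y)) :
    Fpf.Rel A (D ρ) (x : L) y := by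
  refine ⟨⟨x.2, hx⟩, ⟨y.2, hy⟩, fun a ha => ?_⟩
  have h1 : ρ (x * y) = ρ (y * x) := by
    rw [map_mul, map_mul]
    exact Subtype.ext hxy.commute
  have h2 := H.act_eq h1 ha
  rw [coe_mul, coe_mul] at h2
  calc (x : L) * (y * a * (y : L)⁻¹) * (x : L)⁻¹ = x * y * a * ((x : L) * y)⁻¹ := by group
    _ = y * x * a * ((y : L) * x)⁻¹ := h2
    _ = _ := by group

/-- **There is no perfect group with a central involution `c` and a subgroup of this kind.** -/
theorem false [Finite L] (h : Ctr c) (hm : 6 ≤ m) (H : Aff c P A ρ) : False := by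
  classical
  -- a three-cycle
  have hn : 8 ≤ m + 2 := by omega
  have hF : ∀ σ : Perm (Fin (m + 2)), σ.IsThreeCycle → ∃ g : P, (ρ g : Perm (Fin (m + 2))) = σ := by
    intro σ hσ
    obtain ⟨g, hg⟩ := H.surj ⟨σ, hσ.mem_alternatingGroup⟩
    exact ⟨g, by rw [hg]⟩
  have h01 : (Fin.ofNat (m + 2) 0) ≠ Fin.ofNat (m + 2) 1 := ofNat_ne (by omega) (by omega) (by omega)
  have h02 : (Fin.ofNat (m + 2) 0) ≠ Fin.ofNat (m + 2) 2 := ofNat_ne (by omega) (by omega) (by omega)
  have h12 : (Fin.ofNat (m + 2) 1) ≠ Fin.ofNat (m + 2) 2 := ofNat_ne (by omega) (by omega) (by omega)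
  have hσ₀ := Perm.isThreeCycle_swap_mul_swap_same h01 h02 h12
  obtain ⟨d₀, hd₀⟩ := hF _ hσ₀
  have hd₀' : (ρ d₀ : Perm (Fin (m + 2))).IsThreeCycle := by rw [hd₀]; exact hσ₀
  obtain ⟨A₁, hA₁, inv₁, hc₁, h₁⟩ := (H.fpfHyp h).exists_compl (d₀ := d₀) ⟨d₀.2, hd₀'⟩ (by
    rintro d ⟨hd, hd'⟩
    by_cases hdis : (ρ d₀ : Perm (Fin (m + 2))).Disjoint (ρ ⟨d, hd⟩)
    · exact Relation.ReflTransGen.single (H.rel (y := ⟨d, hd⟩) hd₀' hd' hdis)
    · obtain ⟨μ, hμ, h1, h2⟩ := exists_disjoint hn hd₀' hd' hdis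
      obtain ⟨e, he⟩ := hF μ hμ
      rw [← he] at hμ h1 h2
      exact (Relation.ReflTransGen.single (H.rel hd₀' hμ h1)).tail (H.rel (y := ⟨d, hd⟩) hμ hd' h2))
  obtain ⟨x, hx, a, b, a', b', e1, e2, e3, e4, e5, e6, hx'⟩ := H.inv
  exact false_of_invariant h H.odd H.cA H.AP (by omega) ρ H.surj H.ker hA₁ inv₁ hc₁ h₁ hx e1 e2 e3 e4 e5 e6 hx'

end Aff

end Cfsg.Agent.KFacts.MulSpor.AffAlt
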