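import Cfsg.Agent.KFacts.MulSpor.AffCarm
import Cfsg.Agent.KFacts.MulSpor.CoThreeTab
import Cfsg.Agent.Schreier.CoThreeCent

/-!
# The Schur multiplier of Conway's group Co3 has odd order

`noDouble : NoDouble Cfsg.Spor.Co3`, from the subgroup `2^4 . A_8` of odd index (`AffCarm`).
-/

set_option autoImplicit false

namespace Cfsg.Agent.KFacts.MulSpor.CoThree

open Cfsg.Agent.SporadicStructure.PermChain Cfsg.Agent.McLType.Chain Cfsg.Agent.Schreier.CoThreeGens
open Cfsg.Agent.KFacts.MulSpor.CoThreeTab Cfsg.Agent.KFacts.MulDef
open Cfsg.Agent.LeechPack.X552 Cfsg.Agent.Schreier.CoThreeCent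

/-! ### Elements described by tables -/

section el

variable {w m : ℕ} {K : Subgroup (Equiv.Perm (Fin m))} {ts : List ℕ} (hT : ∀ t ∈ ts, InK w K t)

open Classical in
/-- The element of `K` with the table number `k`. -/
noncomputable def el (k : ℕ) : K :=
  if h : k < ts.length then ⟨(hT _ (List.getElem_mem h)).choose, (hT _ (List.getElem_mem h)).choose_spec.1⟩ else 1

theorem el_val {k : ℕ} (h : k < ts.length) (p : Fin m) :
    (((el hT k : K) : Equiv.Perm (Fin m)) p : ℕ) = look w (ts.getD k 0) p := by
  have e : el hT k = ⟨(hT _ (List.getElem_mem h)).choose, (hT _ (List.getElem_mem h)).choose_spec.1⟩ := dif_pos h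
  rw [e, List.getD_eq_getElem _ _ h]
  exact (hT _ (List.getElem_mem h)).choose_spec.2 p

theorem prod_val (l : List ℕ) (hl : ∀ s ∈ l, s < ts.length) (p : Fin m) :
    ((((l.map (el hT)).prod : K) : Equiv.Perm (Fin m)) p : ℕ) = evalWord w ts l p := by
  have h1 : (((l.map (el hT)).prod : K) : Equiv.Perm (Fin m)) =
      (l.map fun k => ((el hT k : K) : Equiv.Perm (Fin m))).prod := by
    induction l with
    | nil => rfl
    | cons s l ih =>
      rw [List.map_cons, List.prod_cons, List.map_cons, List.prod_cons, Subgroup.coe_mul,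
        ih fun s hs => hl s (List.mem_cons_of_mem _ hs)]
  rw [h1]
  exact evalWord_spec ts (fun k => ((el hT k : K) : Equiv.Perm (Fin m))) l (fun s hs p => el_val hT (hl s hs) p) p

theorem prod_eq {l l' : List ℕ} (hl : ∀ s ∈ l, s < ts.length) (hl' : ∀ s ∈ l', s < ts.length)
    (h : allBelow (fun p => Nat.beq (evalWord w ts l p) (evalWord w ts l' p)) m = true) :
    (l.map (el hT)).prod = (l'.map (el hT)).prod := by
  apply Subtype.ext
  apply Equiv.ext
  intro p
  apply Fin.ext
  rw [prod_val hT l hl, prod_val hT l' hl']
  exact Nat.eq_of_beq_eq_true (allBelow_spec _ _ h p p.2)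

end el

/-! ### The relations -/

theorem blt_of {a b : ℕ} (h : Nat.blt a b = true) : a < b := by rwa [Nat.blt_eq] at h

theorem beq_of {a b : ℕ} (h : a = b) : Nat.beq a b = true := by rw [h]; exact Nat.beq_refl b

/-- The elements. -/
noncomputable def e (k : ℕ) : K0 := el inT k

theorem rel {l l' : List ℕ} (h : same l l' = true) : (l.map e).prod = (l'.map e).prod := by
  unfold same at h
  rw [Bool.and_eq_true, Bool.and_eq_true, List.all_eq_true, List.all_eq_true] at h
  exact prod_eq inT (fun s hs => blt_of (h.1.1 s hs)) (fun s hs => blt_of (h.1.2 s hs)) h.2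

theorem below {p : ℕ → Bool} {n : ℕ} (h : allBelow p n = true) {x : ℕ} (hx : x < n) : p x = true :=
  allBelow_spec p n h x hx

theorem dat (hcard : ∃ l, Nat.card K0 = 2 ^ 4 * Nat.card (alternatingGroup (Fin (6 + 2))) * (2 * l + 1)) :
    AffCarm.Dat 4 6 e (fun i => e (16 + i)) act sqr where
  inj := by
    intro n hn k hk h
    have h1 := below (below chk_inj hn) hk
    have hn' : n < T.length := lt_of_lt_of_le hn (by decide)
    have hk' : k < T.length := lt_of_lt_of_le hk (by decide)
    have h2 : Nat.beq (evalWord 10 T [n] 0) (evalWord 10 T [k] 0) = true := by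
      have e1 := el_val inT hn' 0
      have e2 := el_val inT hk' 0
      have e3 : el inT n = el inT k := h
      rw [e3] at e1
      have e4 : look 10 (T.getD n 0) ((0 : Fin 552) : ℕ) = look 10 (T.getD k 0) ((0 : Fin 552) : ℕ) :=
        e1.symm.trans e2
      exact beq_of e4
    simp only [h2, Bool.not_true, Bool.false_or] at h1
    exact Nat.eq_of_beq_eq_true h1
  mul := by
    intro n hn k hk
    have := rel (below (below chk_mul hn) hk)
    simpa using this
  act_lt := by
    intro i hi n hn
    have := below (below chk_conj hi) hn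
    rw [Bool.and_eq_true] at this
    exact blt_of this.2
  conj := by
    intro i hi n hn
    have h1 := below (below chk_conj hi) hn
    rw [Bool.and_eq_true] at h1
    have := rel h1.1
    simpa using this
  cube := by
    intro i hi
    have := rel (below chk_cube hi)
    simp only [List.map_cons, List.map_nil, List.prod_cons, List.prod_nil, mul_one] at this
    rw [pow_succ, pow_two, mul_assoc]
    exact this
  sq_lt := by
    intro i hi j hj
    have := below (below chk_sq hi) hj
    rw [Bool.and_eq_true] at this
    exact blt_of this.2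
  sq := by
    intro i hi j hj hij
    have h1 := below (below chk_sq hi) hj
    rw [Bool.and_eq_true, Bool.or_eq_true] at h1
    have h2 : same [16 + i, 16 + j, 16 + i, 16 + j] [sqr i j] = true :=
      h1.1.resolve_left fun h => hij (Nat.eq_of_beq_eq_true h)
    have := rel h2
    simp only [List.map_cons, List.map_nil, List.prod_cons, List.prod_nil, mul_one] at this
    rw [pow_two, mul_assoc]
    exact this
  fp := by
    intro n hn h
    have h1 := below chk_fp hn
    rw [h] at h1
    have h2 : Nat.beq n n = true := Nat.beq_refl n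
    simp only [h2, Bool.not_true, Bool.false_or] at h1
    exact Nat.eq_of_beq_eq_true h1
  trans := by
    intro n hn hn0
    have h1 := below chk_trans hn
    rw [Bool.or_eq_true] at h1
    have h2 := rel (h1.resolve_left fun h => hn0 (Nat.eq_of_beq_eq_true h))
    refine ⟨((tw.getD n []).map e).prod, ?_⟩
    rw [List.map_append, List.prod_append, List.map_cons, List.prod_cons, List.map_cons, List.map_nil,
      List.prod_nil, mul_one, List.prod_cons] at h2
    rw [h2, mul_inv_cancel_right]
  inv := by
    refine ⟨1, by norm_num, e 22, ?_⟩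
    have := rel chk_inv
    simp only [List.map_cons, List.map_nil, List.prod_cons, List.prod_nil, mul_one] at this
    show e 22 * (e 16 * e 17 * e 1) * (e 22)⁻¹ = e 1
    rw [mul_inv_eq_iff_eq_mul, ← this]
    group
  card := hcard

theorem card_alt : Nat.card (alternatingGroup (Fin (6 + 2))) = 20160 := by
  have : Nontrivial (Fin (6 + 2)) := ⟨⟨0, 1, by decide⟩⟩
  have h := two_mul_card_alternatingGroup (α := Fin (6 + 2))
  rw [Fintype.card_perm, Fintype.card_fin] at h
  rw [Nat.card_eq_fintype_card]
  have h2 : (6 + 2).factorial = 40320 := by decide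
  omega

theorem card_K0 : Nat.card K0 = 495766656000 := by
  rw [K0_eq]; exact card_range

theorem noDouble_K0 : NoDouble K0 :=
  (dat ⟨768487, by rw [card_K0, card_alt]; norm_num⟩).noDouble (by norm_num) (by norm_num)

theorem noDouble_G3 : NoDouble G3 := by
  have h : NoDouble ψ.range := by rw [← K0_eq]; exact noDouble_K0
  exact h.congr (MonoidHom.ofInjective ψ_injective).symm

/-- **The multiplier of Co3 has odd order.** -/
theorem noDouble : NoDouble Cfsg.Spor.Co3 := by
  obtain ⟨i⟩ := isoCo3_G3
  exact noDouble_G3.congr i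

/-- No double cover for every group isomorphic to Co3. -/
theorem noDouble_of_iso {G : Type*} [Group G] (h : Cfsg.Spor.IsoCo3 G) : NoDouble G := by
  obtain ⟨i⟩ := h
  exact noDouble.congr i.symm

end Cfsg.Agent.KFacts.MulSpor.CoThree
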