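import Cfsg.Agent.KFacts.MulM24
import Cfsg.Agent.KFacts.MulDef
import Cfsg.Agent.Schreier.CocodeSmall
import Cfsg.Agent.SporadicA.MathieuRecog
import Cfsg.Agent.SporadicA.M24Trans
import Cfsg.Agent.SporadicA.Dodecad
import Cfsg.Agent.SporadicStructure.OctadSpan
import Cfsg.Agent.S0363
import Cfsg.Agent.S0367

/-!
# Double covers of a group with a subgroup `2 ^ 11 : M24` of odd index (even cocode)

`Setup e ι φ`: `ι : A → X` embeds the even Golay cocode, `φ : M24 → X`, `φ m` acts on the duads `ι (e i * e j)` by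
permutation of the points.  `Setup.noDouble`: if the subgroup `ι A · φ M24` has odd index then the finite group `X` has
no perfect double cover.

The pointwise stabiliser `M22` of two points is simple, hence the duads lift equivariantly; the constants are killed by
the 5-transitivity of `M24` and by the octads.
-/

set_option autoImplicit false

open Cfsg

namespace Cfsg.Agent.KFacts.MulSpor.CocodeLift

open Subgroup
open Cfsg.Agent.J4Type.DuadStab Cfsg.Agent.Schreier.CocodeSmall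
open Cfsg.Agent.KFacts.MulTwo Cfsg.Agent.KFacts.MulDef Cfsg.Agent.KFacts.MulCov
open scoped commutatorElement

/-! ### Transitivity -/

theorem exists_map {k : ℕ} (hk : k ≤ 5) {a b : Fin k → GolayPt} (ha : Function.Injective a)
    (hb : Function.Injective b) : ∃ m : M24, ∀ i, (m : Equiv.Perm GolayPt) (a i) = b i := by
  have h5 := Cfsg.Agent.SporadicA.M24Trans.five_transitive
  have hk' : MulAction.IsMultiplyPretransitive M24 GolayPt k := by
    refine MulAction.isMultiplyPretransitive_of_le (n := 5) hk ?_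
    have : Nat.card GolayPt = 24 := by
      rw [Nat.card_eq_fintype_card]; decide
    rw [this]
    norm_num
  obtain ⟨g, hg⟩ := (MulAction.isMultiplyPretransitive_iff.1 hk') ⟨a, ha⟩ ⟨b, hb⟩
  exact ⟨g, fun i => DFunLike.congr_fun hg i⟩

theorem inj_three {p q r : GolayPt} (h1 : p ≠ q) (h2 : p ≠ r) (h3 : q ≠ r) :
    Function.Injective (![p, q, r] : Fin 3 → GolayPt) := by
  intro i j hij
  fin_cases i <;> fin_cases j <;> simp_all [eq_comm]

theorem inj_four {p q r s : GolayPt} (h1 : p ≠ q) (h2 : p ≠ r) (h3 : p ≠ s) (h4 : q ≠ r) (h5 : q ≠ s) (h6 : r ≠ s) :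
    Function.Injective (![p, q, r, s] : Fin 4 → GolayPt) := by
  intro i j hij
  fin_cases i <;> fin_cases j <;> simp_all [eq_comm]

theorem exists_two {p q p' q' : GolayPt} (h1 : p ≠ q) (h1' : p' ≠ q') :
    ∃ m : M24, (m : Equiv.Perm GolayPt) p = p' ∧ (m : Equiv.Perm GolayPt) q = q' := by
  have hinj : ∀ {p q : GolayPt}, p ≠ q → Function.Injective (![p, q] : Fin 2 → GolayPt) := by
    intro p q h i j hij
    fin_cases i <;> fin_cases j <;> simp_all [eq_comm]
  obtain ⟨m, hm⟩ := exists_map (by norm_num) (hinj h1) (hinj h1')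
  exact ⟨m, hm 0, hm 1⟩

theorem exists_three {p q r p' q' r' : GolayPt} (h1 : p ≠ q) (h2 : p ≠ r) (h3 : q ≠ r) (h1' : p' ≠ q')
    (h2' : p' ≠ r') (h3' : q' ≠ r') : ∃ m : M24, (m : Equiv.Perm GolayPt) p = p' ∧
      (m : Equiv.Perm GolayPt) q = q' ∧ (m : Equiv.Perm GolayPt) r = r' := by
  obtain ⟨m, hm⟩ := exists_map (by norm_num) (inj_three h1 h2 h3) (inj_three h1' h2' h3')
  exact ⟨m, hm 0, hm 1, hm 2⟩

theorem exists_four {p q r s p' q' r' s' : GolayPt} (h1 : p ≠ q) (h2 : p ≠ r) (h3 : p ≠ s) (h4 : q ≠ r)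
    (h5 : q ≠ s) (h6 : r ≠ s) (h1' : p' ≠ q') (h2' : p' ≠ r') (h3' : p' ≠ s') (h4' : q' ≠ r')
    (h5' : q' ≠ s') (h6' : r' ≠ s') : ∃ m : M24, (m : Equiv.Perm GolayPt) p = p' ∧
      (m : Equiv.Perm GolayPt) q = q' ∧ (m : Equiv.Perm GolayPt) r = r' ∧ (m : Equiv.Perm GolayPt) s = s' := by
  obtain ⟨m, hm⟩ := exists_map (by norm_num) (inj_four h1 h2 h3 h4 h5 h6) (inj_four h1' h2' h3' h4' h5' h6')
  exact ⟨m, hm 0, hm 1, hm 2, hm 3⟩

/-- octads through at most five points -/
theorem exists_octad {s : Finset GolayPt} (hs : s.card ≤ 5) : ∃ O ∈ octads, s ⊆ O := by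
  obtain ⟨t, hst, ht⟩ := Finset.exists_superset_card_eq hs (by decide : 5 ≤ Fintype.card GolayPt)
  obtain ⟨b, ⟨hb, hb'⟩, -⟩ := (Cfsg.Agent.S0363.result).2 t ht
  exact ⟨b, hb, hst.trans hb'⟩

/-! ### The setting -/

/-- the even cocode and `M24` acting on it -/
structure Setup {A X : Type*} [CommGroup A] [Group X] (e : GolayPt → A) (ι : A →* X) (φ : M24 →* X) : Prop where
  pres : Pres e
  inj : Function.Injective ι
  conj : ∀ (m : M24) (i j : GolayPt), φ m * ι (e i * e j) * (φ m)⁻¹ =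
    ι (e ((m : Equiv.Perm GolayPt) i) * e ((m : Equiv.Perm GolayPt) j))

/-- a central extension of `X` by `{1, c}` with a lift `ψ` of `φ` -/
structure Lft {A X L : Type*} [CommGroup A] [Group X] [Group L] (e : GolayPt → A) (ι : A →* X) (φ : M24 →* X)
    (π : L →* X) (c : L) (ψ : M24 →* L) : Prop extends Setup e ι φ where
  ext : Ext π c
  lift : ∀ m, π (ψ m) = φ m

namespace Lft

variable {A X L : Type*} [CommGroup A] [Group X] [Group L] {e : GolayPt → A} {ι : A →* X} {φ : M24 →* X}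
  {π : L →* X} {c : L} {ψ : M24 →* L} (h : Lft e ι φ π c ψ)

include h

theorem cen {x : L} (hx : π x = 1) (y : L) : x * y = y * x := by
  rcases (h.ext.ker x).1 hx with rfl | rfl
  · rw [one_mul, mul_one]
  · exact h.ext.cen y

theorem sq_ker {x : L} (hx : π x = 1) : x * x = 1 := by
  rcases (h.ext.ker x).1 hx with rfl | rfl
  · rw [one_mul]
  · exact h.ext.sq

theorem fixz {x : L} (hx : π x = 1) (m : M24) : ψ m * x * (ψ m)⁻¹ = x := by
  rw [← h.cen hx, mul_inv_cancel_right]

/-- `M22` centralises the lifts of the base duad. -/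
theorem fix_base {t : L} (ht : π t = ι (e none * e (some 0))) {m : M24}
    (h0 : (m : Equiv.Perm GolayPt) none = none) (h1 : (m : Equiv.Perm GolayPt) (some 0) = some 0) :
    ψ m * t * (ψ m)⁻¹ = t := by
  have hz : ∀ m : M24, (m : Equiv.Perm GolayPt) none = none → (m : Equiv.Perm GolayPt) (some 0) = some 0 →
      π (ψ m * t * (ψ m)⁻¹ * t⁻¹) = 1 := by
    intro m h0 h1
    rw [map_mul, map_mul, map_mul, map_inv, map_inv, h.lift, ht, h.conj, h0, h1, mul_inv_cancel]
  have hle : ∀ g : Cfsg.Spor.M22, (g : Equiv.Perm GolayPt) ∈ M24 := fun g =>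
    ((Cfsg.Agent.SporadicA.MathieuRecog.mem_M22_iff _).1 g.2).1
  have hfx := fun g : Cfsg.Spor.M22 => ((Cfsg.Agent.SporadicA.MathieuRecog.mem_M22_iff _).1 g.2).2
  let z : Cfsg.Spor.M22 →* L :=
    { toFun := fun g => ψ ⟨g, hle g⟩ * t * (ψ ⟨g, hle g⟩)⁻¹ * t⁻¹
      map_one' := by
        have : (⟨((1 : Cfsg.Spor.M22) : Equiv.Perm GolayPt), hle 1⟩ : M24) = 1 := rfl
        rw [this, map_one, one_mul, inv_one, mul_one, mul_inv_cancel]
      map_mul' := fun a b => by
        have e1 : (⟨((a * b : Cfsg.Spor.M22) : Equiv.Perm GolayPt), hle (a * b)⟩ : M24) =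
          ⟨a, hle a⟩ * ⟨b, hle b⟩ := rfl
        rw [e1, map_mul]
        have h2 := h.cen (hz ⟨b, hle b⟩ (hfx b).1 (hfx b).2)
        generalize ψ ⟨a, hle a⟩ = u at h2 ⊢
        generalize hv : ψ ⟨b, hle b⟩ * t * (ψ ⟨b, hle b⟩)⁻¹ * t⁻¹ = v at h2 ⊢
        generalize ψ ⟨b, hle b⟩ = w at hv
        have h3 : w * t * w⁻¹ = v * t := by rw [← hv]; group
        calc u * w * t * (u * w)⁻¹ * t⁻¹ = u * (w * t * w⁻¹) * u⁻¹ * t⁻¹ := by group
          _ = (u * v) * t * u⁻¹ * t⁻¹ := by rw [h3]; group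
          _ = v * (u * t * u⁻¹ * t⁻¹) := by rw [← h2 u]; group
          _ = _ := h2 _ }
  have hsimp := Cfsg.Agent.SporadicA.MathieuRecog.simple_M22
  have hker : z.ker = ⊤ := by
    rcases IsSimpleGroup.eq_bot_or_eq_top_of_normal z.ker inferInstance with h2 | h2
    · exfalso
      have hinj : Function.Injective z := (MonoidHom.ker_eq_bot_iff z).1 h2
      have hval : ∀ g, z g = 1 ∨ z g = c := fun g => (h.ext.ker _).1 (hz _ (hfx g).1 (hfx g).2)
      classical
      let f : Cfsg.Spor.M22 → Bool := fun g => decide (z g = 1)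
      have hf : Function.Injective f := by
        intro a b hab
        apply hinj
        by_cases ha : z a = 1
        · have hb : z b = 1 := by
            have h3 : f a = true := decide_eq_true ha
            rw [hab] at h3
            exact of_decide_eq_true h3
          rw [ha, hb]
        · have hb : z b ≠ 1 := by
            have h3 : f a = false := decide_eq_false ha
            rw [hab] at h3
            exact of_decide_eq_false h3
          rw [(hval a).resolve_left ha, (hval b).resolve_left hb]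
      have h3 := Nat.card_le_card_of_injective f hf
      rw [Cfsg.Agent.SporadicA.MathieuRecog.card_M22, Nat.card_eq_fintype_card, Fintype.card_bool] at h3
      omega
    · exact h2
  have h2 : (⟨(m : Equiv.Perm GolayPt), (Cfsg.Agent.SporadicA.MathieuRecog.mem_M22_iff _).2 ⟨m.2, h0, h1⟩⟩ :
      Cfsg.Spor.M22) ∈ z.ker := by rw [hker]; trivial
  have h3 : ψ m * t * (ψ m)⁻¹ * t⁻¹ = 1 := h2
  exact mul_inv_eq_one.1 h3

/-- Equivariant lifts of the (ordered) duads. -/
theorem exists_s : ∃ s : GolayPt → GolayPt → L, (∀ p q, p ≠ q → π (s p q) = ι (e p * e q)) ∧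
    ∀ (m : M24) p q, p ≠ q → ψ m * s p q * (ψ m)⁻¹ = s ((m : Equiv.Perm GolayPt) p) ((m : Equiv.Perm GolayPt) q) := by
  classical
  obtain ⟨t, ht⟩ := h.ext.surj (ι (e none * e (some 0)))
  have h0 : (none : GolayPt) ≠ some 0 := by simp
  have hex : ∀ p q : GolayPt, ∃ m : M24, p ≠ q →
      (m : Equiv.Perm GolayPt) none = p ∧ (m : Equiv.Perm GolayPt) (some 0) = q := by
    intro p q
    by_cases hpq : p = q
    · exact ⟨1, fun h => absurd hpq h⟩
    · obtain ⟨m, hm⟩ := exists_two h0 hpq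
      exact ⟨m, fun _ => hm⟩
  choose μ hμ using hex
  refine ⟨fun p q => ψ (μ p q) * t * (ψ (μ p q))⁻¹, ?_, ?_⟩
  · intro p q hpq
    rw [map_mul, map_mul, map_inv, h.lift, ht, h.conj, (hμ p q hpq).1, (hμ p q hpq).2]
  · intro m p q hpq
    have hpq' : (m : Equiv.Perm GolayPt) p ≠ (m : Equiv.Perm GolayPt) q :=
      fun h => hpq ((m : Equiv.Perm GolayPt).injective h)
    set p' := (m : Equiv.Perm GolayPt) p
    set q' := (m : Equiv.Perm GolayPt) q
    have e1 : ∀ (g : M24) (x y : GolayPt), (g : Equiv.Perm GolayPt) x = y →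
        ((g⁻¹ : M24) : Equiv.Perm GolayPt) y = x := by
      intro g x y hxy
      show (g : Equiv.Perm GolayPt)⁻¹ y = x
      rw [Equiv.Perm.inv_eq_iff_eq, hxy]
    have e2 : (((μ p' q')⁻¹ * (m * μ p q) : M24) : Equiv.Perm GolayPt) none = none := by
      show ((μ p' q')⁻¹ : Equiv.Perm GolayPt) ((m : Equiv.Perm GolayPt) ((μ p q : Equiv.Perm GolayPt) none)) = none
      rw [(hμ p q hpq).1]
      exact e1 _ _ _ (hμ p' q' hpq').1
    have e3 : (((μ p' q')⁻¹ * (m * μ p q) : M24) : Equiv.Perm GolayPt) (some 0) = some 0 := by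
      show ((μ p' q')⁻¹ : Equiv.Perm GolayPt) ((m : Equiv.Perm GolayPt) ((μ p q : Equiv.Perm GolayPt) (some 0))) = some 0
      rw [(hμ p q hpq).2]
      exact e1 _ _ _ (hμ p' q' hpq').2
    have h2 := h.fix_base ht e2 e3
    rw [map_mul, map_mul, map_inv] at h2
    calc ψ m * (ψ (μ p q) * t * (ψ (μ p q))⁻¹) * (ψ m)⁻¹
        = ψ (μ p' q') * ((ψ (μ p' q'))⁻¹ * (ψ m * ψ (μ p q)) * t * ((ψ (μ p' q'))⁻¹ * (ψ m * ψ (μ p q)))⁻¹) *
            (ψ (μ p' q'))⁻¹ := by group
      _ = _ := by rw [h2]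

omit [Group L] h in
theorem comm_ι' {A X : Type*} [CommGroup A] [Group X] (ι : A →* X) (a b : A) : ι a * ι b = ι b * ι a := by
  rw [← map_mul, mul_comm, map_mul]

/-- **Equivariant lifts of the duads**, respecting the relations of the even sets. -/
theorem exists_t : ∃ t : GolayPt → GolayPt → L, (∀ p q, p ≠ q → π (t p q) = ι (e p * e q)) ∧
    (∀ (m : M24) p q, p ≠ q → ψ m * t p q * (ψ m)⁻¹ = t ((m : Equiv.Perm GolayPt) p) ((m : Equiv.Perm GolayPt) q)) ∧
    (∀ p q, p ≠ q → t p q = t q p) ∧ (∀ p q, p ≠ q → t p q * t p q = 1) ∧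
    ∀ p q r, p ≠ q → p ≠ r → q ≠ r → t p q * t q r = t p r := by
  classical
  obtain ⟨s, hs, heq⟩ := h.exists_s
  have p01 : (none : GolayPt) ≠ some 0 := by decide
  have p02 : (none : GolayPt) ≠ some 1 := by decide
  have p12 : (some 0 : GolayPt) ≠ some 1 := by decide
  have hee : ∀ p q r : GolayPt, e p * e q * (e q * e r) = e p * e r := by
    intro p q r
    rw [mul_assoc, ← mul_assoc (e q), h.pres.he.sq, one_mul]
  -- the constant `z`
  obtain ⟨z, hz1, hz⟩ : ∃ z, π z = 1 ∧ ∀ p q r, p ≠ q → p ≠ r → q ≠ r → s p q * s q r = z * s p r := by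
    refine ⟨s none (some 0) * s (some 0) (some 1) * (s none (some 1))⁻¹, ?_, ?_⟩
    · rw [map_mul, map_mul, map_inv, hs _ _ p01, hs _ _ p12, hs _ _ p02, ← map_mul, hee, mul_inv_cancel]
    · intro p q r h1 h2 h3
      obtain ⟨m, m1, m2, m3⟩ := exists_three p01 p02 p12 h1 h2 h3
      have hk : π (s none (some 0) * s (some 0) (some 1) * (s none (some 1))⁻¹) = 1 := by
        rw [map_mul, map_mul, map_inv, hs _ _ p01, hs _ _ p12, hs _ _ p02, ← map_mul, hee, mul_inv_cancel]
      have h4 := h.fixz hk m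
      have e1 := heq m _ _ p01
      have e2 := heq m _ _ p12
      have e3 := heq m _ _ p02
      rw [m1, m2] at e1
      rw [m2, m3] at e2
      rw [m1, m3] at e3
      rw [← h4, ← e1, ← e2, ← e3]
      group
  -- the constant `y`
  obtain ⟨y, hy1, hy⟩ : ∃ y, π y = 1 ∧ ∀ p q, p ≠ q → s q p = y * s p q := by
    have hk : π (s (some 0) none * (s none (some 0))⁻¹) = 1 := by
      rw [map_mul, map_inv, hs _ _ p01.symm, hs _ _ p01, mul_comm (e (some 0)), mul_inv_cancel]
    refine ⟨s (some 0) none * (s none (some 0))⁻¹, hk, ?_⟩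
    intro p q h1
    obtain ⟨m, m1, m2⟩ := exists_two p01 h1
    have h4 := h.fixz hk m
    have e1 := heq m _ _ p01
    have e2 := heq m _ _ p01.symm
    rw [m1, m2] at e1
    rw [m2, m1] at e2
    rw [← h4, ← e1, ← e2]
    group
  -- the squares
  obtain ⟨x, hx1, hx⟩ : ∃ x, π x = 1 ∧ ∀ p q, p ≠ q → s p q * s p q = x := by
    have hk : π (s none (some 0) * s none (some 0)) = 1 := by
      rw [map_mul, hs _ _ p01, ← map_mul, Cfsg.Agent.Schreier.CocodeSmall.sq h.pres, map_one]
    refine ⟨s none (some 0) * s none (some 0), hk, ?_⟩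
    intro p q h1
    obtain ⟨m, m1, m2⟩ := exists_two p01 h1
    have h4 := h.fixz hk m
    have e1 := heq m _ _ p01
    rw [m1, m2] at e1
    rw [← h4, ← e1]
    group
  -- commutators
  have hcz : ∀ {a b : L}, π a * π b = π b * π a → π ⁅a, b⁆ = 1 := by
    intro a b hab
    rw [map_commutatorElement, commutatorElement_eq_one_iff_mul_comm, hab]
  have hcs : ∀ {p q r t : GolayPt}, p ≠ q → r ≠ t → π ⁅s p q, s r t⁆ = 1 := by
    intro p q r t h1 h2
    apply hcz
    rw [hs _ _ h1, hs _ _ h2, comm_ι']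
  have hcmul : ∀ {a b d : L}, π ⁅b, d⁆ = 1 → ⁅a * b, d⁆ = ⁅a, d⁆ * ⁅b, d⁆ := by
    intro a b d hb
    have h1 : ⁅a * b, d⁆ = a * ⁅b, d⁆ * a⁻¹ * ⁅a, d⁆ := by
      simp only [commutatorElement_def]; group
    rw [h1, ← h.cen hb, mul_inv_cancel_right, h.cen hb]
  have hcz1 : ∀ {a d : L}, π a = 1 → ⁅a, d⁆ = 1 := by
    intro a d ha
    rw [commutatorElement_eq_one_iff_mul_comm, h.cen ha]
  have hconj : ∀ (m : M24) {p q r t : GolayPt}, p ≠ q → r ≠ t → ⁅s ((m : Equiv.Perm GolayPt) p)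
      ((m : Equiv.Perm GolayPt) q), s ((m : Equiv.Perm GolayPt) r) ((m : Equiv.Perm GolayPt) t)⁆ =
      ⁅s p q, s r t⁆ := by
    intro m p q r t h1 h2
    have h4 := h.fixz (hcs h1 h2) m
    rw [← h4, ← heq m _ _ h1, ← heq m _ _ h2]
    simp only [commutatorElement_def]; group
  -- disjoint duads
  have hβ : ∀ {p q r t : GolayPt}, p ≠ q → p ≠ r → p ≠ t → q ≠ r → q ≠ t → r ≠ t → ⁅s p q, s r t⁆ = 1 := by
    have d03 : (none : GolayPt) ≠ some 2 := by decide
    have d04 : (none : GolayPt) ≠ some 3 := by decide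
    have d13 : (some 0 : GolayPt) ≠ some 2 := by decide
    have d14 : (some 0 : GolayPt) ≠ some 3 := by decide
    have d23 : (some 1 : GolayPt) ≠ some 2 := by decide
    have d24 : (some 1 : GolayPt) ≠ some 3 := by decide
    have d34 : (some 2 : GolayPt) ≠ some 3 := by decide
    have hall : ∀ {p q r t : GolayPt}, p ≠ q → p ≠ r → p ≠ t → q ≠ r → q ≠ t → r ≠ t →
        ⁅s p q, s r t⁆ = ⁅s none (some 0), s (some 2) (some 3)⁆ := by
      intro p q r t h1 h2 h3 h4 h5 h6
      obtain ⟨m, m1, m2, m3, m4⟩ := exists_four p01 d03 d04 d13 d14 d34 h1 h2 h3 h4 h5 h6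
      have := hconj m p01 d34
      rwa [m1, m2, m3, m4] at this
    have h7 : ⁅s none (some 0), s (some 2) (some 3)⁆ = 1 := by
      have h1 := hz none (some 1) (some 0) p02 p01 p12.symm
      have h2 : ⁅s none (some 1) * s (some 1) (some 0), s (some 2) (some 3)⁆ =
          ⁅s none (some 0), s (some 2) (some 3)⁆ := by
        rw [h1, hcmul (hcs p01 d34), hcz1 hz1, one_mul]
      rw [hcmul (hcs p12.symm d34), hall p02 d03 d04 d23 d24 d34,
        hall p12.symm d23 d24 d13 d14 d34] at h2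
      exact mul_eq_left.1 h2
    intro p q r t h1 h2 h3 h4 h5 h6
    rw [hall h1 h2 h3 h4 h5 h6, h7]
  -- duads with a common first point
  have hα : ∀ {p q r : GolayPt}, p ≠ q → p ≠ r → q ≠ r → ⁅s p q, s p r⁆ = 1 := by
    have hall : ∀ {p q r p' q' r' : GolayPt}, p ≠ q → p ≠ r → q ≠ r → p' ≠ q' → p' ≠ r' → q' ≠ r' →
        ⁅s p q, s p r⁆ = ⁅s p' q', s p' r'⁆ := by
      intro p q r p' q' r' h1 h2 h3 h1' h2' h3'
      obtain ⟨m, m1, m2, m3⟩ := exists_three h1' h2' h3' h1 h2 h3
      have := hconj m h1' h2'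
      rwa [m1, m2, m3] at this
    -- an octad and a point outside
    obtain ⟨O, hO, -⟩ := exists_octad (s := ∅) (by decide)
    obtain ⟨u, hu⟩ : ∃ u, u ∉ O := by
      by_contra hno
      push Not at hno
      have h1 : O = Finset.univ := Finset.eq_univ_iff_forall.2 hno
      have h2 := hO.2
      rw [h1, Finset.card_univ] at h2
      exact absurd h2 (by decide)
    let f : Fin 8 → GolayPt := fun i => ((Finset.equivFinOfCardEq hO.2).symm i : O)
    have hfinj : Function.Injective f := fun i j hij =>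
      (Finset.equivFinOfCardEq hO.2).symm.injective (Subtype.ext hij)
    have hfO : ∀ i, f i ∈ O := fun i => ((Finset.equivFinOfCardEq hO.2).symm i).2
    have hfu : ∀ i, f i ≠ u := fun i hi => hu (hi ▸ hfO i)
    have himg : Finset.univ.image f = O := by
      ext a
      rw [Finset.mem_image]
      constructor
      · rintro ⟨i, -, rfl⟩
        exact hfO i
      · intro ha
        exact ⟨(Finset.equivFinOfCardEq hO.2) ⟨a, ha⟩, Finset.mem_univ _, by
          show (((Finset.equivFinOfCardEq hO.2).symm ((Finset.equivFinOfCardEq hO.2) ⟨a, ha⟩) : O) : GolayPt) = a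
          rw [Equiv.symm_apply_apply]⟩
    have hprod : ∏ i, e (f i) = 1 := by
      have h1 : ∏ i ∈ O, e i = 1 := (h.pres.he.ker O (by rw [hO.2]; decide)).2 hO.1
      rw [← himg, Finset.prod_image (fun i _ j _ hij => hfinj hij)] at h1
      exact h1
    have hne : ∀ i j, i ≠ j → f i ≠ f j := fun i j hij h1 => hij (hfinj h1)
    have n01 := hne 0 1 (by decide)
    have n23 := hne 2 3 (by decide)
    have n45 := hne 4 5 (by decide)
    have n67 := hne 6 7 (by decide)
    have hpi : π (s (f 0) (f 1) * s (f 2) (f 3) * s (f 4) (f 5) * s (f 6) (f 7)) = 1 := by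
      have e1 : π (s (f 0) (f 1) * s (f 2) (f 3) * s (f 4) (f 5) * s (f 6) (f 7)) = ι (∏ i, e (f i)) := by
        rw [Fin.prod_univ_eight, map_mul, map_mul, map_mul, hs _ _ n01, hs _ _ n23, hs _ _ n45, hs _ _ n67]
        simp only [map_mul, mul_assoc]
      rw [e1, hprod]
      exact map_one ι
    have h2 := hcz1 (d := s (f 0) u) hpi
    rw [hcmul (hcs (hne 6 7 (by decide)) (hfu 0)), hcmul (hcs (hne 4 5 (by decide)) (hfu 0)),
      hcmul (hcs (hne 2 3 (by decide)) (hfu 0)),
      hβ (hne 2 3 (by decide)) (hne 2 0 (by decide)) (hfu 2) (hne 3 0 (by decide)) (hfu 3) (hfu 0),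
      hβ (hne 4 5 (by decide)) (hne 4 0 (by decide)) (hfu 4) (hne 5 0 (by decide)) (hfu 5) (hfu 0),
      hβ (hne 6 7 (by decide)) (hne 6 0 (by decide)) (hfu 6) (hne 7 0 (by decide)) (hfu 7) (hfu 0),
      mul_one, mul_one, mul_one] at h2
    intro p q r h3 h4 h5
    rw [hall h3 h4 h5 (hne 0 1 (by decide)) (hfu 0) (hfu 1), h2]
  -- `y = x = 1`
  have hyx : y * x = 1 := by
    have h1 := hz none (some 0) (some 1) p01 p02 p12
    have h2 := hz (some 0) none (some 1) p01.symm p12 p02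
    rw [hy _ _ p01] at h2
    have h3 : s (some 0) (some 1) = z * ((s none (some 0))⁻¹ * s none (some 1)) := by
      calc s (some 0) (some 1) = (s none (some 0))⁻¹ * (s none (some 0) * s (some 0) (some 1)) := by group
        _ = (s none (some 0))⁻¹ * z * s none (some 1) := by rw [h1]; group
        _ = _ := by rw [← h.cen hz1]; group
    rw [h3, ← mul_assoc, h.sq_ker hz1, one_mul] at h2
    have h4 := hx _ _ p01
    have h5 : y * s none (some 0) = (s none (some 0))⁻¹ := mul_right_cancel h2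
    calc y * x = y * s none (some 0) * s none (some 0) := by rw [← h4, mul_assoc]
      _ = 1 := by rw [h5, inv_mul_cancel]
  have hx1' : x = 1 := by
    have h1 := hz (some 0) none (some 1) p01.symm p12 p02
    rw [hy _ _ p01] at h1
    have h2 := hα p01 p02 p12
    rw [commutatorElement_eq_one_iff_mul_comm] at h2
    have h3 : (y * s none (some 0) * s none (some 1)) * (y * s none (some 0) * s none (some 1)) = x * x := by
      have e1 := hx _ _ p01
      have e2 := hx _ _ p02
      have e3 := h.sq_ker hy1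
      generalize s none (some 0) = a at *
      generalize s none (some 1) = b at *
      calc y * a * b * (y * a * b) = y * (a * b) * y * (a * b) := by group
        _ = y * (y * (a * b)) * (a * b) := by rw [h.cen hy1 (y * (a * b)), mul_assoc y (a * b) y]
        _ = (y * y) * (a * (b * a) * b) := by group
        _ = a * a * (b * b) := by rw [e3, one_mul, ← h2]; group
        _ = x * x := by rw [e1, e2]
    rw [h1] at h3
    have h4 := hx _ _ p12
    have h5 : z * s (some 0) (some 1) * (z * s (some 0) (some 1)) = x := by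
      calc z * s (some 0) (some 1) * (z * s (some 0) (some 1)) =
          z * (s (some 0) (some 1) * z) * s (some 0) (some 1) := by group
        _ = (z * z) * (s (some 0) (some 1) * s (some 0) (some 1)) := by rw [← h.cen hz1]; group
        _ = x := by rw [h.sq_ker hz1, one_mul, h4]
    rw [h5] at h3
    exact (left_eq_mul.1 h3)
  have hy1' : y = 1 := by rwa [hx1', mul_one] at hyx
  -- the corrected lifts
  refine ⟨fun p q => z * s p q, ?_, ?_, ?_, ?_, ?_⟩
  · intro p q hpq
    rw [map_mul, hz1, one_mul, hs p q hpq]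
  · intro m p q hpq
    show ψ m * (z * s p q) * (ψ m)⁻¹ = z * _
    rw [← heq m p q hpq, ← mul_assoc, ← h.cen hz1]
    group
  · intro p q hpq
    show z * s p q = z * s q p
    rw [hy p q hpq, hy1', one_mul]
  · intro p q hpq
    show z * s p q * (z * s p q) = 1
    calc z * s p q * (z * s p q) = z * (s p q * z) * s p q := by group
      _ = (z * z) * (s p q * s p q) := by rw [← h.cen hz1]; group
      _ = 1 := by rw [h.sq_ker hz1, one_mul, hx p q hpq, hx1']
  · intro p q r h1 h2 h3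
    show z * s p q * (z * s q r) = z * s p r
    calc z * s p q * (z * s q r) = z * (s p q * z) * s q r := by group
      _ = z * z * (s p q * s q r) := by rw [← h.cen hz1]; group
      _ = z * s p r := by rw [h.sq_ker hz1, one_mul, hz p q r h1 h2 h3]

/-- Lifts of the points. -/
theorem exists_w : ∃ w : GolayPt → L, (∀ i j, w i * w j = w j * w i) ∧ (∀ i, w i * w i = 1) ∧
    (∀ i, π (w i) = ι (e none * e i)) ∧
    ∀ (m : M24) i, ψ m * w i * (ψ m)⁻¹ = w ((m : Equiv.Perm GolayPt) none) * w ((m : Equiv.Perm GolayPt) i) := by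
  classical
  obtain ⟨t, hπ, heq, hsym, hsq, hrel⟩ := h.exists_t
  let w : GolayPt → L := fun i => if i = none then 1 else t none i
  have w0 : w none = 1 := if_pos rfl
  have w1 : ∀ i, i ≠ none → w i = t none i := fun i hi => if_neg hi
  have hwt : ∀ i j, i ≠ j → w i * w j = t i j := by
    intro i j hij
    by_cases hi : i = none
    · subst hi
      rw [w0, one_mul, w1 j hij.symm]
    · by_cases hj : j = none
      · subst hj
        rw [w0, mul_one, w1 i hi, hsym _ _ (Ne.symm hi)]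
      · rw [w1 i hi, w1 j hj, hsym none i (Ne.symm hi), hrel i none j hi hij (Ne.symm hj)]
  have hws : ∀ i, w i * w i = 1 := by
    intro i
    by_cases hi : i = none
    · rw [hi, w0, one_mul]
    · rw [w1 i hi, hsq _ _ (Ne.symm hi)]
  refine ⟨w, ?_, hws, ?_, ?_⟩
  · intro i j
    by_cases hij : i = j
    · rw [hij]
    · rw [hwt i j hij, hwt j i (Ne.symm hij), hsym i j hij]
  · intro i
    by_cases hi : i = none
    · rw [hi, w0, map_one, h.pres.he.sq, map_one]
    · rw [w1 i hi, hπ _ _ (Ne.symm hi)]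
  · intro m i
    by_cases hi : i = none
    · rw [hi, w0, mul_one, mul_inv_cancel, hws]
    · rw [w1 i hi, heq m _ _ (Ne.symm hi), hwt]
      intro h1
      exact hi ((m : Equiv.Perm GolayPt).injective h1).symm

/-- A subgroup of index two of the preimage of the cocode which does not contain `c`. -/
theorem exists_section : ∃ V : Subgroup L, c ∉ V ∧ (∀ v ∈ V, ∃ a, π v = ι a) ∧ (∀ a : A, ∃ v ∈ V, π v = ι a) ∧
    ∀ (m : M24), ∀ v ∈ V, ψ m * v * (ψ m)⁻¹ ∈ V := by
  classical
  obtain ⟨w, hcomm, hsq, hπ, hconj⟩ := h.exists_w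
  have hc' : ∀ x ∈ Set.range w, ∀ y ∈ Set.range w, x * y = y * x := by
    rintro _ ⟨i, rfl⟩ _ ⟨j, rfl⟩
    exact hcomm i j
  let B : Subgroup L := closure (Set.range w)
  letI : CommGroup B := closureCommGroupOfComm hc'
  have hwB : ∀ i, w i ∈ B := fun i => subset_closure ⟨i, rfl⟩
  let W : GolayPt → B := fun i => ⟨w i, hwB i⟩
  have hW : ∀ i, W i * W i = 1 := fun i => Subtype.ext (hsq i)
  -- conjugation
  have hBconj : ∀ (m : M24) (b : L), b ∈ B → ψ m * b * (ψ m)⁻¹ ∈ B := by
    intro m b hb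
    induction hb using closure_induction with
    | mem x hx =>
      obtain ⟨i, rfl⟩ := hx
      rw [hconj]
      exact mul_mem (hwB _) (hwB _)
    | one => rw [mul_one, mul_inv_cancel]; exact one_mem _
    | mul x y _ _ hx hy =>
      have : ψ m * (x * y) * (ψ m)⁻¹ = (ψ m * x * (ψ m)⁻¹) * (ψ m * y * (ψ m)⁻¹) := by group
      rw [this]; exact mul_mem hx hy
    | inv x _ hx =>
      have : ψ m * x⁻¹ * (ψ m)⁻¹ = (ψ m * x * (ψ m)⁻¹)⁻¹ := by group
      rw [this]; exact inv_mem hx
  let C : M24 → B →* B := fun m =>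
    { toFun := fun b => ⟨ψ m * b * (ψ m)⁻¹, hBconj m b b.2⟩
      map_one' := Subtype.ext (by show ψ m * 1 * (ψ m)⁻¹ = 1; rw [mul_one, mul_inv_cancel])
      map_mul' := fun x y => Subtype.ext (by
        show ψ m * (x * y) * (ψ m)⁻¹ = (ψ m * x * (ψ m)⁻¹) * (ψ m * y * (ψ m)⁻¹)
        group) }
  have hCW : ∀ m i, C m (W i) = W ((m : Equiv.Perm GolayPt) none) * W ((m : Equiv.Perm GolayPt) i) :=
    fun m i => Subtype.ext (hconj m i)
  have hprodconst : ∀ (S : Finset GolayPt) (b : B), b * b = 1 → Even S.card → ∏ _i ∈ S, b = 1 := by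
    intro S b hb hS
    obtain ⟨k, hk⟩ := hS
    rw [Finset.prod_const, hk, ← two_mul, pow_mul, pow_two, hb, one_pow]
  have hCprod : ∀ (m : M24) (S : Finset GolayPt), Even S.card →
      C m (∏ i ∈ S, W i) = ∏ i ∈ S.map (m : Equiv.Perm GolayPt).toEmbedding, W i := by
    intro m S hS
    rw [_root_.map_prod, Finset.prod_map]
    have : ∀ i ∈ S, C m (W i) = W ((m : Equiv.Perm GolayPt) none) * W ((m : Equiv.Perm GolayPt) i) :=
      fun i _ => hCW m i
    rw [Finset.prod_congr rfl this, Finset.prod_mul_distrib, hprodconst S _ (hW _) hS, one_mul]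
    rfl
  -- projection
  have hπprod : ∀ S : Finset GolayPt, Even S.card → π ((∏ i ∈ S, W i : B) : L) = ι (∏ i ∈ S, e i) := by
    intro S hS
    -- everything takes place in the image of `ι`
    have h1 : ∀ S : Finset GolayPt, π ((∏ i ∈ S, W i : B) : L) = ι (∏ i ∈ S, (e none * e i)) := by
      intro S
      induction S using Finset.induction_on with
      | empty => rw [Finset.prod_empty, Finset.prod_empty, map_one]; exact map_one π
      | insert a S ha ih =>
        rw [Finset.prod_insert ha, Finset.prod_insert ha, map_mul, ← ih, Subgroup.coe_mul, map_mul]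
        congr 1
        exact hπ a
    rw [h1, Finset.prod_mul_distrib]
    obtain ⟨k, hk⟩ := hS
    rw [Finset.prod_const, hk, ← two_mul, pow_mul, pow_two, h.pres.he.sq, one_pow, one_mul]
  -- Golay words
  have hadd : ∀ S T : Finset GolayPt, ∏ i ∈ symmDiff S T, W i = (∏ i ∈ S, W i) * ∏ i ∈ T, W i :=
    fun S T => prod_symmDiff hW S T
  have hoctker : ∀ O ∈ octads, π ((∏ i ∈ O, W i : B) : L) = 1 := by
    intro O hO
    have hev : Even O.card := by rw [hO.2]; decide
    rw [hπprod O hev, (h.pres.he.ker O hev).2 hO.1, map_one]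
  have hoctconst : ∀ O ∈ octads, ∀ O' ∈ octads, ∏ i ∈ O, W i = ∏ i ∈ O', W i := by
    intro O hO O' hO'
    obtain ⟨m, hm⟩ := Cfsg.Agent.S0367.result O O' hO hO'
    have hev : Even O.card := by rw [hO.2]; decide
    have h1 := hCprod m O hev
    have h2 : O.map (m : Equiv.Perm GolayPt).toEmbedding = O' := by
      rw [← hm]
      exact (Cfsg.Agent.SporadicA.GolayPerm.smul_finset_eq_map _ _).symm
    rw [h2] at h1
    rw [← h1]
    exact Subtype.ext (h.fixz (hoctker O hO) m).symm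
  -- two octads with four common points
  obtain ⟨O₁, hO₁, hs₁⟩ := exists_octad (s := {none, some 0, some 1, some 2}) (by decide)
  obtain ⟨u, hu⟩ : ∃ u, u ∉ O₁ := by
    by_contra hno
    push Not at hno
    have h1 : O₁ = Finset.univ := Finset.eq_univ_iff_forall.2 hno
    have h2 := hO₁.2
    rw [h1, Finset.card_univ] at h2
    exact absurd h2 (by decide)
  obtain ⟨O₂, hO₂, hs₂⟩ := exists_octad (s := insert u ({none, some 0, some 1, some 2} : Finset GolayPt))
    ((Finset.card_insert_le _ _).trans (by decide))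
  have hne : O₁ ≠ O₂ := fun h1 => hu (h1 ▸ hs₂ (Finset.mem_insert_self _ _))
  have hO₃ : symmDiff O₁ O₂ ∈ octads := by
    have h1 : symmDiff O₁ O₂ ∈ supports (golayCode : Set (GolayPt → ZMod 2)) :=
      Cfsg.Agent.SporadicA.Dodecad.symmDiff_mem_supports hO₁.1 hO₂.1
    refine ⟨h1, ?_⟩
    have h2 := Cfsg.Agent.SporadicA.GolayBase.card_of_mem_supports h1
    have h3 : 4 ≤ (O₁ ∩ O₂).card := by
      have h4 : ({none, some 0, some 1, some 2} : Finset GolayPt) ⊆ O₁ ∩ O₂ :=
        Finset.subset_inter hs₁ ((Finset.subset_insert _ _).trans hs₂)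
      exact (by decide : ({none, some 0, some 1, some 2} : Finset GolayPt).card = 4) ▸ Finset.card_le_card h4
    have h5 : (symmDiff O₁ O₂).card + 2 * (O₁ ∩ O₂).card = 16 := by
      have h6 := Finset.card_sdiff_add_card_inter O₁ O₂
      have h7 := Finset.card_sdiff_add_card_inter O₂ O₁
      rw [Finset.inter_comm O₂ O₁] at h7
      have h8 : (symmDiff O₁ O₂).card = (O₁ \ O₂).card + (O₂ \ O₁).card := by
        rw [symmDiff_def, Finset.sup_eq_union, Finset.card_union_of_disjoint disjoint_sdiff_sdiff]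
      have h9 := hO₁.2
      have h10 := hO₂.2
      omega
    have h6 : (symmDiff O₁ O₂).card ≠ 0 := fun h7 =>
      hne (symmDiff_eq_bot.1 (Finset.card_eq_zero.1 h7))
    omega
  have hoct1 : ∀ O ∈ octads, ∏ i ∈ O, W i = 1 := by
    intro O hO
    have h1 := hadd O₁ O₂
    rw [hoctconst _ hO₃ O hO, hoctconst _ hO₁ O hO, hoctconst _ hO₂ O hO] at h1
    exact (left_eq_mul.1 h1)
  have hgol : ∀ S ∈ supports (golayCode : Set (GolayPt → ZMod 2)), ∏ i ∈ S, W i = 1 := by
    rintro _ ⟨v, hv, rfl⟩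
    exact Cfsg.Agent.SporadicStructure.OctadSpan.golay_induction
      (P := fun v => ∏ i ∈ support₂ v, W i = 1)
      (by
        have : support₂ (0 : GolayPt → ZMod 2) = ∅ := by
          ext i; simp [support₂]
        rw [this, Finset.prod_empty])
      (fun v w _ _ h1 h2 => by
        rw [Cfsg.Agent.SporadicA.Dodecad.support₂_add, hadd, h1, h2, one_mul])
      (fun w hw h8 => hoct1 _ ⟨⟨w, hw, rfl⟩, h8⟩) v hv
  -- the subgroup
  let B₀ : Subgroup B :=
    { carrier := {b | ∃ S : Finset GolayPt, Even S.card ∧ b = ∏ i ∈ S, W i}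
      one_mem' := ⟨∅, by simp, by rw [Finset.prod_empty]⟩
      mul_mem' := by
        rintro _ _ ⟨S, hS, rfl⟩ ⟨T, hT, rfl⟩
        exact ⟨symmDiff S T, even_symmDiff hS hT, (hadd S T).symm⟩
      inv_mem' := by
        rintro _ ⟨S, hS, rfl⟩
        refine ⟨S, hS, inv_eq_of_mul_eq_one_left ?_⟩
        rw [← Finset.prod_mul_distrib]
        exact Finset.prod_eq_one fun i _ => hW i }
  refine ⟨B₀.map B.subtype, ?_, ?_, ?_, ?_⟩
  · rintro ⟨b, ⟨S, hS, rfl⟩, hb⟩
    have h1 := hπprod S hS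
    have h2 : ((∏ i ∈ S, W i : B) : L) = c := hb
    rw [h2, (h.ext.ker c).2 (Or.inr rfl)] at h1
    have h3 : ∏ i ∈ S, e i = 1 := h.inj (by rw [← h1, map_one])
    have h4 := hgol S ((h.pres.he.ker S hS).1 h3)
    rw [h4] at h2
    exact h.ext.ne h2.symm
  · rintro _ ⟨b, ⟨S, hS, rfl⟩, rfl⟩
    exact ⟨_, hπprod S hS⟩
  · intro a
    obtain ⟨S, hS, rfl⟩ := h.pres.hgen a
    exact ⟨_, ⟨∏ i ∈ S, W i, ⟨S, hS, rfl⟩, rfl⟩, hπprod S hS⟩
  · rintro m _ ⟨b, ⟨S, hS, rfl⟩, rfl⟩
    exact ⟨C m (∏ i ∈ S, W i), ⟨_, even_map _ hS, hCprod m S hS⟩, rfl⟩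

end Lft

/-! ### The theorem -/

section

variable {A X : Type*} [CommGroup A] [Group X] {e : GolayPt → A} {ι : A →* X} {φ : M24 →* X}

theorem Setup.conj_mem (h : Setup e ι φ) (m : M24) (a : A) : ∃ b : A, φ m * ι a * (φ m)⁻¹ = ι b := by
  obtain ⟨S, hS, rfl⟩ := h.pres.hgen a
  classical
  have key : ∀ n : ℕ, ∀ S : Finset GolayPt, S.card = 2 * n → ∃ b : A, φ m * ι (∏ i ∈ S, e i) * (φ m)⁻¹ = ι b := by
    intro n
    induction n with
    | zero =>
      intro S hS
      have : S = ∅ := Finset.card_eq_zero.1 (by omega)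
      subst this
      exact ⟨1, by rw [Finset.prod_empty, map_one, mul_one, mul_inv_cancel]⟩
    | succ n ih =>
      intro S hS
      obtain ⟨i, hi⟩ : S.Nonempty := Finset.card_pos.1 (by omega)
      have h1 : (S.erase i).card = 2 * n + 1 := by
        rw [Finset.card_erase_of_mem hi]; omega
      obtain ⟨j, hj⟩ : (S.erase i).Nonempty := Finset.card_pos.1 (by omega)
      have h2 : ((S.erase i).erase j).card = 2 * n := by
        rw [Finset.card_erase_of_mem hj]; omega
      obtain ⟨b, hb⟩ := ih _ h2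
      refine ⟨e ((m : Equiv.Perm GolayPt) i) * e ((m : Equiv.Perm GolayPt) j) * b, ?_⟩
      rw [← Finset.mul_prod_erase S _ hi, ← Finset.mul_prod_erase (S.erase i) _ hj, ← mul_assoc, map_mul ι,
        map_mul ι (_ * _) b, ← h.conj, ← hb]
      group
  obtain ⟨k, hk⟩ := hS
  exact key k S (by omega)

/-- the subgroup `ι A · φ M24` -/
def Setup.sub (h : Setup e ι φ) : Subgroup X where
  carrier := {x | ∃ (a : A) (m : M24), x = ι a * φ m}
  one_mem' := ⟨1, 1, by rw [map_one, map_one, one_mul]⟩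
  mul_mem' := by
    rintro _ _ ⟨a, m, rfl⟩ ⟨b, n, rfl⟩
    obtain ⟨d, hd⟩ := h.conj_mem m b
    refine ⟨a * d, m * n, ?_⟩
    rw [map_mul, map_mul, ← hd]
    group
  inv_mem' := by
    rintro _ ⟨a, m, rfl⟩
    obtain ⟨d, hd⟩ := h.conj_mem m⁻¹ a⁻¹
    refine ⟨d, m⁻¹, ?_⟩
    rw [← hd, map_inv, map_inv]
    group

theorem Setup.eq_one (h : Setup e ι φ) {a : A} {m : M24} (ham : ι a * φ m = 1) : m = 1 := by
  apply Subtype.ext
  apply h.pres.he.perm_unique
  intro i j
  apply h.inj
  rw [← h.conj m i j]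
  have h1 : φ m = ι a⁻¹ := by rw [map_inv]; exact (inv_eq_of_mul_eq_one_right ham).symm
  rw [h1, ← map_inv, ← map_mul, ← map_mul]
  congr 1
  rw [inv_inv, mul_comm a⁻¹, mul_assoc, inv_mul_cancel, mul_one]
  rfl

theorem Setup.card_sub (h : Setup e ι φ) : Nat.card h.sub = Nat.card A * Nat.card M24 := by
  rw [← Nat.card_prod]
  refine (Nat.card_congr (Equiv.ofBijective (fun p : A × M24 => (⟨ι p.1 * φ p.2, p.1, p.2, rfl⟩ : h.sub)) ?_)).symm
  constructor
  · rintro ⟨a, m⟩ ⟨b, n⟩ hab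
    have h1 : ι a * φ m = ι b * φ n := congrArg Subtype.val hab
    have h2 : ι (b⁻¹ * a) * φ (m * n⁻¹) = 1 := by
      rw [map_mul, map_mul, map_inv, map_inv]
      calc (ι b)⁻¹ * ι a * (φ m * (φ n)⁻¹) = (ι b)⁻¹ * (ι a * φ m) * (φ n)⁻¹ := by group
        _ = 1 := by rw [h1]; group
    have h3 := h.eq_one h2
    have h4 : m = n := mul_inv_eq_one.1 h3
    subst h4
    have h5 : a = b := h.inj (mul_right_cancel h1)
    rw [h5]
  · rintro ⟨_, a, m, rfl⟩
    exact ⟨(a, m), rfl⟩

/-- **No perfect double cover.** -/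
theorem Setup.noDouble (h : Setup e ι φ) (hidx : ¬ 2 ∣ h.sub.index) : NoDouble X := by
  intro L _ _ π c hd
  have hext : Ext π c := ⟨hd.ne, hd.sq, hd.cen, hd.surj, hd.ker⟩
  obtain ⟨ψ, hψ⟩ := Cfsg.Agent.KFacts.MulM24.exists_lift hext φ
  have hl : Lft e ι φ π c ψ := ⟨h, hext, hψ⟩
  obtain ⟨V, hcV, hVι, hVA, hVc⟩ := hl.exists_section
  have hπc : π c = 1 := (hd.ker c).2 (Or.inr rfl)
  let P : Subgroup L := h.sub.comap π
  have hcP : c ∈ P := by
    show π c ∈ h.sub
    rw [hπc]; exact one_mem _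
  have hP : ¬ 2 ∣ P.index := by
    rwa [index_comap_of_surjective _ hd.surj]
  let P₁ : Subgroup L :=
    { carrier := {x | ∃ v ∈ V, ∃ m : M24, x = v * ψ m}
      one_mem' := ⟨1, one_mem _, 1, by rw [map_one, mul_one]⟩
      mul_mem' := by
        rintro _ _ ⟨v, hv, m, rfl⟩ ⟨w, hw, n, rfl⟩
        refine ⟨v * (ψ m * w * (ψ m)⁻¹), mul_mem hv (hVc m w hw), m * n, ?_⟩
        rw [map_mul]; group
      inv_mem' := by
        rintro _ ⟨v, hv, m, rfl⟩
        refine ⟨ψ m⁻¹ * v⁻¹ * (ψ m⁻¹)⁻¹, hVc m⁻¹ _ (inv_mem hv), m⁻¹, ?_⟩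
        rw [map_inv]; group }
  refine hd.toCtr.false_of_compl (P := P) (P₁ := P₁) hcP hP ?_ ?_
  · rintro ⟨v, hv, m, hcv⟩
    obtain ⟨a, ha⟩ := hVι v hv
    have h1 : ι a * φ m = 1 := by rw [← ha, ← hψ, ← map_mul, ← hcv, hπc]
    rw [h.eq_one h1, map_one, mul_one] at hcv
    exact hcV (hcv ▸ hv)
  · rintro x ⟨a, m, hx⟩
    obtain ⟨v, hv, hva⟩ := hVA a
    have h1 : π (v * ψ m * x⁻¹) = 1 := by
      rw [map_mul, map_mul, hva, hψ, map_inv]
      rw [show π x = ι a * φ m from hx, mul_inv_cancel]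
    rcases (hd.ker _).1 h1 with h2 | h2
    · left
      exact ⟨v, hv, m, (mul_inv_eq_one.1 h2).symm⟩
    · right
      exact ⟨v, hv, m, (mul_inv_eq_iff_eq_mul.1 h2).symm⟩

end

end Cfsg.Agent.KFacts.MulSpor.CocodeLift
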