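import Cfsg.Agent.KFacts.MulSpor.OneLift
import Cfsg.Agent.KFacts.MulSpor.HS
import Cfsg.Agent.KFacts.MulCov
import Cfsg.Agent.KFacts.HN.Inst
import Cfsg.Agent.HN.Hom

/-!
# The multiplier of the Harada–Norton group has odd order (helper282)

`noDouble : NoDouble Spor.HN`.  Let `π : L → HN` be a perfect double cover.  `C(τ) = H = ⟨x, y, z⟩ = 2.HS.2`; the
multiplier of `HS` (`MulSpor/HS`) gives a lift `D` of `H' = 2.HS`; `z` is conjugate to `τ ∈ H'`, so it has an
involutory lift `Z`, and `D⟨Z⟩`, `D⟨cZ⟩` are two lifts of `H`.  For one of them the relation `(zt)³ = 1` holds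
with the lift of order 5 of `t`: a section of `π`.
-/

set_option autoImplicit false
set_option linter.style.haveILetI false

namespace Cfsg.Agent.KFacts.MulSpor.HN

open Subgroup Cfsg.Agent.KFacts.MulTwo Cfsg.Agent.KFacts.MulDef Cfsg.Agent.KFacts.MulBound
open Cfsg.Agent.KFacts.MulSpor.Class Cfsg.Agent.KFacts.MulSpor.OneLift
open Cfsg.Agent.HN Cfsg.Agent.HN.Pres Cfsg.Agent.HN.HS100 Cfsg.Agent.HN.P1408 Cfsg.Agent.HN.H0Basic
open Cfsg.Agent.HN.AutHS
open scoped commutatorElement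

/-! ### `H' = 2.HS` is perfect -/

theorem φK_eq_one {k : K} (h : DoubleCover.φK k = 1) : k = 1 ∨ k = ⟨τ, τ_mem_K⟩ := by
  have h1 : φ (k : H0) = 1 := congrArg Subtype.val h
  exact (φ_eq_one_iff.1 h1).imp (fun h => Subtype.ext h) (fun h => Subtype.ext h)

theorem τK_mem : (⟨τ, τ_mem_K⟩ : K) ∈ commutator K := by
  rw [← HS.comm_eq]
  exact commutator_mem_commutator (mem_top _) (mem_top _)

theorem commutator_Q : commutator Q = ⊤ := by
  have hs := nonempty_Q.2
  rcases hs.eq_bot_or_eq_top_of_normal (commutator Q) inferInstance with h | h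
  · exfalso
    have h1 : ∀ a b : Q, a * b = b * a := fun a b => by
      have h2 : ⁅a, b⁆ ∈ commutator Q := commutator_mem_commutator (mem_top _) (mem_top _)
      rw [h, mem_bot, commutatorElement_eq_one_iff_mul_comm] at h2
      exact h2
    obtain ⟨a, ha⟩ := exists_ne (1 : Q)
    apply ha
    apply Subtype.ext
    exact NormalH.eq_one_of_commute_Q fun q hq => congrArg Subtype.val (h1 ⟨q, hq⟩ a)
  · exact h

theorem commutator_K : commutator K = ⊤ := by
  rw [eq_top_iff]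
  intro k _
  have h1 : (commutator K).map DoubleCover.φK = ⊤ := by
    rw [commutator_def, map_commutator, ← MonoidHom.range_eq_map, MonoidHom.range_eq_top.2 DoubleCover.φK_surj,
      ← commutator_def, commutator_Q]
  have h2 : DoubleCover.φK k ∈ (commutator K).map DoubleCover.φK := by rw [h1]; exact mem_top _
  obtain ⟨d, hd, hdk⟩ := h2
  have h3 : DoubleCover.φK (d⁻¹ * k) = 1 := by rw [map_mul, map_inv, hdk, inv_mul_cancel]
  have h4 : d⁻¹ * k ∈ commutator K := by
    rcases φK_eq_one h3 with h | h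
    · rw [h]; exact one_mem _
    · rw [h]; exact τK_mem
  have h5 := mul_mem hd h4
  rwa [mul_inv_cancel_left] at h5

/-- `2.HS` in `HN` -/
def N : Subgroup Cfsg.Spor.HN := K.map NormalH.ψ

theorem comm_N : ⁅N, N⁆ = N := by
  have h1 : N = (⊤ : Subgroup K).map (NormalH.ψ.comp K.subtype) := by
    rw [N, ← Subgroup.map_map, ← MonoidHom.range_eq_map, range_subtype]
  rw [h1, ← map_commutator, ← commutator_def, commutator_K]

theorem ψ_inj : Function.Injective NormalH.ψ := Cfsg.Agent.KFacts.HN.emb.inj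

noncomputable def e : K ≃* N := K.equivMapOfInjective NormalH.ψ ψ_inj

theorem e_coe (k : K) : (e k : Cfsg.Spor.HN) = NormalH.ψ k := rfl

noncomputable def f : N →* Q := DoubleCover.φK.comp e.symm.toMonoidHom

theorem f_surj : Function.Surjective f := DoubleCover.φK_surj.comp e.symm.surjective

theorem f_eq_one {n : N} (h : f n = 1) : n = 1 ∨ n = e ⟨τ, τ_mem_K⟩ := by
  rcases φK_eq_one (k := e.symm n) h with h | h
  · left; rw [← e.apply_symm_apply n, h, map_one]
  · right; rw [← h, e.apply_symm_apply]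

theorem f_ker : f.ker ≤ center N := by
  intro n hn
  rw [mem_center_iff]
  intro g
  rcases f_eq_one hn with rfl | rfl
  · rw [mul_one, one_mul]
  · obtain ⟨k, rfl⟩ := e.surjective g
    rw [← map_mul, ← map_mul]
    congr 1
    exact Subtype.ext (τ_comm k)

theorem two_dvd : 2 ∣ Nat.card f.ker := by
  have h1 : Nat.card f.ker = Nat.card DoubleCover.φK.ker := by
    refine Nat.card_congr (Equiv.subtypeEquiv e.symm.toEquiv fun n => ?_)
    rfl
  rw [h1, DoubleCover.card_ker card_H0 CoverUnique.gxne]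

theorem ψ_mem_N {h : H0} (hh : h ∈ K) : NormalH.ψ h ∈ N := ⟨h, hh, rfl⟩

theorem mem_of_ψ_mem {h : H0} (hh : NormalH.ψ h ∈ N) : h ∈ K := by
  obtain ⟨k, hk, hkh⟩ := hh
  rwa [← ψ_inj hkh]

theorem conj_N (h : H0) {n : Cfsg.Spor.HN} (hn : n ∈ N) : NormalH.ψ h * n * (NormalH.ψ h)⁻¹ ∈ N := by
  obtain ⟨k, hk, rfl⟩ := hn
  rw [← map_mul, ← map_inv, ← map_mul]
  apply ψ_mem_N
  show sgn (h * k * h⁻¹) = 1
  have hk1 : sgn k = 1 := hk
  rw [map_mul, map_mul, map_inv, hk1, mul_one, mul_inv_cancel]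

/-! ### The two lifts of `H = 2.HS.2` -/

section

variable {L : Type} [Group L] [Finite L] {π : L →* Cfsg.Spor.HN} {c : L}

theorem c_notMem (hd : Dbl π c) : c ∉ DD π N :=
  not_mem hd HS.oneCover_Q comm_N f_surj f_ker two_dvd

/-- `D⟨Z⟩` -/
def SS {Z : L} (hZ : Z * Z = 1) (hDZ : ∀ d ∈ DD π N, Z * d * Z⁻¹ ∈ DD π N) : Subgroup L where
  carrier := {l | l ∈ DD π N ∨ l * Z ∈ DD π N}
  one_mem' := Or.inl (one_mem _)
  mul_mem' := by
    have hZi : Z⁻¹ = Z := inv_eq_of_mul_eq_one_left hZ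
    rintro a b (ha | ha) (hb | hb)
    · exact Or.inl (mul_mem ha hb)
    · right
      rw [mul_assoc]
      exact mul_mem ha hb
    · right
      have h1 : a * b * Z = a * Z * (Z * b * Z⁻¹) := by
        rw [hZi]
        calc a * b * Z = a * 1 * b * Z := by rw [mul_one]
          _ = a * (Z * Z) * b * Z := by rw [hZ]
          _ = _ := by group
      rw [h1]
      exact mul_mem ha (hDZ b hb)
    · left
      have h1 : a * b = a * Z * (Z * (b * Z) * Z⁻¹) := by
        calc a * b = a * 1 * b := by rw [mul_one]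
          _ = a * (Z * Z) * b := by rw [hZ]
          _ = _ := by group
      rw [h1]
      exact mul_mem ha (hDZ _ hb)
  inv_mem' := by
    have hZi : Z⁻¹ = Z := inv_eq_of_mul_eq_one_left hZ
    rintro a (ha | ha)
    · exact Or.inl (inv_mem ha)
    · right
      have h1 : a⁻¹ * Z = (Z * (a * Z) * Z⁻¹)⁻¹ := by
        calc a⁻¹ * Z = a⁻¹ * Z⁻¹ := by rw [hZi]
          _ = _ := by group
      rw [h1]
      exact inv_mem (hDZ _ ha)

/-- the relations of `2.HS.2` lift. -/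
theorem rels (hd : Dbl π c) {X Y Z : L} (hX : X ∈ DD π N) (hY : Y ∈ DD π N) (hXp : π X = hx) (hYp : π Y = hy)
    (hZp : π Z = hz) (hZ : Z * Z = 1) : Rels X Y Z := by
  have hzz : π Z = NormalH.ψ gz := by rw [hZp, NormalH.ψ_gz]
  have hDZ : ∀ d ∈ DD π N, Z * d * Z⁻¹ ∈ DD π N := fun d hd => conj_mem_DD (fun n hn => by
    rw [hzz]; exact conj_N gz hn) hd
  have hcS : c ∉ SS hZ hDZ := by
    rintro (h | h)
    · exact c_notMem hd h
    · have h1 : π (c * Z) ∈ N := DD_le N h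
      rw [map_mul, pi_c hd, one_mul, hzz] at h1
      exact gz_not_mem (mem_of_ψ_mem h1)
  have hXS : X ∈ SS hZ hDZ := Or.inl hX
  have hYS : Y ∈ SS hZ hDZ := Or.inl hY
  have hZS : Z ∈ SS hZ hDZ := Or.inr (by rw [hZ]; exact one_mem _)
  have hone : ∀ l ∈ SS hZ hDZ, π l = 1 → l = 1 := fun l hl h => by
    rcases (hd.ker l).1 h with h1 | h1
    · exact h1
    · rw [h1] at hl; exact absurd hl hcS
  have hR := rels_HN
  constructor
  · refine hone _ ?_ ?_
    · exact pow_mem hYS _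
    · simpa only [map_mul, map_pow, map_inv, hXp, hYp, hZp] using hR.r1
  · refine hone _ ?_ ?_
    · exact mul_mem (mul_mem (mul_mem (pow_mem hXS _) hYS) (pow_mem hXS _)) (inv_mem hYS)
    · simpa only [map_mul, map_pow, map_inv, hXp, hYp, hZp] using hR.r2
  · refine hone _ ?_ ?_
    · exact pow_mem (mul_mem (mul_mem (mul_mem (inv_mem hXS) (inv_mem hYS)) hXS) hYS) _
    · simpa only [map_mul, map_pow, map_inv, hXp, hYp, hZp] using hR.r3
  · refine hone _ ?_ ?_
    · exact pow_mem (mul_mem (mul_mem (mul_mem (inv_mem hXS) (pow_mem hYS _)) hXS) (pow_mem hYS _)) _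
    · simpa only [map_mul, map_pow, map_inv, hXp, hYp, hZp] using hR.r4
  · refine hone _ ?_ ?_
    · exact pow_mem (mul_mem hXS hYS) _
    · simpa only [map_mul, map_pow, map_inv, hXp, hYp, hZp] using hR.r5
  · refine hone _ ?_ ?_
    · exact pow_mem (mul_mem (mul_mem (mul_mem hXS hYS) hXS) (pow_mem hYS _)) _
    · simpa only [map_mul, map_pow, map_inv, hXp, hYp, hZp] using hR.r6
  · refine hone _ ?_ ?_
    · exact pow_mem hZS _
    · simpa only [map_mul, map_pow, map_inv, hXp, hYp, hZp] using hR.r7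
  · refine hone _ ?_ ?_
    · exact pow_mem (mul_mem hZS hXS) _
    · simpa only [map_mul, map_pow, map_inv, hXp, hYp, hZp] using hR.r8
  · refine hone _ ?_ ?_
    · have hw : Y * X * Y * X * (Y ^ 2) * X * (Y⁻¹) ∈ SS hZ hDZ :=
        mul_mem (mul_mem (mul_mem (mul_mem (mul_mem (mul_mem hYS hXS) hYS) hXS) (pow_mem hYS _)) hXS) (inv_mem hYS)
      exact mul_mem (mul_mem (mul_mem (mul_mem (inv_mem hZS) (inv_mem hw)) hZS) hw) (inv_mem (pow_mem hXS _))
    · simpa only [map_mul, map_pow, map_inv, hXp, hYp, hZp] using hR.r9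
  · refine hone _ ?_ ?_
    · have hw : Y ^ 3 * X * Y * X * Y ∈ SS hZ hDZ :=
        mul_mem (mul_mem (mul_mem (mul_mem (pow_mem hYS _) hXS) hYS) hXS) hYS
      exact mul_mem hZS (pow_mem (mul_mem (mul_mem (mul_mem (inv_mem hw) hZS) hw) hXS) _)
    · simpa only [map_mul, map_pow, map_inv, hXp, hYp, hZp] using hR.r10

/-- an involutory lift of `z` -/
theorem exists_Z (hd : Dbl π c) : ∃ Z, π Z = hz ∧ Z * Z = 1 := by
  have : IsSimpleGroup Cfsg.Spor.HN := Cfsg.Agent.S1701.result.1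
  obtain ⟨t, ht, htp⟩ := exists_mem_DD hd comm_N (ψ_mem_N τ_mem_K)
  obtain ⟨g, hg⟩ := hd.surj InvHN.r
  have htt : t * t = 1 := by
    have h1 : π (t * t) = 1 := by rw [map_mul, htp, ← map_mul, τ_mul_τ, map_one]
    rcases (hd.ker _).1 h1 with h | h
    · exact h
    · exact absurd (h ▸ mul_mem ht ht) (c_notMem hd)
  refine ⟨g * t * g⁻¹, ?_, ?_⟩
  · rw [map_mul, map_mul, map_inv, hg, htp, InvHN.r_τ, NormalH.ψ_gz]
  · calc g * t * g⁻¹ * (g * t * g⁻¹) = g * (t * t) * g⁻¹ := by group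
      _ = 1 := by rw [htt]; group

theorem relt : ht ^ 5 = 1 ∧ (hx⁻¹ * ht * hx) * ht ^ 2 = 1 ∧ ht⁻¹ * hy⁻¹ * ht * hy = 1 ∧ (hz * ht) ^ 3 = 1 := by
  refine ⟨?_, ?_, ?_, ?_⟩
  all_goals
    first
    | exact mk_extra (by simp [Cfsg.Spor.HN.extra])

theorem false_of_dbl (hd : Dbl π c) : False := by
  have hE : MulCov.Ext π c := ⟨hd.ne, hd.sq, hd.cen, hd.surj, hd.ker⟩
  obtain ⟨X, hX, hXp⟩ := exists_mem_DD hd comm_N (ψ_mem_N gx_mem)
  obtain ⟨Y, hY, hYp⟩ := exists_mem_DD hd comm_N (ψ_mem_N gy_mem)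
  rw [NormalH.ψ_gx] at hXp
  rw [NormalH.ψ_gy] at hYp
  obtain ⟨r5, rx, ry, rz⟩ := relt
  obtain ⟨T, hTp, hT⟩ := hE.exists_pow_odd (n := 5) (by decide) r5
  obtain ⟨Z₀, hZ₀p, hZ₀⟩ := exists_Z hd
  -- the lift of `z`
  obtain ⟨Z, hZp, hZ, hZT⟩ : ∃ Z, π Z = hz ∧ Z * Z = 1 ∧ (Z * T) ^ 3 = 1 := by
    have h1 : π ((Z₀ * T) ^ 3) = 1 := by rw [map_pow, map_mul, hZ₀p, hTp, rz]
    rcases (hd.ker _).1 h1 with h | h
    · exact ⟨Z₀, hZ₀p, hZ₀, h⟩
    · refine ⟨c * Z₀, by rw [map_mul, pi_c hd, one_mul, hZ₀p], ?_, ?_⟩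
      · calc c * Z₀ * (c * Z₀) = c * (Z₀ * c) * Z₀ := by group
          _ = c * c * (Z₀ * Z₀) := by rw [← hd.cen]; group
          _ = 1 := by rw [hd.sq, hZ₀, one_mul]
      · have h2 : Commute c (Z₀ * T) := hd.cen _
        rw [mul_assoc, h2.mul_pow, h]
        calc c ^ 3 * c = c * c * (c * c) := by simp only [pow_succ, pow_zero, one_mul, mul_assoc]
          _ = 1 := by rw [hd.sq, one_mul]
  have hR : Rels X Y Z := rels hd hX hY hXp hYp hZp hZ
  -- the relations with `t`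
  have hx' : (X⁻¹ * T * X) * T ^ 2 = 1 := by
    have h1 : π ((X⁻¹ * T * X) * T ^ 2) = 1 := by
      rw [map_mul, map_mul, map_mul, map_pow, map_inv, hXp, hTp, rx]
    rcases (hd.ker _).1 h1 with h | h
    · exact h
    · exfalso
      have h2 : X⁻¹ * T * X = c * (T ^ 2)⁻¹ := eq_mul_inv_of_mul_eq h
      have h3 : (X⁻¹ * T * X) ^ 5 = 1 := by
        have : (X⁻¹ * T * X) ^ 5 = X⁻¹ * T ^ 5 * X := by
          simp only [pow_succ, pow_zero, one_mul]
          group
        rw [this, hT]; group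
      have h4 : Commute c ((T ^ 2)⁻¹) := hd.cen _
      rw [h2, h4.mul_pow, inv_pow, ← pow_mul, mul_comm 2 5, pow_mul, hT, one_pow, inv_one, mul_one] at h3
      apply hd.ne
      calc c = c * (c * c) * (c * c) := by rw [hd.sq, mul_one, mul_one]
        _ = c ^ 5 := by simp only [pow_succ, pow_zero, one_mul, mul_assoc]
        _ = 1 := h3
  have hy' : T⁻¹ * Y⁻¹ * T * Y = 1 := by
    have h1 : π T * π Y = π Y * π T := by
      rw [hTp, hYp]
      have : hy * ht * (ht⁻¹ * hy⁻¹ * ht * hy) = ht * hy := by group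
      rw [← this, ry, mul_one]
    have h2 := hE.comm_of_odd (n := 5) (by decide) (by rw [hTp]; exact r5) h1
    calc T⁻¹ * Y⁻¹ * T * Y = T⁻¹ * Y⁻¹ * (T * Y) := by group
      _ = 1 := by rw [h2]; group
  obtain ⟨s, sx, sy, sz, st⟩ := Hom.exists_hom hR hT hx' hy' hZT
  refine MulCov.Cov.false_of_section (π := π) (c := c) ⟨hE, hd.perf⟩ s ?_
  intro g
  have h1 : π.comp s = MonoidHom.id _ := by
    apply PresentedGroup.ext
    intro a
    cases a
    · show π (s hx) = hx; rw [sx, hXp]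
    · show π (s hy) = hy; rw [sy, hYp]
    · show π (s hz) = hz; rw [sz, hZp]
    · show π (s ht) = ht; rw [st, hTp]
  exact DFunLike.congr_fun h1 g

end

/-- **The multiplier of `HN` has odd order.** -/
theorem noDouble : NoDouble Cfsg.Spor.HN := fun _ _ _ _ _ hd => false_of_dbl hd

end Cfsg.Agent.KFacts.MulSpor.HN
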