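import Cfsg.Agent.KFacts.MulSpor.HeSign
import Cfsg.Agent.S1695

/-!
# The Held group has no perfect double cover: unconditional form
-/

set_option autoImplicit false

namespace Cfsg.Agent.KFacts.MulSpor.He

open Cfsg.Agent.KFacts.MulDef Cfsg.Agent.SporadicB.HePerm

theorem phi_injective : Function.Injective phi := by
  have h := Cfsg.Agent.S1695.result
  have : Finite Cfsg.Spor.He := Nat.finite_of_card_ne_zero (by rw [h.2]; norm_num)
  exact (injective_of_card_le h.2.le).1

/-- The Held group has no perfect double cover. -/
theorem noDouble_he : NoDouble Cfsg.Spor.He := HeSign.noDouble_of_injective phi_injective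

theorem noDouble_isoHe {X : Type*} [Group X] (h : Cfsg.Spor.IsoHe X) : NoDouble X := by
  obtain ⟨e⟩ := h
  exact noDouble_he.congr e.symm

end Cfsg.Agent.KFacts.MulSpor.He
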