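import Cfsg.Agent.KFacts.MulSpor.SignLift
import Cfsg.Agent.KFacts.MulDef
import Cfsg.Agent.SporadicB.HePerm.Final

/-!
# The Held group has no perfect double cover

The two classes of involutions (`a`, `e`) lift to involutions by `seven` applied to `⟨b, e, f⟩` and `⟨a, e, f⟩`; then the
relators of the presentation, all of them powers, hold for suitable lifts of the generators.
-/

set_option autoImplicit false

namespace Cfsg.Agent.KFacts.MulSpor.HeSign

open Cfsg.Spor Cfsg.Spor.He Cfsg.Agent.SporadicB.HePerm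
open Cfsg.Agent.KFacts.MulCov Cfsg.Agent.KFacts.MulSpor.SignLift

/-- the elements of the class of `a`, with conjugating words -/
def listA : List (List Gen × List Gen) := [
  ([.b], [.b, .c, .d, .e, .f, .d, .c, .b, .g, .d, .f, .c, .d, .c, .d, .b, .c]),
  ([.c], [.b, .c, .d, .e, .f, .d, .c, .g, .d, .f, .b, .c, .d, .c, .d]),
  ([.a, .e], [.b, .c, .d, .c, .d, .f, .d, .c, .d, .f, .c, .d, .b]),
  ([.a, .f], [.b, .c, .d, .e, .f, .d, .g, .c, .b]),
  ([.a, .e, .f], [.b, .c, .d, .e, .f, .d, .c, .b]),
  ([.a, .d], [.b, .c, .d, .e, .f, .d, .g, .c, .d, .f, .b]),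
  ([.a, .g], [.b, .c, .d, .e, .g, .d, .f, .c, .b]),
  ([.a, .b, .a, .b], [.b, .c, .d, .c, .f, .d, .c, .d, .f, .d, .c, .d, .c])]

/-- the elements of the class of `e`, with conjugating words -/
def listE : List (List Gen × List Gen) := [
  ([.f], [.d, .f, .e, .d]),
  ([.e, .f], [.d, .f, .e, .d, .g]),
  ([.b, .e], [.d, .c, .d, .c, .b, .e, .d, .c]),
  ([.b, .f], [.d, .c, .d, .c, .b, .e, .d, .c, .d, .f, .e, .d]),
  ([.b, .e, .f], [.d, .c, .d, .c, .b, .e, .d, .c, .d, .f, .e, .d, .g]),
  ([.d], [.d, .e]),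
  ([.g], [.d, .g, .e, .d]),
  ([.a, .c], [.d, .c, .e, .d, .c, .d]),
  ([.b, .d], [.d, .c, .d, .c, .b, .e, .d, .c, .d, .e]),
  ([.b, .g], [.d, .c, .d, .c, .b, .e, .d, .c, .d, .g, .e, .d]),
  ([.c, .e], [.d, .c, .d, .e, .c, .d]),
  ([.c, .f], [.d, .c, .d, .c, .b, .e, .d, .c, .d, .f, .e, .d, .c, .b]),
  ([.c, .g], [.d, .c, .d, .c, .b, .e, .d, .c, .d, .g, .e, .d, .c, .b]),
  ([.e, .g], [.d, .g, .e, .d, .f]),
  ([.c, .d, .f, .g, .c, .d, .f, .g], [.d, .c, .f, .d, .g, .d, .f])]

/-- `h v` and `r h` act in the same way -/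
def chk (r : Gen) (p : List Gen × List Gen) : Bool :=
  allBelow 2058 fun i => Nat.beq (act (p.2 ++ p.1) i) (act (r :: p.2) i)

theorem chkA : listA.all (chk .a) = true := by decide +kernel
theorem chkE : listE.all (chk .e) = true := by decide +kernel

theorem wd_append (v w : List Gen) : wd (v ++ w) = wd v * wd w := by
  unfold wd; rw [List.map_append, List.prod_append]

theorem wd_cons (x : Gen) (w : List Gen) : wd (x :: w) = wd [x] * wd w := wd_append [x] w

theorem conj_of_chk (hinj : Function.Injective phi) {r : Gen} {p : List Gen × List Gen} (h : chk r p = true) :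
    wd p.2 * wd p.1 = wd [r] * wd p.2 := by
  rw [← wd_append, ← wd_cons]
  apply hinj
  refine Equiv.ext fun i => Fin.ext ?_
  rw [phi_wd_apply, phi_wd_apply]
  exact Nat.eq_of_beq_eq_true (of_allBelow h i i.2)

theorem wd_single (x : Gen) : wd [x] = PresentedGroup.of x := by unfold wd; simp

theorem wd_sq (x : Gen) : wd [x] * wd [x] = 1 := by
  rw [wd_single]
  have h1 : ((FreeGroup.of x * FreeGroup.of x) ^ coxLabel edges x x) ∈ coxRelators edges ∪ {r | r ∈ extra} := by
    left
    exact ⟨x, by cases x <;> decide, x, by cases x <;> decide, rfl⟩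
  have h2 := PresentedGroup.one_of_mem h1
  have h3 : coxLabel edges x x = 1 := by unfold coxLabel; simp
  rw [h3, pow_one] at h2
  exact h2

universe u

variable {L : Type u} [Group L] {π : L →* Cfsg.Spor.He} {c : L}

theorem comm_gen (x y : Gen) (hxy : coxLabel edges x y = 2) : wd [x] * wd [y] = wd [y] * wd [x] := by
  have h1 : ((FreeGroup.of x * FreeGroup.of y) ^ coxLabel edges x y) ∈ coxRelators edges ∪ {r | r ∈ extra} := by
    left
    exact ⟨x, by cases x <;> decide, y, by cases y <;> decide, rfl⟩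
  have h2 := PresentedGroup.one_of_mem h1
  rw [hxy] at h2
  have h3 : (wd [x] * wd [y]) ^ 2 = 1 := by rw [wd_single, wd_single]; exact h2
  rw [pow_two] at h3
  exact comm_of_isSq (wd_sq x) (wd_sq y) h3

theorem pow_gen (x y : Gen) : (wd [x] * wd [y]) ^ coxLabel edges x y = 1 := by
  have h1 : ((FreeGroup.of x * FreeGroup.of y) ^ coxLabel edges x y) ∈ coxRelators edges ∪ {r | r ∈ extra} := by
    left
    exact ⟨x, by cases x <;> decide, y, by cases y <;> decide, rfl⟩
  have h2 := PresentedGroup.one_of_mem h1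
  rw [wd_single, wd_single]
  exact h2

/-- all the involutions that we need lift to involutions -/
theorem good (hinj : Function.Injective phi) (h : Ext π c) :
    IsSq π (wd [.a]) 1 ∧ IsSq π (wd [.e]) 1 ∧ (∀ w ∈ listA.map Prod.fst, IsSq π (wd w) 1) ∧
      ∀ w ∈ listE.map Prod.fst, IsSq π (wd w) 1 := by
  obtain ⟨sA, hA, hA'⟩ := exists_isSq h (wd_sq .a)
  obtain ⟨sE, hE, hE'⟩ := exists_isSq h (wd_sq .e)
  have hAl : ∀ w ∈ listA.map Prod.fst, IsSq π (wd w) sA := by
    intro w hw
    obtain ⟨p, hp, rfl⟩ := List.mem_map.1 hw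
    exact hA'.of_conj h hA (conj_of_chk hinj (List.all_eq_true.1 chkA p hp))
  have hEl : ∀ w ∈ listE.map Prod.fst, IsSq π (wd w) sE := by
    intro w hw
    obtain ⟨p, hp, rfl⟩ := List.mem_map.1 hw
    exact hE'.of_conj h hE (conj_of_chk hinj (List.all_eq_true.1 chkE p hp))
  have e1 : sA * sE * sE * sE * sE * sE * sE = 1 := by
    refine seven h (comm_gen .b .e (by decide)) (comm_gen .b .f (by decide)) (comm_gen .e .f (by decide)) hA hE hE
      (hAl [.b] (by decide)) hE' (hEl [.f] (by decide)) ?_ ?_ ?_ ?_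
    · rw [← wd_append]; exact hEl [.b, .e] (by decide)
    · rw [← wd_append]; exact hEl [.b, .f] (by decide)
    · rw [← wd_append]; exact hEl [.e, .f] (by decide)
    · rw [← wd_append, ← wd_append]; exact hEl [.b, .e, .f] (by decide)
  have e2 : sA * sE * sE * sA * sA * sE * sA = 1 := by
    refine seven h (comm_gen .a .e (by decide)) (comm_gen .a .f (by decide)) (comm_gen .e .f (by decide)) hA hE hE
      hA' hE' (hEl [.f] (by decide)) ?_ ?_ ?_ ?_
    · rw [← wd_append]; exact hAl [.a, .e] (by decide)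
    · rw [← wd_append]; exact hAl [.a, .f] (by decide)
    · rw [← wd_append]; exact hEl [.e, .f] (by decide)
    · rw [← wd_append, ← wd_append]; exact hAl [.a, .e, .f] (by decide)
  have hsA : sA = 1 ∧ sE = 1 := by
    have hcc := h.sq
    have hne := h.ne
    rcases hA with rfl | rfl <;> rcases hE with rfl | rfl <;>
      simp only [mul_one, one_mul, hcc] at e1 e2 <;> simp_all
  obtain ⟨rfl, rfl⟩ := hsA
  exact ⟨hA', hE', hAl, hEl⟩

/-- commuting generators -/
theorem comm_lift {w w' : List Gen} {x y : L} (hx : π x = wd w) (hy : π y = wd w') (h1 : x * x = 1) (h2 : y * y = 1)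
    (h3 : IsSq π (wd (w ++ w')) 1) : x * y = y * x :=
  comm_of_isSq h1 h2 (h3 _ (by rw [map_mul, hx, hy, wd_append]))

theorem pow_symm {x y : L} {n : ℕ} (h : (x * y) ^ n = 1) : (y * x) ^ n = 1 := by
  have h1 : y * x = x⁻¹ * (x * y) * x := by group
  have h2 : (x⁻¹ * (x * y) * x) ^ n = x⁻¹ * (x * y) ^ n * x := by
    have := conj_pow (i := n) (a := x⁻¹) (b := x * y)
    rwa [inv_inv] at this
  rw [h1, h2, h]; group

/-- **The Held group has no perfect double cover** (given that its permutation representation is faithful). -/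
theorem exists_section (hinj : Function.Injective phi) (h : Ext π c) :
    ∃ s : Cfsg.Spor.He →* L, ∀ x, π (s x) = x := by
  obtain ⟨gA, gE, gAl, gEl⟩ := good hinj h
  have sur : ∀ x : Gen, ∃ y : L, π y = wd [x] := fun x => h.surj _
  -- signs
  obtain ⟨F0, hF0⟩ := sur .f
  obtain ⟨G0, hG0⟩ := sur .g
  obtain ⟨D0, hD0⟩ := sur .d
  obtain ⟨C0, hC0⟩ := sur .c
  obtain ⟨B0, hB0⟩ := sur .b
  have three : ∀ x y : Gen, coxLabel edges x y = 3 → ∀ u v : L, π u = wd [x] → π v = wd [y] →
      ∃ u', π u' = wd [x] ∧ (u' = u ∨ u' = c * u) ∧ (u' * v) ^ 3 = 1 := by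
    intro x y hxy u v hu hv
    have h1 : (π u * π v) ^ 3 = 1 := by rw [hu, hv, ← hxy]; exact pow_gen x y
    rw [← map_mul, ← map_pow] at h1
    rcases (h.ker _).1 h1 with h1 | h1
    · exact ⟨u, hu, Or.inl rfl, h1⟩
    · refine ⟨c * u, by rw [map_mul, h.map_c, one_mul, hu], Or.inr rfl, ?_⟩
      have hc : Commute c (u * v) := h.cen _
      rw [mul_assoc, hc.mul_pow, h1, h.pow_c_odd (by decide), h.sq]
  -- the relators of He
  have hex : ∀ r ∈ extra, (PresentedGroup.mk (coxRelators edges ∪ {r | r ∈ extra}) r : Cfsg.Spor.He) = 1 :=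
    fun r hr => PresentedGroup.one_of_mem (Or.inr hr)
  have rE : wd [.e] = (wd [.f] * wd [.g]) ^ 2 := by
    have h1 := hex _ (by unfold extra; exact List.mem_cons_self)
    rw [map_mul, map_inv, mul_inv_eq_one] at h1
    rw [wd_single, wd_single, wd_single]
    exact h1
  have rE2 : wd [.e] = (wd [.a] * wd [.b] * wd [.c]) ^ 3 := by
    have h1 := hex (He.e * ((He.a * He.b * He.c) ^ 3)⁻¹) (by unfold extra; simp)
    rw [map_mul, map_inv, mul_inv_eq_one] at h1
    rw [wd_single, wd_single, wd_single, wd_single]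
    exact h1
  have rA : wd [.a] = (wd [.c] * wd [.d]) ^ 5 := by
    have h1 := hex (He.a * ((He.c * He.d) ^ 5)⁻¹) (by unfold extra; simp)
    rw [map_mul, map_inv, mul_inv_eq_one] at h1
    rw [wd_single, wd_single, wd_single]
    exact h1
  -- the element `E`
  set E : L := (F0 * G0) ^ 2 with hE
  have hπE : π E = wd [.e] := by rw [hE, map_pow, map_mul, hF0, hG0, rE]
  obtain ⟨D, hD, -, hDE⟩ := three .d .e (by decide) D0 E hD0 hπE
  obtain ⟨F, hF, hF', hFD⟩ := three .f .d (by decide) F0 D hF0 hD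
  obtain ⟨G, hG, hG', hGD⟩ := three .g .d (by decide) G0 D hG0 hD
  have hFG : (F * G) ^ 2 = E := by
    have hcc := h.sq
    have hcen := h.cen
    have key : ∀ u v : L, (c * u * v) ^ 2 = (u * v) ^ 2 := by
      intro u v
      have hc : Commute c (u * v) := h.cen _
      rw [mul_assoc, hc.mul_pow, pow_two c, h.sq, one_mul]
    rcases hF' with e1 | e1
    · rcases hG' with e2 | e2
      · rw [e1, e2]
      · rw [e1, e2, ← mul_assoc, ← h.cen F0, key]
    · rcases hG' with e2 | e2
      · rw [e1, e2, key]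
      · rw [e1, e2, ← mul_assoc, mul_assoc c F0 c, ← h.cen F0, ← mul_assoc c c F0, h.sq, one_mul]
  -- `C`, then `A = (C D)^5` and `B`
  have hC : ∃ A B C : L, π A = wd [.a] ∧ π B = wd [.b] ∧ π C = wd [.c] ∧ A = (C * D) ^ 5 ∧ (B * C) ^ 3 = 1 ∧
      (A * B * C) ^ 3 = E := by
    obtain ⟨B, hB, -, hBC⟩ := three .b .c (by decide) B0 C0 hB0 hC0
    have hA : π ((C0 * D) ^ 5) = wd [.a] := by rw [map_pow, map_mul, hC0, hD, rA]
    have h1 : π (((C0 * D) ^ 5 * B * C0) ^ 3) = π E := by
      rw [map_pow, map_mul, map_mul, hA, hB, hC0, hπE, rE2]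
    rcases h.eq_or h1 with h2 | h2
    · exact ⟨(C0 * D) ^ 5, B, C0, hA, hB, hC0, rfl, hBC, h2⟩
    · have hc1 : Commute c (C0 * D) := h.cen _
      have e1 : (c * C0 * D) ^ 5 = c * (C0 * D) ^ 5 := by
        rw [mul_assoc, hc1.mul_pow, h.pow_c_odd (by decide)]
      refine ⟨c * (C0 * D) ^ 5, c * B, c * C0, by rw [map_mul, h.map_c, one_mul, hA],
        by rw [map_mul, h.map_c, one_mul, hB], by rw [map_mul, h.map_c, one_mul, hC0], e1.symm, ?_, ?_⟩
      · rw [← hBC]
        congr 1
        rw [mul_assoc, ← mul_assoc B, ← h.cen B, mul_assoc, ← mul_assoc c c, h.sq, one_mul]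
      · have e2 : c * (C0 * D) ^ 5 * (c * B) * (c * C0) = c * ((C0 * D) ^ 5 * B * C0) := by
          have e3 : (C0 * D) ^ 5 * c = c * (C0 * D) ^ 5 := (h.cen _).symm
          calc c * (C0 * D) ^ 5 * (c * B) * (c * C0) = c * ((C0 * D) ^ 5 * c) * (B * c) * C0 := by group
            _ = c * (c * (C0 * D) ^ 5) * (c * B) * C0 := by rw [e3, ← h.cen B]
            _ = c * c * ((C0 * D) ^ 5 * c) * B * C0 := by group
            _ = c * c * (c * (C0 * D) ^ 5) * B * C0 := by rw [e3]
            _ = _ := by rw [h.sq]; group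
        have hc2 : Commute c ((C0 * D) ^ 5 * B * C0) := h.cen _
        rw [e2, hc2.mul_pow, h.pow_c_odd (by decide), h2, h.cen, mul_assoc, h.sq, mul_one]
  obtain ⟨A, B, C, hA, hB, hC, hAeq, hBC, hABC⟩ := hC
  -- the map on generators
  let f : Gen → L := fun x => match x with
    | .a => A | .b => B | .c => C | .d => D | .e => E | .f => F | .g => G
  have hf : ∀ x, π (f x) = wd [x] := by
    intro x
    cases x
    · exact hA
    · exact hB
    · exact hC
    · exact hD
    · exact hπE
    · exact hF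
    · exact hG
  have hsq : ∀ x, f x * f x = 1 := by
    intro x
    have hx := hf x
    cases x
    · exact gA _ hx
    · exact gAl [.b] (by decide) _ hx
    · exact gAl [.c] (by decide) _ hx
    · exact gEl [.d] (by decide) _ hx
    · exact gE _ hx
    · exact gEl [.f] (by decide) _ hx
    · exact gEl [.g] (by decide) _ hx
  have hcomm : ∀ x y : Gen, IsSq π (wd [x, y]) 1 → (f x * f y) ^ 2 = 1 ∧ (f y * f x) ^ 2 = 1 := by
    intro x y hxy
    have h1 : f x * f y = f y * f x := comm_lift (w := [x]) (w' := [y]) (hf x) (hf y) (hsq x) (hsq y) hxy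
    have h2 : (f x * f y) ^ 2 = 1 := by
      rw [pow_two]; exact hxy _ (by rw [map_mul, hf, hf]; rfl)
    exact ⟨h2, by rw [← h1]; exact h2⟩
  have hAB4 : (A * B) ^ 4 = 1 := by
    have h1 : π ((A * B) ^ 2) = wd [.a, .b, .a, .b] := by
      rw [map_pow, map_mul, hA, hB, pow_two]; rfl
    have h2 := gAl [.a, .b, .a, .b] (by decide) _ h1
    rw [← h2, ← pow_add]
  have hCD10 : (C * D) ^ 10 = 1 := by
    have h2 := hsq .a
    have h3 : f .a = A := rfl
    rw [h3, hAeq, ← pow_add] at h2
    exact h2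
  have hFG4 : (F * G) ^ 4 = 1 := by
    have h2 := hsq .e
    have h3 : f .e = E := rfl
    rw [h3, ← hFG, ← pow_add] at h2
    exact h2
  have hrel : ∀ x y : Gen, (f x * f y) ^ coxLabel edges x y = 1 := by
    have sym : ∀ x y : Gen, ∀ n, (f x * f y) ^ n = 1 → (f y * f x) ^ n = 1 := fun x y n => pow_symm
    have ac := hcomm .a .c (gEl [.a, .c] (by decide))
    have ad := hcomm .a .d (gAl [.a, .d] (by decide))
    have ae := hcomm .a .e (gAl [.a, .e] (by decide))
    have af := hcomm .a .f (gAl [.a, .f] (by decide))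
    have ag := hcomm .a .g (gAl [.a, .g] (by decide))
    have bd := hcomm .b .d (gEl [.b, .d] (by decide))
    have be := hcomm .b .e (gEl [.b, .e] (by decide))
    have bf := hcomm .b .f (gEl [.b, .f] (by decide))
    have bg := hcomm .b .g (gEl [.b, .g] (by decide))
    have ce := hcomm .c .e (gEl [.c, .e] (by decide))
    have cf := hcomm .c .f (gEl [.c, .f] (by decide))
    have cg := hcomm .c .g (gEl [.c, .g] (by decide))
    have ef := hcomm .e .f (gEl [.e, .f] (by decide))
    have eg := hcomm .e .g (gEl [.e, .g] (by decide))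
    have ab : (f .a * f .b) ^ 4 = 1 := hAB4
    have bc : (f .b * f .c) ^ 3 = 1 := hBC
    have cd : (f .c * f .d) ^ 10 = 1 := hCD10
    have de : (f .d * f .e) ^ 3 = 1 := hDE
    have fd : (f .f * f .d) ^ 3 = 1 := hFD
    have gd : (f .g * f .d) ^ 3 = 1 := hGD
    have fg : (f .f * f .g) ^ 4 = 1 := hFG4
    have ba := sym .a .b 4 ab
    have cb := sym .b .c 3 bc
    have dc := sym .c .d 10 cd
    have ed := sym .d .e 3 de
    have df := sym .f .d 3 fd
    have dg := sym .g .d 3 gd
    have gf := sym .f .g 4 fg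
    intro x y
    by_cases hxy : x = y
    · subst hxy
      have h3 : coxLabel edges x x = 1 := by unfold coxLabel; simp
      rw [h3, pow_one]; exact hsq x
    · cases x <;> cases y <;> first
        | exact (hxy rfl).elim
        | exact ac.1 | exact ac.2 | exact ad.1 | exact ad.2 | exact ae.1 | exact ae.2 | exact af.1 | exact af.2
        | exact ag.1 | exact ag.2 | exact bd.1 | exact bd.2 | exact be.1 | exact be.2 | exact bf.1 | exact bf.2
        | exact bg.1 | exact bg.2 | exact ce.1 | exact ce.2 | exact cf.1 | exact cf.2 | exact cg.1 | exact cg.2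
        | exact ef.1 | exact ef.2 | exact eg.1 | exact eg.2 | exact ab | exact ba | exact bc
        | exact cb | exact cd | exact dc | exact de | exact ed | exact fd
        | exact df | exact gd | exact dg | exact fg | exact gf
  have hall : ∀ r ∈ coxRelators edges ∪ {r | r ∈ extra}, FreeGroup.lift f r = 1 := by
    rintro r (⟨x, -, y, -, rfl⟩ | hr)
    · rw [map_pow, map_mul, FreeGroup.lift_apply_of, FreeGroup.lift_apply_of]
      exact hrel x y
    · have hr' : r ∈ extra := hr
      simp only [extra, List.mem_cons, List.not_mem_nil, or_false] at hr'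
      rcases hr' with rfl | rfl | rfl | rfl
      · simp only [map_mul, map_inv, map_pow, FreeGroup.lift_apply_of]
        rw [mul_inv_eq_one]; exact hFG.symm
      · simp only [map_mul, map_inv, map_pow, FreeGroup.lift_apply_of]
        rw [mul_inv_eq_one]; exact hABC.symm
      · simp only [map_mul, map_inv, map_pow, FreeGroup.lift_apply_of]
        rw [mul_inv_eq_one]; exact hAeq
      · simp only [map_mul, map_pow, FreeGroup.lift_apply_of]
        show (C * D * F * G) ^ 4 = 1
        have h1 : π ((C * D * F * G) ^ 2) = wd [.c, .d, .f, .g, .c, .d, .f, .g] := by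
          rw [map_pow, map_mul, map_mul, map_mul, hC, hD, hF, hG, pow_two, ← wd_append, ← wd_append, ← wd_append,
            ← wd_append]
          rfl
        have h2 := gEl [.c, .d, .f, .g, .c, .d, .f, .g] (by decide) _ h1
        rw [← h2, ← pow_add]
  refine ⟨PresentedGroup.toGroup hall, ?_⟩
  have hid : π.comp (PresentedGroup.toGroup hall) = MonoidHom.id _ := by
    apply PresentedGroup.ext
    intro x
    rw [MonoidHom.comp_apply, PresentedGroup.toGroup.of, hf, wd_single]
    rfl
  intro x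
  exact DFunLike.congr_fun hid x

open Cfsg.Agent.KFacts.MulDef in
theorem noDouble_of_injective (hinj : Function.Injective phi) : NoDouble Cfsg.Spor.He := by
  intro L _ _ π c hd
  have h : Cov π c := { ne := hd.ne, sq := hd.sq, cen := hd.cen, surj := hd.surj, ker := hd.ker, perf := hd.perf }
  obtain ⟨s, hs⟩ := exists_section hinj h.toExt
  exact h.false_of_section s hs

end Cfsg.Agent.KFacts.MulSpor.HeSign
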