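import Cfsg.Agent.KFacts.MulSpor.J3
import Cfsg.Agent.KFacts.J3

/-!
# The Janko group `J₃` has no perfect double cover (helper279)
-/

set_option autoImplicit false

namespace Cfsg.Agent.KFacts.MulSpor.J3Iso

open Subgroup Cfsg Cfsg.Agent.KFacts.MulDef Cfsg.Agent.J3Type.OneClass

universe u

/-- **The 2-part of the Schur multiplier of `J₃` is trivial.** -/
theorem noDouble (X : Type u) [Group X] (h : Spor.IsoJ3 X) : NoDouble X := by
  obtain ⟨-, z, Q, v, ρ, n, w, F⟩ := Cfsg.Agent.KFacts.J3.exists_facts h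
  have M := F.model
  have hz2 : orderOf z = 2 := orderOf_eq_prime (by rw [pow_two]; exact congrArg Subtype.val M.z_sq)
    (fun e => M.z_ne (Subtype.ext e))
  refine Cfsg.Agent.KFacts.MulSpor.J3.noDouble (t := z) ⟨hz2, F.card_C, Q, v, ρ, M⟩ ?_
  have h1 : ∀ x : X, orderOf x = 2 → IsConj z x := by
    intro x hx
    obtain ⟨g, hg⟩ := F.one x (fun e => by rw [e, orderOf_one] at hx; omega) (by
      rw [← pow_two, ← hx, pow_orderOf_eq_one])
    exact isConj_iff.2 ⟨g, hg⟩
  intro x y hx hy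
  exact (h1 x hx).symm.trans (h1 y hy)

end Cfsg.Agent.KFacts.MulSpor.J3Iso
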