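import Cfsg.Agent.KFacts.MulSpor.AffAlt

/-!
# Central extensions by an involution: subgroups of shape `2^{1+2k} . A_n` of odd index (helper931)

`false_of_large`: no perfect group with a central involution `c` has a subgroup `P` of odd index with a map `ρ` onto
`A_n`, `n ≥ 8`, such that the kernel `A ∋ c` of `ρ` has all squares in `{1, z}` (`z` central in `P`, `z ≠ c`), the
elements over three-cycles have no fixed points on `A / ⟨c, z⟩`, and some `u ∈ P` over a double transposition commutes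
with some `e ∈ P`, `e² ∈ {1, z}`, such that the images of `e` and `eu` are conjugate.
-/

set_option autoImplicit false
set_option linter.style.haveILetI false

namespace Cfsg.Agent.KFacts.MulSpor.LargeAlt

open Subgroup Equiv
open Cfsg.Agent.KFacts.MulTwo Cfsg.Agent.KFacts.MulSpor.AffAlt
open Cfsg.Agent.SporadicRecognition.AltCover
open Cfsg.Agent.Lib.AltCarmichael

variable {L : Type*} [Group L] {c : L}

/-- `AffAlt.false_of_invariant` with `x² ∈ A₁`. -/
theorem false_of_invariant [Finite L] (h : Ctr c) {P A A₁ : Subgroup L} (odd : ¬ 2 ∣ P.index) (cA : c ∈ A)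
    (AP : A ≤ P) {m : ℕ} (hm : 3 ≤ m) (ρ : P →* alternatingGroup (Fin (m + 2))) (surj : Function.Surjective ρ)
    (ker : ∀ g : P, ρ g = 1 ↔ (g : L) ∈ A) (hA₁ : A₁ ≤ A) (inv₁ : ∀ g ∈ P, ∀ a ∈ A₁, g * a * g⁻¹ ∈ A₁)
    (hc₁ : c ∉ A₁) (h₁ : ∀ a ∈ A, a ∈ A₁ ∨ c * a ∈ A₁) {x : P} (hx : (x : L) * x ∈ A₁)
    {a b a' b' : Fin (m + 2)} (h1 : a ≠ b) (h2 : a ≠ a') (h3 : a ≠ b') (h4 : b ≠ a') (h5 : b ≠ b')
    (h6 : a' ≠ b') (hx' : (ρ x : Perm (Fin (m + 2))) = swap a b * swap a' b') : False := by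
  have hcP : c ∈ P := AP cA
  let N : Subgroup P := A₁.subgroupOf P
  have hNn : N.Normal := ⟨fun n hn g => mem_subgroupOf.2 (inv₁ g g.2 n (mem_subgroupOf.1 hn))⟩
  have hN : ∀ g : P, (QuotientGroup.mk g : P ⧸ N) = 1 ↔ (g : L) ∈ A₁ := fun g => by
    rw [QuotientGroup.eq_one_iff]; exact mem_subgroupOf
  let π : P ⧸ N →* alternatingGroup (Fin (m + 2)) := QuotientGroup.lift N ρ (fun g hg =>
    (ker g).2 (hA₁ (mem_subgroupOf.1 hg)))
  have hπ : ∀ g : P, π (QuotientGroup.mk g) = ρ g := fun g => rfl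
  let z : P ⧸ N := QuotientGroup.mk ⟨c, hcP⟩
  have hzz : z * z = 1 := by
    show (QuotientGroup.mk (⟨c, hcP⟩ * ⟨c, hcP⟩ : P) : P ⧸ N) = 1
    have : (⟨c, hcP⟩ * ⟨c, hcP⟩ : P) = 1 := Subtype.ext h.sq
    rw [this]; rfl
  have hz1 : z ≠ 1 := fun e => hc₁ ((hN _).1 e)
  have hzc : ∀ y : P ⧸ N, y * z = z * y := by
    intro y
    induction y using QuotientGroup.induction_on with
    | H g =>
      show (QuotientGroup.mk (g * ⟨c, hcP⟩ : P) : P ⧸ N) = QuotientGroup.mk (⟨c, hcP⟩ * g : P)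
      have : (g * ⟨c, hcP⟩ : P) = ⟨c, hcP⟩ * g := Subtype.ext (h.cen g).symm
      rw [this]
  have hker : ∀ y : P ⧸ N, π y = 1 ↔ y = 1 ∨ y = z := by
    intro y
    induction y using QuotientGroup.induction_on with
    | H g =>
      rw [hπ, ker]
      constructor
      · intro hg
        rcases h₁ g hg with e | e
        · left; exact (hN g).2 e
        · right
          have e1 : (QuotientGroup.mk (⟨c, hcP⟩ * g : P) : P ⧸ N) = 1 := (hN _).2 e
          have e2 : z * (QuotientGroup.mk g : P ⧸ N) = 1 := e1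
          rw [eq_inv_of_mul_eq_one_right e2, inv_eq_of_mul_eq_one_left hzz]
      · rintro (e | e)
        · exact hA₁ ((hN g).1 e)
        · have e1 : (QuotientGroup.mk g : P ⧸ N) * (QuotientGroup.mk ⟨c, hcP⟩)⁻¹ = 1 := by
            rw [e]; exact mul_inv_cancel z
          have e2 : (QuotientGroup.mk (g * ⟨c, hcP⟩⁻¹ : P) : P ⧸ N) = 1 := e1
          have e3 : (g : L) * c⁻¹ ∈ A := hA₁ ((hN _).1 e2)
          have := mul_mem e3 cA
          rwa [inv_mul_cancel_right] at this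
  have hsurj : Function.Surjective π := fun y => by
    obtain ⟨g, rfl⟩ := surj y
    exact ⟨QuotientGroup.mk g, rfl⟩
  have hxx : (QuotientGroup.mk x : P ⧸ N) * QuotientGroup.mk x = 1 := by
    show (QuotientGroup.mk (x * x : P) : P ⧸ N) = 1
    exact (hN _).2 hx
  obtain ⟨s, hs⟩ := exists_section hm π z hz1 hzz hzc hsurj hker hxx h1 h2 h3 h4 h5 h6 hx'
  refine h.false_of_compl (P₁ := (s.range.comap (QuotientGroup.mk' N)).map P.subtype) hcP odd ?_ ?_
  · rintro ⟨g, hg, hgc⟩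
    have e1 : g = ⟨c, hcP⟩ := Subtype.ext hgc
    obtain ⟨y, hy⟩ := hg
    have e2 : s y = z := by rw [hy, e1]; rfl
    have e3 := hs y
    rw [e2, (hker z).2 (Or.inr rfl)] at e3
    rw [← e3, map_one] at e2
    exact hz1 e2.symm
  · intro g hg
    have e1 : π ((QuotientGroup.mk ⟨g, hg⟩ : P ⧸ N) * (s (π (QuotientGroup.mk ⟨g, hg⟩)))⁻¹) = 1 := by
      rw [map_mul, map_inv, hs, mul_inv_cancel]
    rcases (hker _).1 e1 with e2 | e2
    · left
      refine ⟨⟨g, hg⟩, ?_, rfl⟩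
      show (QuotientGroup.mk ⟨g, hg⟩ : P ⧸ N) ∈ s.range
      rw [mul_inv_eq_one.1 e2]
      exact ⟨_, rfl⟩
    · right
      refine ⟨⟨c, hcP⟩ * ⟨g, hg⟩, ?_, rfl⟩
      show z * (QuotientGroup.mk ⟨g, hg⟩ : P ⧸ N) ∈ s.range
      have e3 : (QuotientGroup.mk ⟨g, hg⟩ : P ⧸ N) = z * s (π (QuotientGroup.mk ⟨g, hg⟩)) :=
        mul_inv_eq_iff_eq_mul.1 e2
      have e4 : z * (QuotientGroup.mk ⟨g, hg⟩ : P ⧸ N) = s (π (QuotientGroup.mk ⟨g, hg⟩)) := by
        calc z * (QuotientGroup.mk ⟨g, hg⟩ : P ⧸ N) = z * (z * s (π (QuotientGroup.mk ⟨g, hg⟩))) :=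
              congrArg (z * ·) e3
          _ = _ := by rw [← mul_assoc, hzz, one_mul]
      rw [e4]
      exact ⟨_, rfl⟩

/-- `⟨z⟩` as a subgroup of `P` -/
def Zp (z : L) (P : Subgroup L) : Subgroup P := (zpowers z).subgroupOf P

theorem mem_Zp {z : L} (zz : z * z = 1) {P : Subgroup L} {g : P} : g ∈ Zp z P ↔ (g : L) = 1 ∨ (g : L) = z := by
  unfold Zp
  rw [mem_subgroupOf, mem_zpowers_iff]
  constructor
  · rintro ⟨k, hk⟩
    rcases Int.even_or_odd' k with ⟨j, rfl | rfl⟩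
    · left
      rw [← hk, zpow_mul, zpow_ofNat, pow_two, zz, one_zpow]
    · right
      rw [← hk, zpow_add, zpow_mul, zpow_ofNat, pow_two, zz, one_zpow, one_mul, zpow_one]
  · rintro (h | h)
    · exact ⟨0, by rw [h, zpow_zero]⟩
    · exact ⟨1, by rw [h, zpow_one]⟩

theorem normal_Zp {z : L} (zz : z * z = 1) {P : Subgroup L} (zP : ∀ g ∈ P, g * z = z * g) : (Zp z P).Normal := by
  refine ⟨fun n hn g => ?_⟩
  have h1 := (mem_Zp zz).1 hn
  rw [mem_Zp zz]
  rcases h1 with h | h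
  · left
    rw [coe_mul, coe_mul, h, mul_one, coe_inv, mul_inv_cancel]
  · right
    rw [coe_mul, coe_mul, h, zP g g.2, coe_inv, mul_inv_cancel_right]

/-- The data: `P` of odd index with a map onto `A_n`, kernel `A`, `A / ⟨z⟩` elementary abelian. -/
structure Lar (c z : L) (P A : Subgroup L) {m : ℕ} (ρ : P →* alternatingGroup (Fin (m + 2))) : Prop where
  cA : c ∈ A
  AP : A ≤ P
  ker : ∀ g : P, ρ g = 1 ↔ (g : L) ∈ A
  surj : Function.Surjective ρ
  zA : z ∈ A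
  zc : z ≠ c
  zz : z * z = 1
  zP : ∀ g ∈ P, g * z = z * g
  sqA : ∀ a ∈ A, a * a = 1 ∨ a * a = z
  fpf : ∀ d : P, (ρ d : Perm (Fin (m + 2))).IsThreeCycle → ∀ a ∈ A,
    (d * a * (d : L)⁻¹ = a ∨ d * a * (d : L)⁻¹ = a * z) → a = 1 ∨ a = c ∨ a = z ∨ a = c * z

namespace Lar

variable {z : L} {P A : Subgroup L} {m : ℕ} {ρ : P →* alternatingGroup (Fin (m + 2))}

theorem norm (H : Lar c z P A ρ) : ∀ g ∈ P, ∀ a ∈ A, g * a * g⁻¹ ∈ A := by
  intro g hg a ha
  have h1 : ρ (⟨g, hg⟩ * ⟨a, H.AP ha⟩ * ⟨g, hg⟩⁻¹) = 1 := by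
    rw [map_mul, map_mul, (H.ker ⟨a, H.AP ha⟩).2 ha, mul_one, map_inv, mul_inv_cancel]
  exact (H.ker _).1 h1

/-- **The invariant complement.** -/
theorem exists_compl [Finite L] (h : Ctr c) (hm : 6 ≤ m) (H : Lar c z P A ρ) :
    ∃ A₁ : Subgroup L, A₁ ≤ A ∧ (∀ g ∈ P, ∀ a ∈ A₁, g * a * g⁻¹ ∈ A₁) ∧ c ∉ A₁ ∧ (∀ a ∈ A, a ∈ A₁ ∨ c * a ∈ A₁) ∧
      z ∈ A₁ := by
  classical
  haveI := normal_Zp H.zz H.zP
  let N := Zp z P
  let q : P →* P ⧸ N := QuotientGroup.mk' N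
  have hq : ∀ g : P, q g = 1 ↔ (g : L) = 1 ∨ (g : L) = z := fun g => by
    rw [← mem_Zp H.zz]; exact QuotientGroup.eq_one_iff g
  have hqs : Function.Surjective q := QuotientGroup.mk'_surjective N
  have hcP : c ∈ P := H.AP H.cA
  let cP : P := ⟨c, hcP⟩
  let AQ : Subgroup (P ⧸ N) := (A.subgroupOf P).map q
  have hAQ : ∀ g : P, q g ∈ AQ ↔ (g : L) ∈ A := by
    intro g
    constructor
    · rintro ⟨a, ha, hag⟩
      have h1 : q (a⁻¹ * g) = 1 := by rw [map_mul, map_inv, hag, inv_mul_cancel]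
      have h2 : ((a⁻¹ * g : P) : L) ∈ A := by
        rcases (hq _).1 h1 with e | e
        · rw [e]; exact one_mem _
        · rw [e]; exact H.zA
      have h3 : (a : L) ∈ A := mem_subgroupOf.1 ha
      have h4 := mul_mem h3 h2
      rwa [coe_mul, coe_inv, mul_inv_cancel_left] at h4
    · intro hg
      exact ⟨g, mem_subgroupOf.2 hg, rfl⟩
  have hAAq : ∀ a ∈ AQ, a * a = 1 := by
    intro a ha
    obtain ⟨g, rfl⟩ := hqs a
    rw [← map_mul, hq]
    exact H.sqA _ ((hAQ g).1 ha)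
  have hcomm : ∀ x ∈ AQ, ∀ y ∈ AQ, x * y = y * x := by
    intro x hx y hy
    have h1 := hAAq _ (mul_mem hx hy)
    have h2 : (x * y)⁻¹ = x * y := inv_eq_of_mul_eq_one_left h1
    rw [← h2, mul_inv_rev, inv_eq_of_mul_eq_one_left (hAAq x hx), inv_eq_of_mul_eq_one_left (hAAq y hy)]
  -- elements with the same image act in the same way
  have hact : ∀ g k : P, ρ g = ρ k → ∀ a ∈ AQ, q g * a * (q g)⁻¹ = q k * a * (q k)⁻¹ := by
    intro g k hgk a ha
    have h2 : ((k⁻¹ * g : P) : L) ∈ A := (H.ker _).1 (by rw [map_mul, map_inv, hgk, inv_mul_cancel])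
    have h3 := hcomm _ ((hAQ _).2 h2) a ha
    have h4 : q g = q k * q (k⁻¹ * g) := by rw [map_mul, map_inv]; group
    calc q g * a * (q g)⁻¹ = q k * (q (k⁻¹ * g) * a) * (q (k⁻¹ * g))⁻¹ * (q k)⁻¹ := by
          rw [h4]; group
      _ = q k * (a * q (k⁻¹ * g)) * (q (k⁻¹ * g))⁻¹ * (q k)⁻¹ := by rw [h3]
      _ = q k * a * (q k)⁻¹ := by group
  let D : Set (P ⧸ N) := {d | ∃ g : P, q g = d ∧ (ρ g : Perm (Fin (m + 2))).IsThreeCycle}
  have hyp : Fpf.Hyp (q cP) AQ ⊤ D := by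
    refine ⟨?_, ?_, ?_, hAAq, ?_, fun _ _ => mem_top _, ?_, ?_, ?_⟩
    · intro e
      rcases (hq _).1 e with e1 | e1
      · exact h.ne e1
      · exact H.zc e1.symm
    · intro x
      obtain ⟨g, rfl⟩ := hqs x
      rw [← map_mul, ← map_mul]
      congr 1
      exact Subtype.ext (h.cen g)
    · exact (hAQ cP).2 H.cA
    · intro x _ a ha
      obtain ⟨g, rfl⟩ := hqs x
      obtain ⟨k, rfl⟩ := hqs a
      rw [← map_inv, ← map_mul, ← map_mul, hAQ]
      exact H.norm g g.2 k ((hAQ k).1 ha)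
    · rintro x _ d ⟨g, rfl, hg⟩
      obtain ⟨k, rfl⟩ := hqs x
      refine ⟨k * g * k⁻¹, by rw [map_mul, map_mul, map_inv], ?_⟩
      rw [map_mul, map_mul, map_inv]
      show (Perm.IsThreeCycle ((ρ k : Perm (Fin (m + 2))) * (ρ g : Perm (Fin (m + 2))) *
        (ρ k : Perm (Fin (m + 2)))⁻¹))
      rw [Perm.IsThreeCycle, Perm.cycleType_conj]
      exact hg
    · rintro d ⟨g, rfl, hg⟩ a ha
      have h1 : ρ (g * g * g) = ρ 1 := by
        rw [map_mul, map_mul, map_one]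
        have h2 : (ρ g : Perm (Fin (m + 2))) ^ 3 = 1 := by rw [← hg.orderOf]; exact pow_orderOf_eq_one _
        apply Subtype.ext
        rw [pow_succ, pow_two] at h2
        exact h2
      have h2 := hact _ _ h1 a ha
      rw [map_mul, map_mul, map_one] at h2
      calc q g * (q g * (q g * a * (q g)⁻¹) * (q g)⁻¹) * (q g)⁻¹
          = q g * q g * q g * a * (q g * q g * q g)⁻¹ := by group
        _ = 1 * a * 1⁻¹ := h2
        _ = a := by group
    · rintro d ⟨g, rfl, hg⟩ a ha hda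
      obtain ⟨k, rfl⟩ := hqs a
      have hk := (hAQ k).1 ha
      have h1 : q (k⁻¹ * (g * k * g⁻¹)) = 1 := by
        rw [map_mul, map_mul, map_mul, map_inv, map_inv, hda, inv_mul_cancel]
      have h2 : (g : L) * k * (g : L)⁻¹ = k ∨ (g : L) * k * (g : L)⁻¹ = k * z := by
        rcases (hq _).1 h1 with e | e
        · left
          rw [coe_mul, coe_inv, inv_mul_eq_one] at e
          exact e.symm
        · right
          rw [coe_mul, coe_inv, inv_mul_eq_iff_eq_mul] at e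
          exact e
      rcases H.fpf g hg k hk h2 with e | e | e | e
      · left; exact (hq k).2 (Or.inl e)
      · right; congr 1; exact Subtype.ext e
      · left; exact (hq k).2 (Or.inr e)
      · right
        have h3 : q (cP⁻¹ * k) = 1 := by
          rw [hq]
          right
          rw [coe_mul, coe_inv, e]
          show c⁻¹ * (c * z) = z
          rw [inv_mul_cancel_left]
        rw [map_mul, map_inv, inv_mul_eq_one] at h3
        exact h3.symm
  -- connectedness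
  have hn : 8 ≤ m + 2 := by omega
  have hF : ∀ σ : Perm (Fin (m + 2)), σ.IsThreeCycle → ∃ g : P, (ρ g : Perm (Fin (m + 2))) = σ := by
    intro σ hσ
    obtain ⟨g, hg⟩ := H.surj ⟨σ, hσ.mem_alternatingGroup⟩
    exact ⟨g, by rw [hg]⟩
  have hrel : ∀ x y : P, (ρ x : Perm (Fin (m + 2))).IsThreeCycle → (ρ y : Perm (Fin (m + 2))).IsThreeCycle →
      (ρ x : Perm (Fin (m + 2))).Disjoint (ρ y) → Fpf.Rel AQ D (q x) (q y) := by
    intro x y hx hy hxy
    refine ⟨⟨x, rfl, hx⟩, ⟨y, rfl, hy⟩, fun a ha => ?_⟩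
    have h1 : ρ (x * y) = ρ (y * x) := by
      rw [map_mul, map_mul]
      exact Subtype.ext hxy.commute
    have h2 := hact _ _ h1 a ha
    rw [map_mul, map_mul] at h2
    calc q x * (q y * a * (q y)⁻¹) * (q x)⁻¹ = q x * q y * a * (q x * q y)⁻¹ := by group
      _ = q y * q x * a * (q y * q x)⁻¹ := h2
      _ = _ := by group
  have h01 : (Fin.ofNat (m + 2) 0) ≠ Fin.ofNat (m + 2) 1 := ofNat_ne (by omega) (by omega) (by omega)
  have h02 : (Fin.ofNat (m + 2) 0) ≠ Fin.ofNat (m + 2) 2 := ofNat_ne (by omega) (by omega) (by omega)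
  have h12 : (Fin.ofNat (m + 2) 1) ≠ Fin.ofNat (m + 2) 2 := ofNat_ne (by omega) (by omega) (by omega)
  have hσ₀ := Perm.isThreeCycle_swap_mul_swap_same h01 h02 h12
  obtain ⟨d₀, hd₀⟩ := hF _ hσ₀
  have hd₀' : (ρ d₀ : Perm (Fin (m + 2))).IsThreeCycle := by rw [hd₀]; exact hσ₀
  obtain ⟨B, hB, invB, hcB, hB₁⟩ := hyp.exists_compl (d₀ := q d₀) ⟨d₀, rfl, hd₀'⟩ (by
    rintro _ ⟨d, rfl, hd'⟩
    by_cases hdis : (ρ d₀ : Perm (Fin (m + 2))).Disjoint (ρ d)
    · exact Relation.ReflTransGen.single (hrel _ _ hd₀' hd' hdis)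
    · obtain ⟨μ, hμ, h1, h2⟩ := exists_disjoint hn hd₀' hd' hdis
      obtain ⟨e, he⟩ := hF μ hμ
      rw [← he] at hμ h1 h2
      exact (Relation.ReflTransGen.single (hrel _ _ hd₀' hμ h1)).tail (hrel _ _ hμ hd' h2))
  have hmem : ∀ g : P, (g : L) ∈ (B.comap q).map P.subtype ↔ q g ∈ B := by
    intro g
    constructor
    · rintro ⟨k, hk, hkg⟩
      have : k = g := Subtype.ext hkg
      rw [← this]; exact hk
    · intro hg
      exact ⟨g, hg, rfl⟩
  refine ⟨(B.comap q).map P.subtype, ?_, ?_, ?_, ?_, ?_⟩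
  · rintro _ ⟨g, hg, rfl⟩
    exact (hAQ g).1 (hB hg)
  · rintro g hg _ ⟨k, hk, rfl⟩
    have h1 := invB (q ⟨g, hg⟩) (mem_top _) (q k) hk
    rw [← map_inv, ← map_mul, ← map_mul, ← hmem] at h1
    exact h1
  · intro hc
    exact hcB ((hmem cP).1 hc)
  · intro a ha
    rcases hB₁ (q ⟨a, H.AP ha⟩) ((hAQ _).2 ha) with e | e
    · left; exact (hmem ⟨a, H.AP ha⟩).2 e
    · right
      rw [← map_mul, ← hmem] at e
      exact e
  · have h1 : q ⟨z, H.AP H.zA⟩ = 1 := (hq _).2 (Or.inr rfl)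
    exact (hmem ⟨z, H.AP H.zA⟩).2 (by rw [h1]; exact one_mem _)

/-- **No perfect group with a central involution has such a subgroup.** -/
theorem false [Finite L] (h : Ctr c) (hm : 6 ≤ m) (H : Lar c z P A ρ) (odd : ¬ 2 ∣ P.index) {e u g : P}
    (hcom : (e : L) * u = u * e) (he : (e : L) * e = 1 ∨ (e : L) * e = z)
    {a b a' b' : Fin (m + 2)} (h1 : a ≠ b) (h2 : a ≠ a') (h3 : a ≠ b') (h4 : b ≠ a') (h5 : b ≠ b')
    (h6 : a' ≠ b') (hu : (ρ u : Perm (Fin (m + 2))) = swap a b * swap a' b')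
    (hconj : ρ (g * (e * u) * g⁻¹) = ρ e) : False := by
  obtain ⟨A₁, hA₁, inv₁, hc₁, h₁, hz₁⟩ := H.exists_compl h hm
  refine false_of_invariant h odd H.cA H.AP (by omega) ρ H.surj H.ker hA₁ inv₁ hc₁ h₁ (x := u) ?_ h1 h2 h3 h4 h5 h6 hu
  have he1 : (e : L) * e ∈ A₁ := by
    rcases he with e1 | e1
    · rw [e1]; exact one_mem _
    · rw [e1]; exact hz₁
  -- `g (e u) g⁻¹ = e k`, `k ∈ A`
  obtain ⟨k, hk, hkA⟩ : ∃ k : P, g * (e * u) * g⁻¹ = e * k ∧ (k : L) ∈ A := by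
    refine ⟨e⁻¹ * (g * (e * u) * g⁻¹), by rw [mul_inv_cancel_left], ?_⟩
    rw [← H.ker, map_mul, map_inv, hconj, inv_mul_cancel]
  have hk' : (g : L) * (e * u) * (g : L)⁻¹ = e * k := congrArg Subtype.val hk
  -- the square of `e k`
  have key : ∀ k' : L, k' ∈ A₁ → (e * k') * (e * k') ∈ A₁ := by
    intro k' hk'
    have e1 : (e : L) * k' * (e * k') = (e * k' * (e : L)⁻¹) * (e * e) * k' := by group
    rw [e1]
    exact mul_mem (mul_mem (inv₁ _ e.2 _ hk') he1) hk'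
  have hsq : ((e : L) * k) * (e * k) ∈ A₁ := by
    rcases h₁ k hkA with e1 | e1
    · exact key _ e1
    · have e2 := key _ e1
      have e3 : (e : L) * (c * k) * (e * (c * k)) = (c * c) * (e * k * (e * k)) := by
        have hc := h.cen
        calc (e : L) * (c * k) * (e * (c * k)) = (e * c) * k * e * (c * k) := by group
          _ = (c * e) * k * e * (c * k) := by rw [← hc (e : L)]
          _ = c * ((e * k * e) * c) * k := by group
          _ = c * (c * (e * k * e)) * k := by rw [hc (e * k * e)]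
          _ = _ := by group
      rw [e3, h.sq, one_mul] at e2
      exact e2
  have h7 : ((e : L) * u) * (e * u) ∈ A₁ := by
    have e1 := inv₁ _ (inv_mem g.2) _ hsq
    rw [← hk'] at e1
    have e2 : (g : L)⁻¹ * ((g : L) * (e * u) * (g : L)⁻¹ * ((g : L) * (e * u) * (g : L)⁻¹)) * ((g : L)⁻¹)⁻¹ =
      (e * u) * (e * u) := by group
    rwa [e2] at e1
  have h8 : ((e : L) * u) * (e * u) = (e * e) * (u * u) := by
    calc ((e : L) * u) * (e * u) = e * (u * e) * u := by group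
      _ = e * (e * u) * u := by rw [hcom]
      _ = _ := by group
  rw [h8] at h7
  exact (mul_mem_cancel_left he1).1 h7

end Lar

end Cfsg.Agent.KFacts.MulSpor.LargeAlt
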