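import Cfsg.Agent.KFacts.MulDef

/-!
# Calculus of lifts in a perfect double cover

`π : L → X` with kernel `{1, c}`. `Cm π x y`: the lifts of `x` and `y` commute. `Sq π x`: the lifts of `x` square to 1.
-/

set_option autoImplicit false

namespace Cfsg.Agent.KFacts.MulSpor.LiftCalc

open Cfsg.Agent.KFacts.MulTwo Cfsg.Agent.KFacts.MulDef

variable {L X : Type*} [Group L] [Group X]

/-- all lifts of `x` and `y` commute -/
def Cm (π : L →* X) (x y : X) : Prop := ∀ U V : L, π U = x → π V = y → U * V = V * U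

/-- all lifts of `x` square to 1 -/
def Sq (π : L →* X) (x : X) : Prop := ∀ U : L, π U = x → U * U = 1

variable {π : L →* X} {c : L}

theorem c_map (h : Dbl π c) : π c = 1 := (h.ker c).2 (Or.inr rfl)

theorem cases (h : Dbl π c) {U V : L} (e : π U = π V) : U = V ∨ U = c * V := by
  have h1 : π (U * V⁻¹) = 1 := by rw [map_mul, map_inv, e, mul_inv_cancel]
  rcases (h.ker _).1 h1 with h2 | h2
  · left; exact mul_inv_eq_one.1 h2
  · right; rw [← h2, inv_mul_cancel_right]

theorem cc_mul (h : Dbl π c) (U : L) : c * (c * U) = U := by rw [← mul_assoc, h.sq, one_mul]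

theorem left_comm (h : Dbl π c) (U V : L) : U * (c * V) = c * (U * V) := by
  rw [← mul_assoc, ← h.cen U, mul_assoc]

theorem Cm.of (h : Dbl π c) {U V : L} (hUV : U * V = V * U) : Cm π (π U) (π V) := by
  intro U' V' hU hV
  rcases cases h hU with rfl | rfl <;> rcases cases h hV with rfl | rfl
  · exact hUV
  · rw [left_comm h, hUV, mul_assoc]
  · rw [left_comm h, mul_assoc, hUV]
  · rw [left_comm h, left_comm h, mul_assoc, mul_assoc, hUV]

theorem Cm.symm {x y : X} (hxy : Cm π x y) : Cm π y x := fun U V hU hV => (hxy V U hV hU).symm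

theorem Cm.comm (h : Dbl π c) {x y : X} (hxy : Cm π x y) : x * y = y * x := by
  obtain ⟨U, rfl⟩ := h.surj x
  obtain ⟨V, rfl⟩ := h.surj y
  rw [← map_mul, ← map_mul, hxy U V rfl rfl]

theorem Cm.self (h : Dbl π c) (x : X) : Cm π x x := by
  obtain ⟨U, rfl⟩ := h.surj x
  exact Cm.of h rfl

theorem Cm.one (h : Dbl π c) (x : X) : Cm π x 1 := by
  obtain ⟨U, rfl⟩ := h.surj x
  rw [← map_one π]
  exact Cm.of h (by rw [mul_one, one_mul])

theorem Cm.mul (h : Dbl π c) {x y z : X} (hy : Cm π x y) (hz : Cm π x z) : Cm π x (y * z) := by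
  obtain ⟨U, rfl⟩ := h.surj x
  obtain ⟨V, rfl⟩ := h.surj y
  obtain ⟨W, rfl⟩ := h.surj z
  rw [← map_mul]
  apply Cm.of h
  rw [← mul_assoc, hy U V rfl rfl, mul_assoc, hz U W rfl rfl, mul_assoc]

theorem Cm.inv (h : Dbl π c) {x y : X} (hy : Cm π x y) : Cm π x y⁻¹ := by
  obtain ⟨U, rfl⟩ := h.surj x
  obtain ⟨V, rfl⟩ := h.surj y
  rw [← map_inv]
  apply Cm.of h
  have : Commute U V := hy U V rfl rfl
  exact this.inv_right

theorem Cm.prod (h : Dbl π c) {x : X} (l : List X) (hl : ∀ y ∈ l, Cm π x y) : Cm π x l.prod := by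
  induction l with
  | nil => exact Cm.one h x
  | cons y l ih =>
    rw [List.prod_cons]
    exact (hl y List.mem_cons_self).mul h (ih fun z hz => hl z (List.mem_cons_of_mem y hz))

theorem Cm.conj (h : Dbl π c) {x y : X} (hxy : Cm π x y) (w : X) : Cm π (w * x * w⁻¹) (w * y * w⁻¹) := by
  obtain ⟨U, rfl⟩ := h.surj x
  obtain ⟨V, rfl⟩ := h.surj y
  obtain ⟨W, rfl⟩ := h.surj w
  simp only [← map_mul, ← map_inv]
  apply Cm.of h
  have e := hxy U V rfl rfl
  calc W * U * W⁻¹ * (W * V * W⁻¹) = W * (U * V) * W⁻¹ := by group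
    _ = W * (V * U) * W⁻¹ := by rw [e]
    _ = _ := by group

/-- conjugation, with `w x = x' w`, `w y = y' w` -/
theorem Cm.conj' (h : Dbl π c) {x y x' y' : X} (hxy : Cm π x y) (w : X) (hx : w * x = x' * w)
    (hy : w * y = y' * w) : Cm π x' y' := by
  have h1 := hxy.conj h w
  rwa [hx, hy, mul_inv_cancel_right, mul_inv_cancel_right] at h1

theorem Sq.conj' (h : Dbl π c) {x x' : X} (hx : Sq π x) (w : X) (e : w * x = x' * w) : Sq π x' := by
  intro U hU
  obtain ⟨W, rfl⟩ := h.surj w
  have h1 : π (W⁻¹ * U * W) = x := by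
    rw [map_mul, map_mul, map_inv, hU, mul_assoc, ← e, inv_mul_cancel_left]
  have h2 := hx _ h1
  have h3 : W⁻¹ * U * W * (W⁻¹ * U * W) = W⁻¹ * (U * U) * W := by group
  rw [h3] at h2
  have h4 : U * U = W * (W⁻¹ * (U * U) * W) * W⁻¹ := by group
  rw [h4, h2]; group

theorem Sq.conj_symm (h : Dbl π c) {x x' : X} (hx : Sq π x') (w : X) (e : w * x = x' * w) : Sq π x :=
  hx.conj' h w⁻¹ (by rw [inv_mul_eq_iff_eq_mul, ← mul_assoc, e, mul_inv_cancel_right])

theorem Cm.of_sq {x y : X} (h : Dbl π c) (hx : Sq π x) (hy : Sq π y) (hxy : Sq π (x * y)) : Cm π x y := by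
  obtain ⟨U, rfl⟩ := h.surj x
  obtain ⟨V, rfl⟩ := h.surj y
  apply Cm.of h
  have h1 := hx U rfl
  have h2 := hy V rfl
  have h3 := hxy (U * V) (map_mul π U V)
  symm
  calc V * U = (U * U) * (V * U) * (V * V) := by rw [h1, h2, one_mul, mul_one]
    _ = U * (U * V * (U * V)) * V := by group
    _ = U * V := by rw [h3, mul_one]

theorem pow_c (h : Dbl π c) (U : L) (n : ℕ) : (c * U) ^ (2 * n + 1) = c * U ^ (2 * n + 1) := by
  have h1 : Commute c U := h.cen U
  rw [h1.mul_pow, pow_succ c, pow_mul, pow_two, h.sq, one_pow, one_mul]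

theorem central (h : Dbl π c) {U : L} (hU : π U = 1) (V : L) : U * V = V * U := by
  rcases (h.ker U).1 hU with rfl | rfl
  · rw [one_mul, mul_one]
  · exact h.cen V

/-- commuting elements, one of odd order -/
theorem Cm.of_odd (h : Dbl π c) {x w : X} (hxw : x * w = w * x) (n : ℕ) (hw : w ^ (2 * n + 1) = 1) : Cm π x w := by
  obtain ⟨U, rfl⟩ := h.surj x
  obtain ⟨W, rfl⟩ := h.surj w
  apply Cm.of h
  have h1 : π (U * W * U⁻¹) = π W := by
    rw [map_mul, map_mul, map_inv, hxw, mul_inv_cancel_right]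
  rcases cases h h1 with h2 | h2
  · rw [← h2, inv_mul_cancel_right]
    rw [h2]
  · exfalso
    have h3 : (U * W * U⁻¹) ^ (2 * n + 1) = W ^ (2 * n + 1) := by
      rw [conj_pow]
      have h4 := central h (U := W ^ (2 * n + 1)) (by rw [map_pow, hw]) U
      rw [← h4, mul_inv_cancel_right]
    rw [h2, pow_c h] at h3
    exact h.ne (mul_eq_right.1 h3)

/-- two lifts which are both square roots of `c`, their product too, anticommute -/
theorem anti (h : Dbl π c) {U V : L} (h1 : U * U = c) (h2 : V * V = c) (h3 : U * V * (U * V) = c) :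
    U * V = c * (V * U) := by
  have h4 : U * (U * V * (U * V)) * V = U * c * V := by rw [h3]
  have h5 : U * (U * V * (U * V)) * V = (U * U) * (V * U) * (V * V) := by group
  rw [h5, h1, h2, ← h.cen (U), mul_assoc c U V, mul_assoc, mul_assoc] at h4
  have h6 := mul_left_cancel h4
  rw [← h6, ← h.cen U, left_comm h]

/-- Seven involutions of an elementary abelian group of order 8, all conjugate to one of them. -/
theorem Sq.of_eight (h : Dbl π c) {x y z : X} (hx : x * x = 1)
    (h7 : ∀ v ∈ [x, y, z, x * y, x * z, y * z, x * (y * z)], ∃ w, w * v = x * w) : Sq π x := by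
  by_contra hn
  have key : ∀ v ∈ [x, y, z, x * y, x * z, y * z, x * (y * z)], ∀ V, π V = v → V * V = c := by
    intro v hv V hV
    obtain ⟨w, hw⟩ := h7 v hv
    have h1 : v * v = 1 := by
      have h2 : v = w⁻¹ * x * w := by rw [mul_assoc, ← hw, inv_mul_cancel_left]
      have h3 : v * v = w⁻¹ * (x * x) * w := by rw [h2]; group
      rw [h3, hx]; group
    have h2 : π (V * V) = 1 := by rw [map_mul, hV, h1]
    rcases (h.ker _).1 h2 with h3 | h3
    · exfalso
      apply hn
      refine Sq.conj' h (x := v) ?_ w hw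
      intro U hU
      rcases cases h (hU.trans hV.symm) with rfl | rfl
      · exact h3
      · rw [left_comm h, mul_assoc, h3, mul_one, h.sq]
    · exact h3
  obtain ⟨A, hA⟩ := h.surj x
  obtain ⟨B, hB⟩ := h.surj y
  obtain ⟨C, hC⟩ := h.surj z
  have a1 := key x (by simp) A hA
  have b1 := key y (by simp) B hB
  have c1 := key z (by simp) C hC
  have ab := key (x * y) (by simp) (A * B) (by rw [map_mul, hA, hB])
  have ac := key (x * z) (by simp) (A * C) (by rw [map_mul, hA, hC])
  have bc := key (y * z) (by simp) (B * C) (by rw [map_mul, hB, hC])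
  have abc := key (x * (y * z)) (by simp) (A * (B * C)) (by rw [map_mul, map_mul, hA, hB, hC])
  have e1 := anti h a1 b1 ab
  have e2 := anti h a1 c1 ac
  have e3 := anti h a1 bc abc
  have e4 : A * (B * C) = B * C * A := by
    rw [← mul_assoc, e1, mul_assoc, mul_assoc, e2, left_comm h, cc_mul h, mul_assoc]
  rw [e4] at e3
  exact h.ne (mul_eq_right.1 e3.symm)

/-- a lift of `y` satisfying the braid relation with the given lift of `x` -/
theorem braid (h : Dbl π c) {A B₀ : L} (hA : A * A = 1) (hxy : π A * π B₀ * π A = π B₀ * π A * π B₀) :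
    π (A * B₀ * A * (A * B₀)⁻¹) = π B₀ ∧ A * B₀ * A * (A * B₀)⁻¹ * (A * B₀ * A * (A * B₀)⁻¹) = 1 ∧
      (A * (A * B₀ * A * (A * B₀)⁻¹)) ^ 3 = 1 := by
  set B := A * B₀ * A * (A * B₀)⁻¹ with hB
  have h1 : π B = π B₀ := by
    rw [hB, map_mul, map_inv, map_mul, map_mul, hxy, mul_assoc, mul_inv_rev]
    group
  have h2 : B * B = 1 := by
    have : B * B = A * B₀ * (A * A) * (A * B₀)⁻¹ := by rw [hB]; group
    rw [this, hA, mul_one, mul_inv_cancel]
  have h3 : B = A * B * A * (A * B)⁻¹ := by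
    rcases cases h h1 with h4 | h4
    · rw [h4] at hB ⊢
      exact hB
    · have h5 : A * B₀ = c * (A * B) := by rw [h4, left_comm h, cc_mul h]
      have h6 : c * (A * B) * A * (c * (A * B))⁻¹ = c * ((A * B) * A * (A * B)⁻¹) * c⁻¹ := by group
      calc B = A * B₀ * A * (A * B₀)⁻¹ := hB
        _ = c * (A * B) * A * (c * (A * B))⁻¹ := by rw [h5]
        _ = _ := by rw [h6, h.cen, mul_inv_cancel_right]
  refine ⟨h1, h2, ?_⟩
  have h4 : B * (A * B) = A * B * A := eq_mul_inv_iff_mul_eq.1 h3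
  have h5 : (A * B) ^ 3 = A * (B * (A * B)) * (A * B) := by
    rw [pow_succ, pow_two]; group
  rw [h5, h4]
  have h6 : A * (A * B * A) * (A * B) = (A * A) * B * (A * A) * B := by group
  rw [h6, hA, one_mul, mul_one, h2]

/-- Let `S` be a product of two conjugate elements `T = W S' W⁻¹`, `S'` with commuting lifts. The square of a lift of `S`
is the product of two conjugate lifts of the squares of `T`, `S'`. -/
theorem sq_mul_conj (h : Dbl π c) {A F W S' S : L} (hA : A = W * F * W⁻¹) (hc : S * S' = S' * S)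
    (hS : π (W * S' * W⁻¹ * S') = π S) (hF : π (S' * S') = π F) : S * S = A * F := by
  obtain ⟨T, hT⟩ : ∃ T, T = W * S' * W⁻¹ := ⟨_, rfl⟩
  rw [← hT] at hS
  have hTc : T * S' = S' * T := by
    rcases cases h hS with e | e
    · have : T = S * S'⁻¹ := by rw [← e, mul_inv_cancel_right]
      rw [this, inv_mul_cancel_right, ← mul_assoc, ← hc, mul_inv_cancel_right]
    · have : T = c * S * S'⁻¹ := by rw [← e, mul_inv_cancel_right]
      rw [this, inv_mul_cancel_right, ← mul_assoc, left_comm h, ← hc, ← mul_assoc, mul_inv_cancel_right]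
  have h5 : S * S = T * T * (S' * S') := by
    have h6 : T * S' * (T * S') = T * T * (S' * S') := by
      calc T * S' * (T * S') = T * (S' * T) * S' := by group
        _ = T * (T * S') * S' := by rw [hTc]
        _ = _ := by group
    rw [← h6]
    rcases cases h hS with e | e
    · rw [e]
    · rw [e, left_comm h, mul_assoc, cc_mul h]
  have hTT : T * T = W * (S' * S') * W⁻¹ := by rw [hT]; group
  rw [h5, hTT, hA]
  rcases cases h hF with e | e
  · rw [e]
  · rw [e, left_comm h, left_comm h, mul_assoc c, mul_assoc c, cc_mul h]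

/-- A section gives a contradiction. -/
theorem false_of_section [Finite L] (h : Dbl π c) (φ : X →* L) (hφ : ∀ x, π (φ x) = x) : False := by
  refine h.toCtr.false_of_compl (P := ⊤) (P₁ := φ.range) (Subgroup.mem_top c) (by simp) ?_ ?_
  · rintro ⟨x, hx⟩
    have h1 := hφ x
    rw [hx, c_map h] at h1
    rw [← h1, map_one] at hx
    exact h.ne hx.symm
  · intro x _
    rcases cases h (U := φ (π x)) (V := x) (hφ (π x)) with h1 | h1
    · left; exact ⟨π x, h1⟩
    · right; exact ⟨π x, h1⟩

end Cfsg.Agent.KFacts.MulSpor.LiftCalc
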