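import Cfsg.Agent.KFacts.MulSpor.AffAlt
import Cfsg.Agent.J4Type.OctadFixTrans
import Cfsg.Agent.J4Type.FusionComm
import Cfsg.Agent.SporadicStructure.OctadStabFinal
import Cfsg.Agent.SporadicA.GolayWeight
import Cfsg.Agent.S0360
import Cfsg.Agent.S0363
import Cfsg.Agent.S0364

/-!
# The Schur multiplier of `M24` has odd order: facts on octad stabilisers
-/

set_option autoImplicit false

namespace Cfsg.Agent.KFacts.MulSpor.M24

open Subgroup Equiv
open Cfsg Cfsg.Agent.SporadicA
open Cfsg.Agent.SporadicStructure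
open Cfsg.Agent.KFacts.MulTwo
open scoped Pointwise

theorem even_inter {O O' : Finset GolayPt} (hO : O ∈ octads) (hO' : O' ∈ octads) : Even (O ∩ O').card := by
  obtain ⟨⟨v, hv, rfl⟩, -⟩ := hO
  obtain ⟨⟨w, hw, rfl⟩, -⟩ := hO'
  exact GolayWeight.even_card_inter hv hw

theorem smul_mem {g : Perm GolayPt} (hg : g ∈ M24) {O : Finset GolayPt} (hO : O ∈ octads) : g • O ∈ octads :=
  (GolayPerm.smul_mem_octads hg).2 hO

/-- An octad with five points in another one, elementwise. -/
theorem eq_of_subset {O O' s : Finset GolayPt} (hO : O ∈ octads) (hO' : O' ∈ octads) (hs : s.card = 5) (h : s ⊆ O)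
    (h' : s ⊆ O') : O = O' :=
  GolayBase.octad_unique hO hO' (by rw [← hs]; exact Finset.card_le_card (Finset.subset_inter h h'))

/-- The octad through three points of `O` and two points outside. -/
theorem exists_octad {O : Finset GolayPt} (hO : O ∈ octads) {T : Finset GolayPt} (hT : T ⊆ O) (h3 : T.card = 3)
    {p q : GolayPt} (hp : p ∉ O) (hq : q ∉ O) (hpq : p ≠ q) :
    ∃ O' ∈ octads, T ⊆ O' ∧ p ∈ O' ∧ q ∈ O' ∧ (O ∩ O').card = 4 := by
  have hpT : p ∉ insert q T := by
    rw [Finset.mem_insert, not_or]; exact ⟨hpq, fun h => hp (hT h)⟩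
  have hqT : q ∉ T := fun h => hq (hT h)
  have h5 : (insert p (insert q T)).card = 5 := by
    rw [Finset.card_insert_of_notMem hpT, Finset.card_insert_of_notMem hqT, h3]
  obtain ⟨O', ⟨hO', hs⟩, -⟩ := Cfsg.Agent.S0363.result.2 _ h5
  have hpO' : p ∈ O' := hs (Finset.mem_insert_self _ _)
  have hqO' : q ∈ O' := hs (Finset.mem_insert_of_mem (Finset.mem_insert_self _ _))
  have hTO' : T ⊆ O' := fun x hx => hs (Finset.mem_insert_of_mem (Finset.mem_insert_of_mem hx))
  refine ⟨O', hO', hTO', hpO', hqO', ?_⟩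
  have e1 : 3 ≤ (O ∩ O').card := by
    rw [← h3]; exact Finset.card_le_card (Finset.subset_inter hT hTO')
  have e2 : (O ∩ O').card < 5 := by
    by_contra hlt
    have := GolayBase.octad_unique hO hO' (by omega)
    rw [this] at hp
    exact hp hpO'
  obtain ⟨k, hk⟩ := even_inter hO hO'
  omega

/-- An element fixing five points of an octad stabilises it. -/
theorem smul_eq_of_five {O s : Finset GolayPt} (hO : O ∈ octads) {g : Perm GolayPt} (hg : g ∈ M24) (hs : s.card = 5)
    (h : s ⊆ O) (hgs : ∀ x ∈ s, g x ∈ O) : g • O = O := by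
  refine (eq_of_subset (smul_mem hg hO) hO (s := g • s) ?_ ?_ ?_)
  · rw [Finset.card_smul_finset, hs]
  · exact Finset.smul_finset_subset_smul_finset h
  · intro y hy
    obtain ⟨x, hx, rfl⟩ := Finset.mem_smul_finset.1 hy
    exact hgs x hx

theorem fix_of_card_le_one {α : Type*} {S : Finset α} (hS : S.card ≤ 1) {e : Perm α}
    (he : ∀ x ∈ S, e x ∈ S) : ∀ x ∈ S, e x = x := fun x hx => Finset.card_le_one.1 hS _ (he x hx) _ hx

theorem sq_of_card_le_two {α : Type*} {S : Finset α} (hS : S.card ≤ 2) {e : Perm α}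
    (he : ∀ x ∈ S, e x ∈ S) : ∀ x ∈ S, e (e x) = x := by
  classical
  intro x hx
  by_contra hne
  have h1 : e x ≠ x := fun h => hne (by rw [h, h])
  have h2 : e (e x) ≠ e x := fun h => h1 (e.injective h)
  have : 2 < S.card := Finset.two_lt_card_iff.2 ⟨x, e x, e (e x), hx, he _ hx, he _ (he _ hx), h1.symm, Ne.symm hne,
    h2.symm⟩
  omega

/-- **Fixed points.** An element `g` of the stabiliser of the octad `O` with five fixed points on `O` and with an element
of order three induced on `O` commutes with no non-trivial element of the pointwise stabiliser. -/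
theorem eq_one_of_comm {O : Finset GolayPt} (hO : O ∈ octads) {g k : Perm GolayPt} (hg : g ∈ M24)
    (hgO : ∀ x, g x ∈ O ↔ x ∈ O) (h5 : 3 ≤ (O.filter fun x => g x = x).card) (h3 : ∃ x ∈ O, g (g (g (g x))) ≠ x)
    (hk : k ∈ OctadFix.fixOct O) (hgk : g * k = k * g) : k = 1 := by
  classical
  by_contra hk1
  obtain ⟨p, hp⟩ := J4Type.OctadFixTrans.exists_not_mem hO
  have hgO' : g • O = O := by
    have := (OctadStabAbs.mem_stabilizer_finset_iff g O).2 hgO
    exact MulAction.mem_stabilizer_iff.1 this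
  obtain ⟨t, ht, htp⟩ := J4Type.FusionComm.exists_translate hO hgO' hp
  set e : Perm GolayPt := t * g with he
  have heM : e ∈ M24 := M24.mul_mem (OctadFix.mem_fixOct.1 ht).1 hg
  have heO : ∀ x ∈ O, e x = g x := fun x hx => (OctadFix.mem_fixOct.1 ht).2 _ ((hgO x).2 hx)
  have hek : e * k = k * e := by
    rw [he, mul_assoc, hgk, ← mul_assoc, J4Type.FusionComm.fixOct_comm hO ht hk, mul_assoc]
  have hkp : k p ∉ O := fun h => by
    have h1 := (OctadFix.mem_fixOct.1 hk).2 _ h
    exact hp ((k.injective h1) ▸ h)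
  have hpk : p ≠ k p := fun h => hk1 (J4Type.OctadFixTrans.eq_one_of_fix hO hk hp h.symm)
  have hekp : e (k p) = k p := by
    rw [← Perm.mul_apply, hek, Perm.mul_apply, htp]
  obtain ⟨T, hT, hT3⟩ := Finset.exists_subset_card_eq h5
  have hTO : T ⊆ O := fun x hx => (Finset.mem_filter.1 (hT hx)).1
  have hTe : ∀ x ∈ T, e x = x := fun x hx => by rw [heO x (hTO hx)]; exact (Finset.mem_filter.1 (hT hx)).2
  obtain ⟨O', hO', hTO', hpO', hkpO', h4⟩ := exists_octad hO hTO hT3 hp hkp hpk
  have hpT : p ∉ T := fun h => hp (hTO h)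
  have hkT : k p ∉ T := fun h => hkp (hTO h)
  have heO' : e • O' = O' := by
    refine smul_eq_of_five hO' heM (s := insert p (insert (k p) T)) ?_ ?_ ?_
    · rw [Finset.card_insert_of_notMem (by rw [Finset.mem_insert, not_or]; exact ⟨hpk, hpT⟩),
        Finset.card_insert_of_notMem hkT, hT3]
    · intro x hx
      rw [Finset.mem_insert, Finset.mem_insert] at hx
      rcases hx with rfl | rfl | hx
      · exact hpO'
      · exact hkpO'
      · exact hTO' hx
    · intro x hx
      rw [Finset.mem_insert, Finset.mem_insert] at hx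
      rcases hx with rfl | rfl | hx
      · rw [htp]; exact hpO'
      · rw [hekp]; exact hkpO'
      · rw [hTe x hx]; exact hTO' hx
  have hO'iff := (OctadStabAbs.mem_stabilizer_finset_iff e O').1 (MulAction.mem_stabilizer_iff.2 heO')
  -- the four points of `O ∩ O'` are fixed
  have hI : ∀ x ∈ O ∩ O', e x = x := by
    intro x hx
    by_cases hxT : x ∈ T
    · exact hTe x hxT
    · refine fix_of_card_le_one (S := (O ∩ O') \ T) ?_ ?_ x (Finset.mem_sdiff.2 ⟨hx, hxT⟩)
      · rw [Finset.card_sdiff_of_subset (Finset.subset_inter hTO hTO'), h4, hT3]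
      · intro y hy
        rw [Finset.mem_sdiff, Finset.mem_inter] at hy ⊢
        refine ⟨⟨by rw [heO y hy.1.1]; exact (hgO y).2 hy.1.1, (hO'iff y).2 hy.1.2⟩, fun h => hy.2 ?_⟩
        have h1 := hTe _ h
        rwa [e.injective h1] at h
  -- `e²` is trivial on `O'`
  have hR : ∀ x ∈ insert p (insert (k p) (O ∩ O')), e x = x := by
    intro x hx
    rw [Finset.mem_insert, Finset.mem_insert] at hx
    rcases hx with rfl | rfl | hx
    · exact htp
    · exact hekp
    · exact hI x hx
  have hsq : ∀ x ∈ O', e (e x) = x := by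
    intro x hx
    by_cases hxR : x ∈ insert p (insert (k p) (O ∩ O'))
    · rw [hR x hxR, hR x hxR]
    · have hRO : insert p (insert (k p) (O ∩ O')) ⊆ O' := by
        intro y hy
        rw [Finset.mem_insert, Finset.mem_insert, Finset.mem_inter] at hy
        rcases hy with rfl | rfl | hy
        · exact hpO'
        · exact hkpO'
        · exact hy.2
      refine sq_of_card_le_two (S := O' \ insert p (insert (k p) (O ∩ O'))) ?_ ?_ x (Finset.mem_sdiff.2 ⟨hx, hxR⟩)
      · rw [Finset.card_sdiff_of_subset hRO, GolayBase.octad_card hO',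
          Finset.card_insert_of_notMem, Finset.card_insert_of_notMem, h4]
        · intro h; exact hkp (Finset.mem_inter.1 h).1
        · rw [Finset.mem_insert, not_or]; exact ⟨hpk, fun h => hp (Finset.mem_inter.1 h).1⟩
      · intro y hy
        rw [Finset.mem_sdiff] at hy ⊢
        refine ⟨(hO'iff y).2 hy.1, fun h => hy.2 ?_⟩
        have h1 := hR _ h
        rwa [e.injective h1] at h
  have h6 : e * e ∈ OctadFix.fixOct O' := OctadFix.mem_fixOct.2 ⟨M24.mul_mem heM heM, hsq⟩
  have h7 := OctadFix.fixOct_sq hO' h6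
  obtain ⟨x, hx, hx3⟩ := h3
  apply hx3
  have h8 := congrArg (fun f : Perm GolayPt => f x) h7
  have h9 : e (e (e (e x))) = x := h8
  rwa [heO x hx, heO _ ((hgO x).2 hx), heO _ ((hgO _).2 ((hgO x).2 hx)),
    heO _ ((hgO _).2 ((hgO _).2 ((hgO x).2 hx)))] at h9

/-- An involution inducing a double transposition on `O`, conjugate to an element of the pointwise stabiliser. -/
theorem exists_dt {O : Finset GolayPt} (hO : O ∈ octads) :
    ∃ x ∈ M24, (∀ y, x y ∈ O ↔ y ∈ O) ∧ (∃ g ∈ M24, g * x * g⁻¹ ∈ OctadFix.fixOct O) ∧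
      ∃ a ∈ O, ∃ b ∈ O, ∃ a' ∈ O, ∃ b' ∈ O, a ≠ b ∧ a ≠ a' ∧ a ≠ b' ∧ b ≠ a' ∧ b ≠ b' ∧ a' ≠ b' ∧
        ∀ y ∈ O, x y = (swap a b * swap a' b') y := by
  classical
  obtain ⟨T, hTO, hT3⟩ := Finset.exists_subset_card_eq (show 3 ≤ O.card by rw [GolayBase.octad_card hO]; norm_num)
  have hcard : Fintype.card GolayPt = 24 := by decide +kernel
  obtain ⟨p, hp, q, hq, hpq⟩ := Finset.one_lt_card.1 (show 1 < Oᶜ.card by
    rw [Finset.card_compl, hcard, GolayBase.octad_card hO]; norm_num)
  rw [Finset.mem_compl] at hp hq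
  obtain ⟨O', hO', -, -, -, h4⟩ := exists_octad hO hTO hT3 hp hq hpq
  have hD : (O \ O').card = 4 := by
    have := Finset.card_sdiff_add_card_inter O O'
    rw [h4, GolayBase.octad_card hO] at this
    omega
  obtain ⟨a, b, a', b', hab, haa, hab', hba, hbb, hab2, hDe⟩ : ∃ a b a' b' : GolayPt, a ≠ b ∧ a ≠ a' ∧ a ≠ b' ∧
      b ≠ a' ∧ b ≠ b' ∧ a' ≠ b' ∧ O \ O' = {a, b, a', b'} := by
    obtain ⟨a, s, ha, hs, h3⟩ := Finset.card_eq_succ.1 hD
    obtain ⟨b, a', b', h1, h2, h3', h4'⟩ := Finset.card_eq_three.1 h3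
    subst h4'
    simp only [Finset.mem_insert, Finset.mem_singleton, not_or] at ha
    exact ⟨a, b, a', b', ha.1, ha.2.1, ha.2.2, h1, h2, h3', hs.symm⟩
  have hmem : ∀ y, y ∈ O \ O' ↔ y = a ∨ y = b ∨ y = a' ∨ y = b' := by
    intro y; rw [hDe]; simp only [Finset.mem_insert, Finset.mem_singleton]
  have ha := Finset.mem_sdiff.1 ((hmem a).2 (Or.inl rfl))
  have hb := Finset.mem_sdiff.1 ((hmem b).2 (Or.inr (Or.inl rfl)))
  have ha' := Finset.mem_sdiff.1 ((hmem a').2 (Or.inr (Or.inr (Or.inl rfl))))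
  have hb' := Finset.mem_sdiff.1 ((hmem b').2 (Or.inr (Or.inr (Or.inr rfl))))
  obtain ⟨x, ⟨hx, hxa⟩, -⟩ := OctadFix.existsUnique_fixOct hO' ha.2 hb.2
  have hxM := (OctadFix.mem_fixOct.1 hx).1
  have hxf := (OctadFix.mem_fixOct.1 hx).2
  have hxx := OctadFix.fixOct_sq hO' hx
  have hxx' : ∀ y, x (x y) = y := fun y => congrArg (fun f : Perm GolayPt => f y) hxx
  have hxO : x • O = O := by
    refine smul_eq_of_five hO hxM (s := insert a (O ∩ O')) ?_ ?_ ?_
    · rw [Finset.card_insert_of_notMem (fun h => ha.2 (Finset.mem_inter.1 h).2), h4]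
    · intro y hy
      rcases Finset.mem_insert.1 hy with rfl | hy
      · exact ha.1
      · exact (Finset.mem_inter.1 hy).1
    · intro y hy
      rcases Finset.mem_insert.1 hy with rfl | hy
      · rw [hxa]; exact hb.1
      · rw [hxf y (Finset.mem_inter.1 hy).2]; exact (Finset.mem_inter.1 hy).1
  have hxi := (OctadStabAbs.mem_stabilizer_finset_iff x O).1 (MulAction.mem_stabilizer_iff.2 hxO)
  have hxb : x b = a := by rw [← hxa]; exact hxx' a
  have hxD : ∀ y ∈ O \ O', x y ∈ O \ O' := by
    intro y hy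
    rw [Finset.mem_sdiff] at hy ⊢
    refine ⟨(hxi y).2 hy.1, fun h => hy.2 ?_⟩
    have h1 := hxf _ h
    rw [hxx'] at h1
    rwa [h1]
  have hxne : ∀ y ∈ O \ O', x y ≠ y := by
    intro y hy h
    have h1 := J4Type.OctadFixTrans.eq_one_of_fix hO' hx (Finset.mem_sdiff.1 hy).2 h
    rw [h1] at hxa
    exact hab hxa
  have hxa' : x a' = b' := by
    rcases (hmem _).1 (hxD a' (Finset.mem_sdiff.2 ha')) with h | h | h | h
    · exact absurd (x.injective (h.trans hxb.symm)) (Ne.symm hba)
    · exact absurd (x.injective (h.trans hxa.symm)) (Ne.symm haa)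
    · exact absurd h (hxne a' (Finset.mem_sdiff.2 ha'))
    · exact h
  have hxb' : x b' = a' := by rw [← hxa']; exact hxx' a'
  refine ⟨x, hxM, hxi, ?_, a, ha.1, b, hb.1, a', ha'.1, b', hb'.1, hab, haa, hab', hba, hbb, hab2, ?_⟩
  · obtain ⟨g, hg, hgO⟩ := OctadStab.exists_smul_eq_oct0 hO
    obtain ⟨g', hg', hgO'⟩ := OctadStab.exists_smul_eq_oct0 hO'
    refine ⟨g⁻¹ * g', M24.mul_mem (M24.inv_mem hg) hg', ?_⟩
    have h1 : (g⁻¹ * g') • O' = O := by
      rw [mul_smul, hgO', ← hgO, inv_smul_smul]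
    rw [← h1]
    exact (OctadFix.conj_mem_fixOct (M24.mul_mem (M24.inv_mem hg) hg')).2 hx
  · intro y hy
    by_cases hyO' : y ∈ O'
    · have n1 : y ≠ a := fun h => ha.2 (h ▸ hyO')
      have n2 : y ≠ b := fun h => hb.2 (h ▸ hyO')
      have n3 : y ≠ a' := fun h => ha'.2 (h ▸ hyO')
      have n4 : y ≠ b' := fun h => hb'.2 (h ▸ hyO')
      rw [hxf y hyO', Perm.mul_apply, swap_apply_of_ne_of_ne n3 n4, swap_apply_of_ne_of_ne n1 n2]
    · rcases (hmem y).1 (Finset.mem_sdiff.2 ⟨hy, hyO'⟩) with rfl | rfl | rfl | rfl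
      · rw [hxa, Perm.mul_apply, swap_apply_of_ne_of_ne haa hab', swap_apply_left]
      · rw [hxb, Perm.mul_apply, swap_apply_of_ne_of_ne hba hbb, swap_apply_right]
      · rw [hxa', Perm.mul_apply, swap_apply_left, swap_apply_of_ne_of_ne hab'.symm hbb.symm]
      · rw [hxb', Perm.mul_apply, swap_apply_right, swap_apply_of_ne_of_ne haa.symm hba.symm]

/-! ### The subgroup of odd index -/

theorem index_stab {O : Finset GolayPt} (hO : O ∈ octads) : (MulAction.stabilizer (↥M24) O).index = 759 := by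
  rw [MulAction.index_stabilizer, ← Cfsg.Agent.S0360.result]
  congr 1
  ext o
  constructor
  · rintro ⟨g, rfl⟩
    exact smul_mem g.2 hO
  · intro ho
    obtain ⟨g, hg, hgO⟩ := OctadStab.exists_smul_eq_oct0 hO
    obtain ⟨k, hk, hko⟩ := OctadStab.exists_smul_eq_oct0 ho
    refine ⟨⟨k⁻¹ * g, M24.mul_mem (M24.inv_mem hk) hg⟩, ?_⟩
    show (k⁻¹ * g) • O = o
    rw [mul_smul, hgO, ← hko, inv_smul_smul]

variable {L : Type*} [Group L] {c : L}

/-- the preimage of the octad stabiliser -/
def P (π : L →* M24) (O : Finset GolayPt) : Subgroup L := (MulAction.stabilizer (↥M24) O).comap π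

/-- the preimage of the pointwise stabiliser of the octad -/
def A (π : L →* M24) (O : Finset GolayPt) : Subgroup L := ((OctadFix.fixOct O).subgroupOf M24).comap π

theorem mem_P {π : L →* M24} {O : Finset GolayPt} {x : L} :
    x ∈ P π O ↔ ∀ y, (π x : Perm GolayPt) y ∈ O ↔ y ∈ O := by
  rw [← OctadStabAbs.mem_stabilizer_finset_iff, MulAction.mem_stabilizer_iff]
  exact Iff.rfl

theorem mem_A {π : L →* M24} {O : Finset GolayPt} {x : L} :
    x ∈ A π O ↔ ∀ y ∈ O, (π x : Perm GolayPt) y = y := by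
  show ((π x : Perm GolayPt)) ∈ OctadFix.fixOct O ↔ _
  rw [OctadFix.mem_fixOct]
  exact ⟨fun h => h.2, fun h => ⟨(π x).2, h⟩⟩

theorem mem_A' {π : L →* M24} {O : Finset GolayPt} {x : L} :
    x ∈ A π O ↔ (π x : Perm GolayPt) ∈ OctadFix.fixOct O := Iff.rfl

/-- the action on the octad -/
noncomputable def res (π : L →* M24) {O : Finset GolayPt} (hO : O ∈ octads) : P π O →* alternatingGroup ↥O where
  toFun x := ⟨(π x : Perm GolayPt).subtypePerm (fun y => mem_P.1 x.2 y), by
    obtain ⟨p, hp⟩ := J4Type.OctadFixTrans.exists_not_mem hO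
    have := OctadStabAbs.induced_eq_alternating (OctadStabFinal.hyp hO hp)
    rw [← SetLike.mem_coe, ← this]
    exact ⟨_, (π x).2, fun y => mem_P.1 x.2 y, rfl⟩⟩
  map_one' := by
    refine Subtype.ext (Equiv.ext fun y => Subtype.ext ?_)
    show ((π (1 : L) : Perm GolayPt) y : GolayPt) = y
    rw [map_one]; rfl
  map_mul' := by
    intro a b
    refine Subtype.ext (Equiv.ext fun y => Subtype.ext ?_)
    show ((π ((a : L) * b) : Perm GolayPt) y : GolayPt) = (π a : Perm GolayPt) ((π b : Perm GolayPt) y)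
    rw [map_mul]; rfl

theorem res_apply (π : L →* M24) {O : Finset GolayPt} (hO : O ∈ octads) (x : P π O) (y : ↥O) :
    (((res π hO x : Perm ↥O) y : ↥O) : GolayPt) = (π x : Perm GolayPt) y := rfl

theorem res_surj {π : L →* M24} (hπ : Function.Surjective π) {O : Finset GolayPt} (hO : O ∈ octads) :
    Function.Surjective (res π hO) := by
  rintro ⟨e, he⟩
  obtain ⟨p, hp⟩ := J4Type.OctadFixTrans.exists_not_mem hO
  have h1 := OctadStabAbs.induced_eq_alternating (OctadStabFinal.hyp hO hp)
  rw [← SetLike.mem_coe, ← h1] at he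
  obtain ⟨g, hg, h, rfl⟩ := he
  obtain ⟨x, hx⟩ := hπ ⟨g, hg⟩
  have hxP : x ∈ P π O := mem_P.2 (by rw [hx]; exact h)
  refine ⟨⟨x, hxP⟩, Subtype.ext (Equiv.ext fun y => Subtype.ext ?_)⟩
  rw [res_apply]
  show ((π x : Perm GolayPt) y : GolayPt) = g y
  rw [hx]

theorem res_eq_one {π : L →* M24} {O : Finset GolayPt} (hO : O ∈ octads) (x : P π O) :
    res π hO x = 1 ↔ (x : L) ∈ A π O := by
  rw [mem_A]
  constructor
  · intro h y hy
    have := res_apply π hO x ⟨y, hy⟩
    rw [h] at this
    exact this.symm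
  · intro h
    refine Subtype.ext (Equiv.ext fun y => Subtype.ext ?_)
    rw [res_apply]
    exact h y y.2

/-- a subgroup generated by three elements `u, v, 1` of an elementary abelian group has at most four elements -/
theorem mem_closure_cases {G : Type*} [Group G] {u v w : G} (hu : u * u = 1) (hv : v * v = 1) (huv : u * v = v * u)
    (hw : w ∈ closure ({u, v, 1} : Set G)) : w = 1 ∨ w = u ∨ w = v ∨ w = u * v := by
  have hui : u⁻¹ = u := inv_eq_of_mul_eq_one_left hu
  have hvi : v⁻¹ = v := inv_eq_of_mul_eq_one_left hv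
  induction hw using closure_induction with
  | mem x hx =>
    rcases hx with rfl | rfl | rfl
    · exact Or.inr (Or.inl rfl)
    · exact Or.inr (Or.inr (Or.inl rfl))
    · exact Or.inl rfl
  | one => exact Or.inl rfl
  | mul x y _ _ hx hy =>
    have e1 : u * (u * v) = v := by rw [← mul_assoc, hu, one_mul]
    have e2 : v * (u * v) = u := by rw [huv, ← mul_assoc, hv, one_mul]
    have e3 : u * v * u = v := by rw [huv, mul_assoc, hu, mul_one]
    have e4 : u * v * v = u := by rw [mul_assoc, hv, mul_one]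
    have e5 : u * v * (u * v) = 1 := by rw [← mul_assoc, e3, hv]
    rcases hx with rfl | rfl | rfl | rfl <;> rcases hy with rfl | rfl | rfl | rfl <;>
      simp only [one_mul, mul_one, hu, hv, e1, e2, e3, e4, e5, ← huv, true_or, or_true]
  | inv x _ hx =>
    rcases hx with rfl | rfl | rfl | rfl
    · simp
    · rw [hui]; simp
    · rw [hvi]; simp
    · right; right; right
      rw [mul_inv_rev, hui, hvi, huv]

theorem sqA (h : Ctr c) {π : L →* M24} (hπ : Function.Surjective π) (hker : ∀ x, π x = 1 ↔ x = 1 ∨ x = c)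
    {O : Finset GolayPt} (hO : O ∈ octads) : ∀ a ∈ A π O, a * a = 1 := by
  classical
  have hc : π c = 1 := (hker c).2 (Or.inr rfl)
  have hcA : c ∈ A π O := mem_A'.2 (by rw [hc]; exact one_mem _)
  have hval : ∀ x : L, (π x : Perm GolayPt) = 1 ↔ x = 1 ∨ x = c := fun x => by
    rw [← hker]; exact ⟨fun e => Subtype.ext e, fun e => by rw [e]; rfl⟩
  have key : ∀ a ∈ A π O, ∀ b ∈ A π O, ∃ d ∈ A π O, d ∉ closure ({a, b, c} : Set L) := by
    intro a ha b hb
    have hu := OctadFix.fixOct_sq hO (mem_A'.1 ha)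
    have hv := OctadFix.fixOct_sq hO (mem_A'.1 hb)
    have huv := J4Type.FusionComm.fixOct_comm hO (mem_A'.1 ha) (mem_A'.1 hb)
    -- an element outside
    obtain ⟨k, hk, hk'⟩ : ∃ k ∈ OctadFix.fixOct O, k ∉ closure ({(π a : Perm GolayPt), (π b : Perm GolayPt), 1} :
        Set (Perm GolayPt)) := by
      by_contra hno
      push Not at hno
      have h1 : (OctadFix.fixOct O : Set (Perm GolayPt)) ⊆
          (({1, (π a : Perm GolayPt), (π b : Perm GolayPt), (π a : Perm GolayPt) * (π b : Perm GolayPt)} :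
            Finset (Perm GolayPt)) : Set (Perm GolayPt)) := by
        intro k hk
        have := mem_closure_cases hu hv huv (hno k hk)
        simpa using this
      have h2 := Set.ncard_le_ncard h1 (Finset.finite_toSet _)
      rw [Set.ncard_coe_finset] at h2
      have h3 : (OctadFix.fixOct O : Set (Perm GolayPt)).ncard = 16 := OctadFix.card_fixOct hO
      have h4 := Finset.card_le_four (a := (1 : Perm GolayPt)) (b := (π a : Perm GolayPt))
        (c := (π b : Perm GolayPt)) (d := (π a : Perm GolayPt) * (π b : Perm GolayPt))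
      omega
    obtain ⟨d, hd⟩ := hπ ⟨k, (OctadFix.mem_fixOct.1 hk).1⟩
    refine ⟨d, mem_A'.2 (by rw [hd]; exact hk), fun hdc => hk' ?_⟩
    have h1 : ((M24.subtype.comp π) d) ∈ (closure ({a, b, c} : Set L)).map (M24.subtype.comp π) :=
      mem_map_of_mem _ hdc
    rw [MonoidHom.map_closure, Set.image_insert_eq, Set.image_insert_eq, Set.image_singleton] at h1
    have h2 : (M24.subtype.comp π) d = k := by
      show ((π d : ↥M24) : Perm GolayPt) = k
      rw [hd]
    have h3 : (M24.subtype.comp π) c = 1 := by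
      show ((π c : ↥M24) : Perm GolayPt) = 1
      rw [hc]; rfl
    rw [h2, h3] at h1
    exact h1
  refine sq_eq_one_of_trans (P := P π O) h.ne h.cen h.sq hcA ?_ ?_ key ?_
  · intro a ha
    rw [← hval, map_mul]
    exact OctadFix.fixOct_sq hO (mem_A'.1 ha)
  · intro a ha b hb ha1 hac hb1 hbc
    obtain ⟨s, hs⟩ := Finset.card_pos.1 (show 0 < O.card by rw [GolayBase.octad_card hO]; norm_num)
    obtain ⟨x, hx, y, hy, hxy⟩ := Finset.one_lt_card.1 (show 1 < O.card by rw [GolayBase.octad_card hO]; norm_num)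
    have n1 : (π a : Perm GolayPt) ≠ 1 := fun e => ((hval a).1 e).elim ha1 hac
    have n2 : (π b : Perm GolayPt) ≠ 1 := fun e => ((hval b).1 e).elim hb1 hbc
    obtain ⟨k, hk, -, -, hkO, hk'⟩ := J4Type.OctadFixTrans.fix_conj hO hx hy hxy (mem_A'.1 ha) (mem_A'.1 hb) n1 n2
    obtain ⟨g, hg⟩ := hπ ⟨k, hk⟩
    refine ⟨g, ?_, ?_⟩
    · show π g • O = O
      rw [hg]; exact hkO
    · have h1 : (π (b⁻¹ * (g * a * g⁻¹)) : Perm GolayPt) = 1 := by
        rw [map_mul, map_mul, map_mul, map_inv, map_inv]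
        show (π b : Perm GolayPt)⁻¹ * ((π g : Perm GolayPt) * (π a : Perm GolayPt) * (π g : Perm GolayPt)⁻¹) = 1
        rw [hg]
        show (π b : Perm GolayPt)⁻¹ * (k * (π a : Perm GolayPt) * k⁻¹) = 1
        rw [hk', inv_mul_cancel]
      rcases (hval _).1 h1 with h2 | h2
      · left; exact (inv_mul_eq_one.1 h2).symm
      · right; rw [← h2]; group
  · intro a ha
    obtain ⟨d, hd, hd'⟩ := key a ha a ha
    refine ⟨d, hd, fun h => hd' ?_⟩
    rwa [Set.insert_eq_of_mem (Set.mem_insert a {c})]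

/-- **The multiplier of `M24` has odd order**: no perfect central extension by a group of order two. -/
theorem no_double [Finite L] (h : Ctr c) (π : L →* M24) (hπ : Function.Surjective π)
    (hker : ∀ x, π x = 1 ↔ x = 1 ∨ x = c) : False := by
  classical
  obtain ⟨o, ho⟩ : ∃ o, o ∈ octads := by
    by_contra hno
    push Not at hno
    have h1 := Cfsg.Agent.S0360.result
    rw [Set.eq_empty_of_forall_notMem hno, Set.ncard_empty] at h1
    exact absurd h1 (by norm_num)
  have hcard : Fintype.card ↥o = 8 := by rw [Fintype.card_coe]; exact GolayBase.octad_card ho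
  let e : ↥o ≃ Fin (6 + 2) := Fintype.equivFinOfCardEq hcard
  let ρ : P π o →* alternatingGroup (Fin (6 + 2)) := (Equiv.altCongrHom e).toMonoidHom.comp (res π ho)
  have hρ : ∀ x, (ρ x : Perm (Fin (6 + 2))) = (e.symm.trans (res π ho x : Perm ↥o)).trans e := fun x => rfl
  have hval : ∀ x : L, (π x : Perm GolayPt) = 1 ↔ x = 1 ∨ x = c := fun x => by
    rw [← hker]; exact ⟨fun e => Subtype.ext e, fun e => by rw [e]; rfl⟩
  have hc : π c = 1 := (hker c).2 (Or.inr rfl)
  have H : AffAlt.Aff c (P π o) (A π o) ρ := by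
    refine ⟨?_, ?_, ?_, ?_, ?_, sqA h hπ hker ho, ?_, ?_⟩
    · rw [P, index_comap_of_surjective _ hπ, index_stab ho]; norm_num
    · exact mem_A'.2 (by rw [hc]; exact one_mem _)
    · intro x hx
      rw [mem_P]
      intro y
      constructor
      · intro hy
        have h1 := mem_A.1 hx _ hy
        rwa [(π x : Perm GolayPt).injective h1] at hy
      · intro hy
        rw [mem_A.1 hx y hy]; exact hy
    · intro g
      rw [← res_eq_one ho]
      exact (Equiv.altCongrHom e).map_eq_one_iff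
    · exact (Equiv.altCongrHom e).surjective.comp (res_surj hπ ho)
    · -- fixed points
      intro d hd a ha hda
      rw [← hval]
      have hρd : ∀ i, (((π (d : L) : Perm GolayPt) (e.symm i : ↥o)) : GolayPt) =
          (e.symm ((ρ d : Perm (Fin (6 + 2))) i) : ↥o) := by
        intro i
        rw [hρ]
        show _ = ((e.symm (e ((res π ho d : Perm ↥o) (e.symm i))) : ↥o) : GolayPt)
        rw [e.symm_apply_apply, res_apply]
      have hσ3 : ∀ i, (ρ d : Perm (Fin (6 + 2))) ((ρ d : Perm (Fin (6 + 2))) ((ρ d : Perm (Fin (6 + 2))) i)) = i := by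
        intro i
        have h2 : (ρ d : Perm (Fin (6 + 2))) ^ 3 = 1 := by rw [← hd.orderOf]; exact pow_orderOf_eq_one _
        have h3 := congrArg (fun f : Perm (Fin (6 + 2)) => f i) h2
        exact h3
      refine eq_one_of_comm ho (g := (π d : Perm GolayPt)) (π d).2 (mem_P.1 d.2) ?_ ?_ (mem_A'.1 ha) ?_
      · -- five fixed points
        have h1 : ((Finset.univ.filter fun i => (ρ d : Perm (Fin (6 + 2))) i = i).map
            ⟨fun i => ((e.symm i : ↥o) : GolayPt), fun i j hij => e.symm.injective (Subtype.ext hij)⟩) ⊆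
            o.filter fun x => (π d : Perm GolayPt) x = x := by
          intro y hy
          rw [Finset.mem_map] at hy
          obtain ⟨i, hi, rfl⟩ := hy
          rw [Finset.mem_filter] at hi ⊢
          refine ⟨(e.symm i).2, ?_⟩
          show (π (d : L) : Perm GolayPt) (e.symm i : ↥o) = (e.symm i : ↥o)
          rw [hρd, hi.2]
        have h2 := Finset.card_le_card h1
        rw [Finset.card_map] at h2
        have h3 : (Finset.univ.filter fun i => (ρ d : Perm (Fin (6 + 2))) i = i) =
            (ρ d : Perm (Fin (6 + 2))).supportᶜ := by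
          ext i
          rw [Finset.mem_filter, Finset.mem_compl, Perm.notMem_support]
          simp
        rw [h3, Finset.card_compl, hd.card_support, Fintype.card_fin] at h2
        omega
      · obtain ⟨i, hi⟩ : ∃ i, i ∈ (ρ d : Perm (Fin (6 + 2))).support := by
          apply Finset.card_pos.1
          rw [hd.card_support]; norm_num
        rw [Perm.mem_support] at hi
        refine ⟨(e.symm i : ↥o), (e.symm i).2, ?_⟩
        rw [hρd, hρd, hρd, hρd]
        intro h1
        apply hi
        have h2 := e.symm.injective (Subtype.ext h1)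
        rwa [hσ3] at h2
      · have h1 : (d : L) * a = a * d := by
          calc (d : L) * a = (d * a * (d : L)⁻¹) * d := by group
            _ = a * d := by rw [hda]
        have h2 := congrArg (fun x => (π x : Perm GolayPt)) h1
        simp only [map_mul] at h2
        exact h2
    · -- the involution
      obtain ⟨x, hx, hxi, ⟨g, hg, hgx⟩, a, ha, b, hb, a', ha', b', hb', h1, h2, h3, h4, h5, h6, hxy⟩ := exists_dt ho
      obtain ⟨g', hg'⟩ := hπ ⟨g, hg⟩
      obtain ⟨k, hk⟩ := hπ ⟨g * x * g⁻¹, (OctadFix.mem_fixOct.1 hgx).1⟩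
      have hkA : k ∈ A π o := mem_A'.2 (by rw [hk]; exact hgx)
      have hkk := sqA h hπ hker ho k hkA
      have hπx : (π (g'⁻¹ * k * g') : Perm GolayPt) = x := by
        rw [map_mul, map_mul, map_inv, hk, hg']
        show g⁻¹ * (g * x * g⁻¹) * g = x
        group
      have hxP : g'⁻¹ * k * g' ∈ P π o := mem_P.2 (by rw [hπx]; exact hxi)
      refine ⟨⟨g'⁻¹ * k * g', hxP⟩, ?_, e ⟨a, ha⟩, e ⟨b, hb⟩, e ⟨a', ha'⟩, e ⟨b', hb'⟩, ?_, ?_, ?_, ?_, ?_, ?_, ?_⟩
      · apply Subtype.ext
        show g'⁻¹ * k * g' * (g'⁻¹ * k * g') = 1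
        have : g'⁻¹ * k * g' * (g'⁻¹ * k * g') = g'⁻¹ * (k * k) * g' := by group
        rw [this, hkk]; group
      · exact fun h => h1 (congrArg Subtype.val (e.injective h))
      · exact fun h => h2 (congrArg Subtype.val (e.injective h))
      · exact fun h => h3 (congrArg Subtype.val (e.injective h))
      · exact fun h => h4 (congrArg Subtype.val (e.injective h))
      · exact fun h => h5 (congrArg Subtype.val (e.injective h))
      · exact fun h => h6 (congrArg Subtype.val (e.injective h))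
      · have hσ : (res π ho ⟨g'⁻¹ * k * g', hxP⟩ : Perm ↥o) =
            swap (⟨a, ha⟩ : ↥o) ⟨b, hb⟩ * swap (⟨a', ha'⟩ : ↥o) ⟨b', hb'⟩ := by
          refine Equiv.ext fun y => Subtype.ext ?_
          rw [res_apply]
          show (π (g'⁻¹ * k * g') : Perm GolayPt) y = _
          rw [hπx, hxy y y.2, Perm.mul_apply, Perm.mul_apply]
          have hsw : ∀ (u v : ↥o) (w : ↥o), ((swap u v w : ↥o) : GolayPt) = swap (u : GolayPt) v w := by
            intro u v w
            rw [swap_apply_def, swap_apply_def]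
            split_ifs with e1 e2 e3 e4 e5 e6 <;> first | rfl | (exfalso; simp_all)
          rw [hsw, hsw]
        rw [hρ, hσ]
        refine Equiv.ext fun i => ?_
        show e ((swap (⟨a, ha⟩ : ↥o) ⟨b, hb⟩ * swap (⟨a', ha'⟩ : ↥o) ⟨b', hb'⟩) (e.symm i)) = _
        have hsw : ∀ (u v : ↥o) (j : Fin (6 + 2)), swap (e u) (e v) j = e (swap u v (e.symm j)) := by
          intro u v j
          rw [swap_apply_def, swap_apply_def]
          simp only [Equiv.symm_apply_eq]
          split_ifs <;> simp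
        rw [Perm.mul_apply, Perm.mul_apply, hsw, hsw, e.symm_apply_apply]
  exact H.false h (by norm_num)

end Cfsg.Agent.KFacts.MulSpor.M24
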