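import Cfsg.Agent.KFacts.MulDef
import Cfsg.Agent.KFacts.MulCov
import Cfsg.Agent.KFacts.MulM11
import Cfsg.Agent.KFacts.MulJ1
import Cfsg.Agent.KFacts.MulM24
import Cfsg.Agent.KFacts.MulJ4

/-!
# `NoDouble` (form of `KFacts/MulDef.lean`) for `M11`, `J1`, `M24`, `J4`
-/

set_option autoImplicit false

namespace Cfsg.Agent.KFacts.MulSpor.NoDbl

open Cfsg.Agent.KFacts.MulCov Cfsg.Agent.KFacts.MulDef

universe v

/-- the form `NoDouble` from the form `¬ Cov` -/
theorem noDouble_of_not_cov {X : Type v} [Group X]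
    (h : ∀ (L : Type) [Group L] [Finite L] (π : L →* X) (c : L), ¬ Cov π c) : NoDouble X :=
  fun L _ _ π c hd => h L π c ⟨⟨hd.ne, hd.sq, hd.cen, hd.surj, hd.ker⟩, hd.perf⟩

theorem M11 : NoDouble Spor.M11 := noDouble_of_not_cov fun _ _ _ π c => MulM11.not_cov π c

theorem J1 : NoDouble Spor.J1 := noDouble_of_not_cov fun _ _ _ π c => MulJ1.not_cov π c

theorem M24 : NoDouble Cfsg.M24 := noDouble_of_not_cov fun _ _ _ π c => MulM24.not_cov π c

theorem J4 : NoDouble Spor.J4 := noDouble_of_not_cov fun _ _ _ π c => MulJ4.not_cov π c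

end Cfsg.Agent.KFacts.MulSpor.NoDbl
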