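import Cfsg.Agent.SporadicB.ON45Word

/-!
# The presented O'Nan group has no perfect double cover

The lifts of the generators in a perfect double cover can be chosen such that they satisfy the defining relations.
`Cm`, `Sq` (module `LiftCalc`): lifts commute, lifts square to 1.
* all involutions of `⟨f, a, (cdg)²⟩` are conjugate to `f`, so they lift to involutions;
* the lifts of `f` commute with those of `a, b, c, d, g`, the lifts of `a` with those of `c, d, e, f, g`;
* `(cd)² = h h'` with `h' = (dg)²` of square `f`, `h` conjugate to `h'`, lifts commuting: this gives `(cd)⁴ = af`;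
* `g` is conjugate to `(cd)²` in `C(af)`; `g^e g^d` is conjugate to `g^b g^c`, compatibly with the squares `e` and `b`.
The words were found by computer; they are checked in the 45-dimensional representation.
-/

set_option autoImplicit false
set_option maxRecDepth 100000
set_option Elab.async false

namespace Cfsg.Agent.KFacts.MulSpor.ON

open Cfsg.Spor (ON)
open Cfsg.Spor.ON (Gen)
open Cfsg.Agent.Lib.PackMat Cfsg.Agent.SporadicB.ON45Data Cfsg.Agent.SporadicB.ON45Rels
  Cfsg.Agent.SporadicB.ON45Word Cfsg.Agent.SporadicB.ONHom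

/-- the element given by a positive word -/
def w (l : List Gen) : ON := (l.map on).prod

theorem w_append (l m : List Gen) : w (l ++ m) = w l * w m := by
  unfold w
  rw [List.map_append, List.prod_append]

theorem w_one (x : Gen) : w [x] = on x := by simp [w]

theorem w_cons (x : Gen) (l : List Gen) : w (x :: l) = on x * w l := by simp [w]

/-- the matrices of a word -/
def mats (l : List Gen) : List ℕ := l.map fun x => gens (gi x)

/-- the word is a scalar matrix -/
noncomputable def okw (l : List Gen) : Bool :=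
  checkScalar C45 (mats l) 1 0 45 || (checkScalar C45 (mats l) 2 0 45 || checkScalar C45 (mats l) 4 0 45)

theorem rel (hs : IsSimpleGroup ON) (l : List Gen) (h : okw l = true) : w l = 1 := by
  unfold okw at h
  rw [Bool.or_eq_true, Bool.or_eq_true] at h
  rcases h with h | h | h
  · exact (LW.word l).eq_one hs 1 (by decide) h
  · exact (LW.word l).eq_one hs 2 (by decide) h
  · exact (LW.word l).eq_one hs 4 (by decide) h

/-- the inverse word -/
def iw (l : List Gen) : List Gen :=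
  l.reverse.flatMap fun x => match x with
    | .g => [.g, .g, .g]
    | x => [x]

theorem r_a (hs : IsSimpleGroup ON) : w [.a, .a] = 1 := rel hs _ (by decide +kernel)
theorem r_b (hs : IsSimpleGroup ON) : w [.b, .b] = 1 := rel hs _ (by decide +kernel)
theorem r_c (hs : IsSimpleGroup ON) : w [.c, .c] = 1 := rel hs _ (by decide +kernel)
theorem r_d (hs : IsSimpleGroup ON) : w [.d, .d] = 1 := rel hs _ (by decide +kernel)
theorem r_e (hs : IsSimpleGroup ON) : w [.e, .e] = 1 := rel hs _ (by decide +kernel)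
theorem r_f (hs : IsSimpleGroup ON) : w [.f, .f] = 1 := rel hs _ (by decide +kernel)
theorem r_g (hs : IsSimpleGroup ON) : w [.g, .g, .g, .g] = 1 := rel hs _ (by decide +kernel)

theorem w_iw (hs : IsSimpleGroup ON) (l : List Gen) : w (iw l) = (w l)⁻¹ := by
  induction l with
  | nil => simp [w, iw]
  | cons x l ih =>
    have h1 : iw (x :: l) = iw l ++ iw [x] := by
      simp [iw]
    have h2 : w (iw [x]) = (w [x])⁻¹ := by
      have key : ∀ m : List Gen, w (x :: m) = 1 → w m = (w [x])⁻¹ := by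
        intro m hm
        rw [w_cons] at hm
        rw [w_one]
        exact (inv_eq_of_mul_eq_one_right hm).symm
      cases x
      · exact key [.g, .g, .g] (r_g hs)
      · exact key [.a] (r_a hs)
      · exact key [.b] (r_b hs)
      · exact key [.c] (r_c hs)
      · exact key [.d] (r_d hs)
      · exact key [.e] (r_e hs)
      · exact key [.f] (r_f hs)
    rw [h1, w_append, ih, h2, ← mul_inv_rev, ← w_append]
    rfl

theorem eqw (hs : IsSimpleGroup ON) (l m : List Gen) (h : okw (l ++ iw m) = true) : w l = w m := by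
  have h1 := rel hs _ h
  rw [w_append, w_iw hs] at h1
  exact mul_inv_eq_one.1 h1

theorem cj (hs : IsSimpleGroup ON) (u x y : List Gen) (h : okw (u ++ x ++ iw (y ++ u)) = true) :
    w u * w x = w y * w u := by
  rw [← w_append, ← w_append]
  exact eqw hs _ _ h

theorem e_a (hs : IsSimpleGroup ON) :
    w [.e, .d, .c, .d, .c, .e, .d, .c, .b, .g, .g, .g, .e, .d, .c, .b, .g, .e, .d, .b, .c, .d, .b, .c, .a, .b] * w [.a] =
      w [.f] * w [.e, .d, .c, .d, .c, .e, .d, .c, .b, .g, .g, .g, .e, .d, .c, .b, .g, .e, .d, .b, .c, .d, .b, .c, .a, .b] :=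
  cj hs _ _ _ (by decide +kernel)

theorem e_s (hs : IsSimpleGroup ON) :
    w [.e, .d, .c, .d, .e, .g, .g, .g, .e, .g, .d, .c, .d, .e] * w [.c, .d, .g, .c, .d, .g] =
      w [.f] * w [.e, .d, .c, .d, .e, .g, .g, .g, .e, .g, .d, .c, .d, .e] :=
  cj hs _ _ _ (by decide +kernel)

theorem e_fa (hs : IsSimpleGroup ON) :
    w [.e, .d, .c, .g, .e, .d, .g, .g, .g, .e, .c, .d, .c, .d, .e] * w [.f, .a] =
      w [.f] * w [.e, .d, .c, .g, .e, .d, .g, .g, .g, .e, .c, .d, .c, .d, .e] :=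
  cj hs _ _ _ (by decide +kernel)

theorem e_fs (hs : IsSimpleGroup ON) :
    w [.e, .d, .c, .d, .g, .g, .g, .e, .g, .e, .d, .c, .d, .e] * w [.f, .c, .d, .g, .c, .d, .g] =
      w [.f] * w [.e, .d, .c, .d, .g, .g, .g, .e, .g, .e, .d, .c, .d, .e] :=
  cj hs _ _ _ (by decide +kernel)

theorem e_as (hs : IsSimpleGroup ON) :
    w [.e, .g, .d, .c, .e, .d, .f, .e, .g, .c, .d, .e] * w [.a, .c, .d, .g, .c, .d, .g] =
      w [.f] * w [.e, .g, .d, .c, .e, .d, .f, .e, .g, .c, .d, .e] :=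
  cj hs _ _ _ (by decide +kernel)

theorem e_fas (hs : IsSimpleGroup ON) :
    w [.e, .d, .c, .g, .g, .g, .e, .d, .f, .e, .c, .d, .g, .g, .g, .e] * w [.f, .a, .c, .d, .g, .c, .d, .g] =
      w [.f] * w [.e, .d, .c, .g, .g, .g, .e, .d, .f, .e, .c, .d, .g, .g, .g, .e] :=
  cj hs _ _ _ (by decide +kernel)

theorem x_ac (hs : IsSimpleGroup ON) :
    w [.b, .g, .g, .g, .c, .b, .g, .b] * w [.a, .c] =
      w [.a] * w [.b, .g, .g, .g, .c, .b, .g, .b] :=
  cj hs _ _ _ (by decide +kernel)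

theorem x_df (hs : IsSimpleGroup ON) :
    w [.e, .g, .g, .g, .d, .e, .g, .e] * w [.d, .f] =
      w [.f] * w [.e, .g, .g, .g, .d, .e, .g, .e] :=
  cj hs _ _ _ (by decide +kernel)

theorem ab_a (hs : IsSimpleGroup ON) :
    w [.a, .b] * w [.a] =
      w [.b] * w [.a, .b] :=
  cj hs _ _ _ (by decide +kernel)

theorem ab_f (hs : IsSimpleGroup ON) :
    w [.a, .b] * w [.f] =
      w [.f] * w [.a, .b] :=
  cj hs _ _ _ (by decide +kernel)

theorem bcab_a (hs : IsSimpleGroup ON) :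
    w [.b, .c, .a, .b] * w [.a] =
      w [.c] * w [.b, .c, .a, .b] :=
  cj hs _ _ _ (by decide +kernel)

theorem bcab_f (hs : IsSimpleGroup ON) :
    w [.b, .c, .a, .b] * w [.f] =
      w [.f] * w [.b, .c, .a, .b] :=
  cj hs _ _ _ (by decide +kernel)

theorem fe_f (hs : IsSimpleGroup ON) :
    w [.f, .e] * w [.f] =
      w [.e] * w [.f, .e] :=
  cj hs _ _ _ (by decide +kernel)

theorem fe_a (hs : IsSimpleGroup ON) :
    w [.f, .e] * w [.a] =
      w [.a] * w [.f, .e] :=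
  cj hs _ _ _ (by decide +kernel)

theorem fe_b (hs : IsSimpleGroup ON) :
    w [.f, .e] * w [.b] =
      w [.b] * w [.f, .e] :=
  cj hs _ _ _ (by decide +kernel)

theorem fe_c (hs : IsSimpleGroup ON) :
    w [.f, .e] * w [.c] =
      w [.c] * w [.f, .e] :=
  cj hs _ _ _ (by decide +kernel)

theorem edfe_f (hs : IsSimpleGroup ON) :
    w [.e, .d, .f, .e] * w [.f] =
      w [.d] * w [.e, .d, .f, .e] :=
  cj hs _ _ _ (by decide +kernel)

theorem edfe_a (hs : IsSimpleGroup ON) :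
    w [.e, .d, .f, .e] * w [.a] =
      w [.a] * w [.e, .d, .f, .e] :=
  cj hs _ _ _ (by decide +kernel)

theorem edfe_b (hs : IsSimpleGroup ON) :
    w [.e, .d, .f, .e] * w [.b] =
      w [.b] * w [.e, .d, .f, .e] :=
  cj hs _ _ _ (by decide +kernel)

theorem f_bcdg (hs : IsSimpleGroup ON) :
    w [.f] * w [.b, .c, .d, .g] =
      w [.b, .c, .d, .g] * w [.f] :=
  cj hs _ _ _ (by decide +kernel)

theorem x3 (hs : IsSimpleGroup ON) :
    w [.b, .c, .a, .b] * w [.c, .g, .d, .g, .g, .g, .d] =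
      w [.d, .g, .d, .g] * w [.b, .c, .a, .b] :=
  cj hs _ _ _ (by decide +kernel)

theorem x4 (hs : IsSimpleGroup ON) :
    w [.e, .d, .f, .e] * w [.d, .g, .c, .g, .g, .g, .c] =
      w [.c, .g, .c, .g] * w [.e, .d, .f, .e] :=
  cj hs _ _ _ (by decide +kernel)

theorem d_c (hs : IsSimpleGroup ON) :
    w [.d] * w [.c] =
      w [.d, .c, .d] * w [.d] :=
  cj hs _ _ _ (by decide +kernel)

theorem d_s2 (hs : IsSimpleGroup ON) :
    w [.d] * w [.d, .g, .d, .g] =
      w [.f, .d, .g, .d, .g] * w [.d] :=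
  cj hs _ _ _ (by decide +kernel)

theorem d_fs2 (hs : IsSimpleGroup ON) :
    w [.d] * w [.f, .d, .g, .d, .g] =
      w [.d, .g, .d, .g] * w [.d] :=
  cj hs _ _ _ (by decide +kernel)

theorem W_f (hs : IsSimpleGroup ON) :
    w [.e, .g, .d, .e, .f, .c, .d, .e, .g, .c, .d, .e, .b, .a, .c, .b, .d, .c, .b, .d, .e, .g, .g, .g, .b, .c, .d, .e, .g, .b, .c, .d, .e, .c, .d, .c, .d, .e] * w [.f] =
      w [.a] * w [.e, .g, .d, .e, .f, .c, .d, .e, .g, .c, .d, .e, .b, .a, .c, .b, .d, .c, .b, .d, .e, .g, .g, .g, .b, .c, .d, .e, .g, .b, .c, .d, .e, .c, .d, .c, .d, .e] :=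
  cj hs _ _ _ (by decide +kernel)

theorem W1_a (hs : IsSimpleGroup ON) :
    w [.b, .a, .c, .b, .d, .c, .b, .g, .g, .g, .d, .b, .c, .g, .b] * w [.a] =
      w [.a, .f] * w [.b, .a, .c, .b, .d, .c, .b, .g, .g, .g, .d, .b, .c, .g, .b] :=
  cj hs _ _ _ (by decide +kernel)

theorem V_g (hs : IsSimpleGroup ON) :
    w [.b, .a, .c, .b, .d, .c, .b, .g, .g, .g, .d, .b, .c, .g, .b, .e, .f, .c, .d, .e, .b, .g, .g, .g, .c, .b, .d, .g, .b, .c, .d, .b, .c, .a, .b] * w [.c, .d, .c, .d] =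
      w [.g] * w [.b, .a, .c, .b, .d, .c, .b, .g, .g, .g, .d, .b, .c, .g, .b, .e, .f, .c, .d, .e, .b, .g, .g, .g, .c, .b, .d, .g, .b, .c, .d, .b, .c, .a, .b] :=
  cj hs _ _ _ (by decide +kernel)

theorem t_h (hs : IsSimpleGroup ON) :
    w [.f, .e, .b, .c, .d, .c, .b, .g, .g, .g, .b, .g, .c, .d, .c, .b, .e, .d, .c, .d, .c, .e, .d, .c, .b, .g, .g, .g, .e, .d, .c, .b, .g, .e, .d, .b, .c, .d, .b, .c, .a, .b, .e, .d, .c, .g, .g, .g, .e, .d, .c, .f, .e, .d, .g, .g, .g, .e, .b, .a] * w [.b, .g, .b, .c, .g, .c] =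
      w [.e, .g, .e, .d, .g, .d] * w [.f, .e, .b, .c, .d, .c, .b, .g, .g, .g, .b, .g, .c, .d, .c, .b, .e, .d, .c, .d, .c, .e, .d, .c, .b, .g, .g, .g, .e, .d, .c, .b, .g, .e, .d, .b, .c, .d, .b, .c, .a, .b, .e, .d, .c, .g, .g, .g, .e, .d, .c, .f, .e, .d, .g, .g, .g, .e, .b, .a] :=
  cj hs _ _ _ (by decide +kernel)

theorem h2_b (hs : IsSimpleGroup ON) : w [.b, .g, .b, .c, .g, .c, .b, .g, .b, .c, .g, .c] = w [.b] :=
  eqw hs _ _ (by decide +kernel)

theorem h3_e (hs : IsSimpleGroup ON) : w [.e, .g, .e, .d, .g, .d, .e, .g, .e, .d, .g, .d] = w [.e] :=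
  eqw hs _ _ (by decide +kernel)

theorem ggf (hs : IsSimpleGroup ON) : w [.g, .g, .f] = w [.a] := eqw hs _ _ (by decide +kernel)

theorem s2_f (hs : IsSimpleGroup ON) : w [.d, .g, .d, .g, .d, .g, .d, .g] = w [.f] := eqw hs _ _ (by decide +kernel)

theorem r_bcdg (hs : IsSimpleGroup ON) : w [.b, .c, .d, .g, .b, .c, .d, .g, .b, .c, .d, .g, .b, .c, .d, .g, .b, .c, .d, .g] = 1 :=
  rel hs _ (by decide +kernel)

/-- `f → a` -/
def wW : List Gen := [.e, .g, .d, .e, .f, .c, .d, .e, .g, .c, .d, .e, .b, .a, .c, .b, .d, .c, .b, .d, .e, .g, .g, .g, .b,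
  .c, .d, .e, .g, .b, .c, .d, .e, .c, .d, .c, .d, .e]

theorem W_s2 (hs : IsSimpleGroup ON) :
    w (wW ++ [.d, .g, .d, .g] ++ iw wW ++ [.d, .g, .d, .g]) = w [.c, .d, .c, .d] := eqw hs _ _ (by decide +kernel)

/-- `a → a f` -/
def w1 : List Gen := [.b, .a, .c, .b, .d, .c, .b, .g, .g, .g, .d, .b, .c, .g, .b]
def wv : List Gen := [.e, .f, .c, .d, .e]
/-- `c d c d → g` -/
def wV : List Gen := w1 ++ wv ++ iw w1

theorem V_g' (hs : IsSimpleGroup ON) : w (wV ++ [.c, .d, .c, .d] ++ iw wV) = w [.g] := eqw hs _ _ (by decide +kernel)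

def wr : List Gen := [.b, .c, .d, .c, .b, .g, .g, .g, .b, .g, .c, .d, .c, .b]

theorem t_h' (hs : IsSimpleGroup ON) :
    w (([.f, .e] ++ wr ++ iw ([.a, .b] ++ wW)) ++ [.b, .g, .b, .c, .g, .c] ++ iw ([.f, .e] ++ wr ++ iw ([.a, .b] ++ wW))) =
      w [.e, .g, .e, .d, .g, .d] := eqw hs _ _ (by decide +kernel)

end Cfsg.Agent.KFacts.MulSpor.ON
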