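import Cfsg.Agent.KFacts.MulSpor.LiftCalc
import Cfsg.Agent.KFacts.MulSpor.ONWords

/-!
# The presented O'Nan group has no perfect double cover

The lifts of the generators in a perfect double cover can be chosen such that they satisfy the defining relations.
`Cm`, `Sq` (module `LiftCalc`): lifts commute, lifts square to 1.
-/

set_option autoImplicit false

namespace Cfsg.Agent.KFacts.MulSpor.ON

open Cfsg.Spor (ON)
open Cfsg.Spor.ON (Gen)
open Cfsg.Agent.SporadicB.ON45Word Cfsg.Agent.SporadicB.ONHom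
open Cfsg.Agent.KFacts.MulTwo Cfsg.Agent.KFacts.MulDef Cfsg.Agent.KFacts.MulSpor.LiftCalc

variable {L : Type*} [Group L] {π : L →* ON} {c : L}

theorem w_conj (hs : IsSimpleGroup ON) (t l : List Gen) : w (t ++ l ++ iw t) = w t * w l * (w t)⁻¹ := by
  rw [w_append, w_append, w_iw hs]

/-! ### Squares -/

theorem Sq_f (hs : IsSimpleGroup ON) (h : Dbl π c) : Sq π (w [.f]) := by
  refine Sq.of_eight (x := w [.f]) (y := w [.a]) (z := w [.c, .d, .g, .c, .d, .g]) h ?_ ?_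
  · rw [← w_append]; exact r_f hs
  · intro v hv
    simp only [← w_append] at hv
    simp only [List.mem_cons, List.not_mem_nil, or_false] at hv
    rcases hv with rfl | rfl | rfl | rfl | rfl | rfl | rfl
    · exact ⟨1, by rw [one_mul, mul_one]⟩
    · exact ⟨_, e_a hs⟩
    · exact ⟨_, e_s hs⟩
    · exact ⟨_, e_fa hs⟩
    · exact ⟨_, e_fs hs⟩
    · exact ⟨_, e_as hs⟩
    · exact ⟨_, e_fas hs⟩

theorem Sq_a (hs : IsSimpleGroup ON) (h : Dbl π c) : Sq π (w [.a]) := (Sq_f hs h).conj_symm h _ (e_a hs)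
theorem Sq_fa (hs : IsSimpleGroup ON) (h : Dbl π c) : Sq π (w [.f, .a]) := (Sq_f hs h).conj_symm h _ (e_fa hs)
theorem Sq_c (hs : IsSimpleGroup ON) (h : Dbl π c) : Sq π (w [.c]) := (Sq_a hs h).conj' h _ (bcab_a hs)
theorem Sq_ac (hs : IsSimpleGroup ON) (h : Dbl π c) : Sq π (w [.a, .c]) := (Sq_a hs h).conj_symm h _ (x_ac hs)
theorem Sq_d (hs : IsSimpleGroup ON) (h : Dbl π c) : Sq π (w [.d]) := (Sq_f hs h).conj' h _ (edfe_f hs)
theorem Sq_df (hs : IsSimpleGroup ON) (h : Dbl π c) : Sq π (w [.d, .f]) := (Sq_f hs h).conj_symm h _ (x_df hs)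

/-! ### Commuting lifts -/

theorem Cm_fa (hs : IsSimpleGroup ON) (h : Dbl π c) : Cm π (w [.f]) (w [.a]) :=
  Cm.of_sq h (Sq_f hs h) (Sq_a hs h) (by rw [← w_append]; exact Sq_fa hs h)
theorem Cm_ac (hs : IsSimpleGroup ON) (h : Dbl π c) : Cm π (w [.a]) (w [.c]) :=
  Cm.of_sq h (Sq_a hs h) (Sq_c hs h) (by rw [← w_append]; exact Sq_ac hs h)
theorem Cm_df (hs : IsSimpleGroup ON) (h : Dbl π c) : Cm π (w [.d]) (w [.f]) :=
  Cm.of_sq h (Sq_d hs h) (Sq_f hs h) (by rw [← w_append]; exact Sq_df hs h)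
theorem Cm_af (hs : IsSimpleGroup ON) (h : Dbl π c) : Cm π (w [.a]) (w [.f]) := (Cm_fa hs h).symm
theorem Cm_fb (hs : IsSimpleGroup ON) (h : Dbl π c) : Cm π (w [.f]) (w [.b]) :=
  (Cm_fa hs h).conj' h _ (ab_f hs) (ab_a hs)
theorem Cm_fc (hs : IsSimpleGroup ON) (h : Dbl π c) : Cm π (w [.f]) (w [.c]) :=
  (Cm_fa hs h).conj' h _ (bcab_f hs) (bcab_a hs)
theorem Cm_ae (hs : IsSimpleGroup ON) (h : Dbl π c) : Cm π (w [.a]) (w [.e]) :=
  (Cm_af hs h).conj' h _ (fe_a hs) (fe_f hs)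
theorem Cm_ad (hs : IsSimpleGroup ON) (h : Dbl π c) : Cm π (w [.a]) (w [.d]) :=
  (Cm_af hs h).conj' h _ (edfe_a hs) (edfe_f hs)
theorem Cm_be (hs : IsSimpleGroup ON) (h : Dbl π c) : Cm π (w [.b]) (w [.e]) :=
  (Cm_fb hs h).symm.conj' h _ (fe_b hs) (fe_f hs)
theorem Cm_bd (hs : IsSimpleGroup ON) (h : Dbl π c) : Cm π (w [.b]) (w [.d]) :=
  (Cm_fb hs h).symm.conj' h _ (edfe_b hs) (edfe_f hs)
theorem Cm_ce (hs : IsSimpleGroup ON) (h : Dbl π c) : Cm π (w [.c]) (w [.e]) :=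
  (Cm_fc hs h).symm.conj' h _ (fe_c hs) (fe_f hs)

theorem Cm_w (h : Dbl π c) {x : ON} (l : List Gen) (hl : ∀ y ∈ l, Cm π x (w [y])) : Cm π x (w l) := by
  apply Cm.prod h
  intro y hy
  obtain ⟨z, hz, rfl⟩ := List.mem_map.1 hy
  rw [← w_one]
  exact hl z hz

theorem Cm_fg (hs : IsSimpleGroup ON) (h : Dbl π c) : Cm π (w [.f]) (w [.g]) := by
  have h1 : Cm π (w [.f]) (w [.b, .c, .d, .g]) := by
    refine Cm.of_odd h (f_bcdg hs) 2 ?_
    have := r_bcdg hs
    show _ ^ 5 = _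
    rw [pow_succ, pow_succ, pow_succ, pow_two, ← w_append, ← w_append, ← w_append, ← w_append]
    exact this
  have h2 : Cm π (w [.f]) (w [.b, .c, .d]) := by
    apply Cm_w h
    intro y hy
    simp only [List.mem_cons, List.not_mem_nil, or_false] at hy
    rcases hy with rfl | rfl | rfl
    · exact Cm_fb hs h
    · exact Cm_fc hs h
    · exact (Cm_df hs h).symm
  have h3 : w [.g] = (w [.b, .c, .d])⁻¹ * w [.b, .c, .d, .g] := by
    have : w [.b, .c, .d, .g] = w [.b, .c, .d] * w [.g] := (w_append [.b, .c, .d] [.g])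
    rw [this, inv_mul_cancel_left]
  rw [h3]
  exact (h2.inv h).mul h h1

theorem CmF (hs : IsSimpleGroup ON) (h : Dbl π c) (l : List Gen) (hl : ∀ y ∈ l, y ∈ [Gen.a, .b, .c, .d, .g]) :
    Cm π (w [.f]) (w l) := by
  apply Cm_w h
  intro y hy
  have := hl y hy
  simp only [List.mem_cons, List.not_mem_nil, or_false] at this
  rcases this with rfl | rfl | rfl | rfl | rfl
  · exact Cm_fa hs h
  · exact Cm_fb hs h
  · exact Cm_fc hs h
  · exact (Cm_df hs h).symm
  · exact Cm_fg hs h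

theorem Cm_ag (hs : IsSimpleGroup ON) (h : Dbl π c) : Cm π (w [.a]) (w [.g]) := by
  apply Cm.symm
  rw [← ggf hs]
  apply Cm_w h
  intro y hy
  simp only [List.mem_cons, List.not_mem_nil, or_false] at hy
  rcases hy with rfl | rfl | rfl
  · exact Cm.self h _
  · exact Cm.self h _
  · exact (Cm_fg hs h).symm

theorem CmA (hs : IsSimpleGroup ON) (h : Dbl π c) (l : List Gen) (hl : ∀ y ∈ l, y ∈ [Gen.c, .d, .e, .f, .g]) :
    Cm π (w [.a]) (w l) := by
  apply Cm_w h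
  intro y hy
  have := hl y hy
  simp only [List.mem_cons, List.not_mem_nil, or_false] at this
  rcases this with rfl | rfl | rfl | rfl | rfl
  · exact Cm_ac hs h
  · exact Cm_ad hs h
  · exact Cm_ae hs h
  · exact Cm_af hs h
  · exact Cm_ag hs h

theorem Cm_c_s2 (hs : IsSimpleGroup ON) (h : Dbl π c) : Cm π (w [.c]) (w [.d, .g, .d, .g]) :=
  (CmA hs h _ (by decide)).conj' h _ (bcab_a hs) (x3 hs)

theorem Cm_d_s3 (hs : IsSimpleGroup ON) (h : Dbl π c) : Cm π (w [.d]) (w [.c, .g, .c, .g]) :=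
  (CmF hs h _ (by decide)).conj' h _ (edfe_f hs) (x4 hs)

theorem Cm_s5_s2 (hs : IsSimpleGroup ON) (h : Dbl π c) : Cm π (w [.c, .d, .c, .d]) (w [.d, .g, .d, .g]) := by
  have h1 : Cm π (w [.c]) (w [.f, .d, .g, .d, .g]) := by
    have : w [.f, .d, .g, .d, .g] = w [.f] * w [.d, .g, .d, .g] := w_append [.f] _
    rw [this]
    exact (Cm_fc hs h).symm.mul h (Cm_c_s2 hs h)
  have h2 : Cm π (w [.d, .c, .d]) (w [.d, .g, .d, .g]) := h1.conj' h _ (d_c hs) (d_fs2 hs)
  have h3 : w [.c, .d, .c, .d] = w [.c] * w [.d, .c, .d] := w_append [.c] _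
  rw [h3]
  exact ((Cm_c_s2 hs h).symm.mul h h2.symm).symm

theorem Cm_V (hs : IsSimpleGroup ON) (h : Dbl π c) : Cm π (w [.a, .f]) (w wV) := by
  refine (CmA hs h wv (by decide)).conj' h (w w1) (W1_a hs) ?_
  rw [wV, w_append, w_append, w_iw hs, inv_mul_cancel_right]

/-! ### The lifts of the generators -/

section main

variable (hs : IsSimpleGroup ON) (h : Dbl π c)

include hs h

theorem x1 {A C D F G W : L} (hW : π W = w wW) (hA : A = W * F * W⁻¹) (hC : π C = w [.c]) (hD : π D = w [.d])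
    (hF : π F = w [.f]) (hG : π G = w [.g]) : C * D * C * D * (C * D * C * D) = A * F := by
  have p2 : π (D * G * D * G) = w [.d, .g, .d, .g] := by
    simp only [map_mul, hD, hG, ← w_append]; rfl
  have p5 : π (C * D * C * D) = w [.c, .d, .c, .d] := by
    simp only [map_mul, hD, hC, ← w_append]; rfl
  refine sq_mul_conj h hA (Cm_s5_s2 hs h _ _ p5 p2) ?_ ?_
  · rw [map_mul, map_mul, map_mul, map_inv, p2, p5, hW, ← W_s2 hs, w_append, w_append, w_append, w_iw hs]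
  · rw [map_mul, p2, hF, ← w_append]; exact s2_f hs

theorem x2 {A F G S : L} (hA : π A = w [.a]) (hF : π F = w [.f]) (hG : π G = w [.g])
    (hS : π S = w [.c, .d, .c, .d]) (e : S * S = A * F) : G * G = A * F := by
  obtain ⟨V, hV⟩ := h.surj (w wV)
  have h1 : π (V * S * V⁻¹) = π G := by
    rw [map_mul, map_mul, map_inv, hV, hS, hG, ← V_g' hs, w_append, w_append, w_iw hs]
  have h2 : V * (A * F) = A * F * V :=
    ((Cm_V hs h) (A * F) V (by rw [map_mul, hA, hF, ← w_append]; rfl) hV).symm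
  have h3 : V * S * V⁻¹ * (V * S * V⁻¹) = A * F := by
    have : V * S * V⁻¹ * (V * S * V⁻¹) = V * (S * S) * V⁻¹ := by group
    rw [this, e, h2, mul_inv_cancel_right]
  rcases cases h h1 with e1 | e1
  · rw [← e1, h3]
  · rw [e1, left_comm h, mul_assoc, cc_mul h] at h3
    exact h3

/-- the square of the lifts of `g^b g^c` and `g^e g^d` -/
theorem x7 {B E F P H H3 E₀ : L} (hP : π P = w ([.a, .b] ++ wW)) (hB : B = P * F * P⁻¹) (hH : π H = w [.b, .g, .b, .c, .g, .c])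
    (hHB : H * H = B) (hF : π F = w [.f]) (hE0 : π E₀ = w [.e]) (hE : E = F * E₀ * F * (F * E₀)⁻¹)
    (hH3 : π H3 = w [.e, .g, .e, .d, .g, .d]) : H3 * H3 = E := by
  obtain ⟨R, hR⟩ := h.surj (w wr)
  have hRF : F * R = R * F := CmF hs h wr (by decide) F R hF hR
  obtain ⟨T, hT⟩ : ∃ T, T = F * E₀ * R * P⁻¹ := ⟨_, rfl⟩
  have h0 : π T = w ([.f, .e] ++ wr ++ iw ([.a, .b] ++ wW)) := by
    rw [hT, map_mul, map_mul, map_mul, map_inv, hF, hE0, hR, hP, w_append _ (iw _), w_iw hs, w_append _ wr,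
      ← w_append [.f]]
    rfl
  have h1 : π (T * H * T⁻¹) = π H3 := by
    rw [map_mul, map_mul, map_inv, h0, hH, hH3, ← t_h' hs, w_conj hs]
  have h2 : T * H * T⁻¹ * (T * H * T⁻¹) = E := by
    have h3 : T * H * T⁻¹ * (T * H * T⁻¹) = T * (H * H) * T⁻¹ := by group
    have h4 : T * (P * F * P⁻¹) * T⁻¹ = F * E₀ * (R * F) * R⁻¹ * (F * E₀)⁻¹ := by rw [hT]; group
    rw [h3, hHB, hB, h4, ← hRF, hE]
    group
  rcases cases h h1 with e | e
  · rw [← e, h2]
  · rw [e, left_comm h, mul_assoc, cc_mul h] at h2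
    exact h2

/-- a lift of `g` with `(b c d g)⁵ = 1` -/
theorem exists_G (B C D : L) (hB : π B = w [.b]) (hC : π C = w [.c]) (hD : π D = w [.d]) :
    ∃ G, π G = w [.g] ∧ (B * C * D * G) ^ 5 = 1 := by
  obtain ⟨G, hG⟩ := h.surj (w [.g])
  have h1 : π ((B * C * D * G) ^ 5) = π 1 := by
    rw [map_pow, map_mul, map_mul, map_mul, hB, hC, hD, hG, map_one, ← w_append, ← w_append, ← w_append,
      pow_succ, pow_succ, pow_succ, pow_two, ← w_append, ← w_append, ← w_append, ← w_append]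
    exact r_bcdg hs
  rcases cases h h1 with e | e
  · exact ⟨G, hG, e⟩
  · refine ⟨c * G, by rw [map_mul, c_map h, one_mul, hG], ?_⟩
    have h2 : B * C * D * (c * G) = c * (B * C * D * G) := left_comm h _ _
    rw [h2]
    have := pow_c h (B * C * D * G) 2
    have h3 : (2 * 2 + 1 : ℕ) = 5 := rfl
    rw [h3, e, mul_one, h.sq] at this
    exact this

/-- The lifts can be chosen such that the relations hold. -/
theorem exists_rels : ∃ A B C D E F G : L, (π A = on .a ∧ π B = on .b ∧ π C = on .c ∧ π D = on .d ∧ π E = on .e ∧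
    π F = on .f ∧ π G = on .g) ∧ Rels A B C D E F G := by
  obtain ⟨P, hP⟩ := h.surj (w ([.a, .b] ++ wW))
  obtain ⟨H, hH⟩ := h.surj (w [.b, .g, .b, .c, .g, .c])
  obtain ⟨W, hW⟩ := h.surj (w wW)
  obtain ⟨B₀, hB₀⟩ := h.surj (w [.b])
  obtain ⟨C₀, hC₀⟩ := h.surj (w [.c])
  obtain ⟨D₀, hD₀⟩ := h.surj (w [.d])
  obtain ⟨E₀, hE₀⟩ := h.surj (w [.e])
  -- the lift of `f`
  obtain ⟨F, hFdef⟩ : ∃ F, F = P⁻¹ * (H * H) * P := ⟨_, rfl⟩
  have hWf : w wW * w [.f] = w [.a] * w wW := W_f hs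
  have hPf : w ([.a, .b] ++ wW) * w [.f] = w [.b] * w ([.a, .b] ++ wW) := by
    rw [w_append, mul_assoc, hWf, ← mul_assoc, ab_a hs, mul_assoc]
  have hF : π F = w [.f] := by
    have h1 : π (H * H) = w [.b] := by
      rw [map_mul, hH, ← w_append]; exact h2_b hs
    rw [hFdef, map_mul, map_mul, map_inv, h1, hP, mul_assoc, ← hPf, inv_mul_cancel_left]
  have hFF : F * F = 1 := Sq_f hs h F hF
  -- the lift of `a`
  obtain ⟨A, hAdef⟩ : ∃ A, A = W * F * W⁻¹ := ⟨_, rfl⟩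
  have hA : π A = w [.a] := by
    rw [hAdef, map_mul, map_mul, map_inv, hW, hF, hWf, mul_inv_cancel_right]
  have hAA : A * A = 1 := Sq_a hs h A hA
  -- the lifts of `b, c, d, e`
  have braid_w : ∀ (x y : Gen), w [x, y, x] = w [y, x, y] → ∀ X Y : L, π X = w [x] → π Y = w [y] →
      π X * π Y * π X = π Y * π X * π Y := by
    intro x y e X Y hX hY
    rw [hX, hY, ← w_append, ← w_append, ← w_append, ← w_append]
    exact e
  obtain ⟨B, hBdef⟩ : ∃ B, B = A * B₀ * A * (A * B₀)⁻¹ := ⟨_, rfl⟩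
  obtain ⟨hB1, hBB, hAB⟩ := braid h hAA (braid_w .a .b (eqw hs _ _ (by decide +kernel)) A B₀ hA hB₀)
  rw [← hBdef] at hB1 hBB hAB
  have hB : π B = w [.b] := hB1.trans hB₀
  obtain ⟨C, hCdef⟩ : ∃ C, C = B * C₀ * B * (B * C₀)⁻¹ := ⟨_, rfl⟩
  obtain ⟨hC1, hCC, hBC⟩ := braid h hBB (braid_w .b .c (eqw hs _ _ (by decide +kernel)) B C₀ hB hC₀)
  rw [← hCdef] at hC1 hCC hBC
  have hC : π C = w [.c] := hC1.trans hC₀
  obtain ⟨E, hEdef⟩ : ∃ E, E = F * E₀ * F * (F * E₀)⁻¹ := ⟨_, rfl⟩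
  obtain ⟨hE1, hEE, hFE⟩ := braid h hFF (braid_w .f .e (eqw hs _ _ (by decide +kernel)) F E₀ hF hE₀)
  rw [← hEdef] at hE1 hEE hFE
  have hE : π E = w [.e] := hE1.trans hE₀
  obtain ⟨D, hDdef⟩ : ∃ D, D = E * D₀ * E * (E * D₀)⁻¹ := ⟨_, rfl⟩
  obtain ⟨hD1, hDD, hED⟩ := braid h hEE (braid_w .e .d (eqw hs _ _ (by decide +kernel)) E D₀ hE hD₀)
  rw [← hDdef] at hD1 hDD hED
  have hD : π D = w [.d] := hD1.trans hD₀
  obtain ⟨G, hG, hG5⟩ := exists_G hs h B C D hB hC hD
  -- the relation `x1`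
  have r1 := x1 hs h hW hAdef hC hD hF hG
  have r2 := x2 hs h hA hF hG (S := C * D * C * D)
    (by simp only [map_mul, hD, hC, ← w_append]; rfl) r1
  -- the squares of the lifts of `g^b g^c`, `g^e g^d`
  have hBP : B = P * F * P⁻¹ := by
    have h1 : π (A * B₀ * W) = π P := by
      rw [map_mul, map_mul, hA, hB₀, hW, hP, ← w_append, ← w_append]; rfl
    have h2 : B = A * B₀ * W * F * (A * B₀ * W)⁻¹ := by rw [hBdef, hAdef]; group
    rw [h2]
    rcases cases h h1 with e | e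
    · rw [e]
    · rw [e, mul_inv_rev, mul_assoc c, mul_assoc c, ← mul_assoc (P * F), h.cen, inv_mul_cancel_right]
  have hHB : H * H = B := by rw [hBP, hFdef]; group
  have hHH : ∀ H', π H' = w [.b, .g, .b, .c, .g, .c] → H' * H' = B := by
    intro H' hH'
    rcases cases h (hH'.trans hH.symm) with e | e
    · rw [e, hHB]
    · rw [e, left_comm h, mul_assoc, cc_mul h, hHB]
  have r6 := hHH (B * G * B * C * G * C) (by simp only [map_mul, hB, hC, hG, ← w_append]; rfl)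
  have r7 := x7 hs h hP hBP hH hHB hF hE₀ hEdef (H3 := E * G * E * D * G * D)
    (by simp only [map_mul, hE, hD, hG, ← w_append]; rfl)
  refine ⟨A, B, C, D, E, F, G, ⟨by rw [hA, w_one], by rw [hB, w_one], by rw [hC, w_one], by rw [hD, w_one],
    by rw [hE, w_one], by rw [hF, w_one], by rw [hG, w_one]⟩, ?_⟩
  exact {
    aa := hAA
    bb := hBB
    cc := hCC
    dd := hDD
    ee := hEE
    ff := hFF
    ab := hAB
    bc := hBC
    de := swap_pow _ _ _ hED
    ef := swap_pow _ _ _ hFE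
    ac := Cm_ac hs h _ _ hA hC
    ad := Cm_ad hs h _ _ hA hD
    ae := Cm_ae hs h _ _ hA hE
    af := Cm_af hs h _ _ hA hF
    bd := Cm_bd hs h _ _ hB hD
    be := Cm_be hs h _ _ hB hE
    bf := (Cm_fb hs h).symm _ _ hB hF
    ce := Cm_ce hs h _ _ hC hE
    cf := (Cm_fc hs h).symm _ _ hC hF
    df := Cm_df hs h _ _ hD hF
    afcd := by
      rw [← r1, pow_succ, pow_succ, pow_two]
      group
    afgg := r2.symm
    cdg := Cm_c_s2 hs h _ _ hC (by simp only [map_mul, hD, hG, ← w_append]; rfl)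
    dcg := Cm_d_s3 hs h _ _ hD (by simp only [map_mul, hC, hG, ← w_append]; rfl)
    bcdg := hG5
    gb := by
      have h1 : B * G * B * C * G * C * (B * G * B * C * G * C) =
          B * (G * B * (C * G * C) * (B * G * B) * (C * G * C)) := by group
      rw [h1] at r6
      exact mul_eq_left.1 r6
    ge := by
      have h1 : E * G * E * D * G * D * (E * G * E * D * G * D) =
          E * (G * E * (D * G * D) * (E * G * E) * (D * G * D)) := by group
      rw [h1] at r7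
      exact mul_eq_left.1 r7 }

end main

/-- **The presented O'Nan group has no perfect double cover** (if it is simple). -/
theorem noDouble_of_simple (hs : IsSimpleGroup ON) : NoDouble ON := by
  intro L _ _ π c h
  obtain ⟨A, B, C, D, E, F, G, ⟨hA, hB, hC, hD, hE, hF, hG⟩, hr⟩ := exists_rels hs h
  refine false_of_section h (hom hr) ?_
  have h1 : π.comp (hom hr) = MonoidHom.id ON := by
    apply PresentedGroup.ext
    intro x
    show π (hom hr (PresentedGroup.of x)) = PresentedGroup.of x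
    rw [hom_of]
    cases x
    · exact hG
    · exact hA
    · exact hB
    · exact hC
    · exact hD
    · exact hE
    · exact hF
  intro x
  exact DFunLike.congr_fun h1 x

end Cfsg.Agent.KFacts.MulSpor.ON
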