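import Cfsg.Agent.OddHalf.D9.L34.Norm2
import Cfsg.Agent.KFacts.MulDef

/-!
# Central extensions of `PSL(3,4)` by groups of exponent four (helper87)

`C : CExt π`, `M` finite and perfect.

* `map_x`, `map_f`, `map_g`: the canonical lifts are natural for a smaller extension.
* `ker_le_closure_g`: the kernel is generated by the values of `C.g`.
* `ker_le_zpowers`: if the preimages of `t01(1) t12(μ)`, `t01(ω) t12(μω)` and `t02(c)` commute, the kernel is cyclic, of order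
  dividing 4.
-/

set_option autoImplicit false
set_option linter.constructorNameAsVariable false
set_option linter.unusedVariables false

namespace Cfsg.Agent.KFacts.MulSpor.ONLem

open Subgroup
open Cfsg.Agent.SporadicA.FieldFour
open Cfsg.Agent.ONType.Psl
open Cfsg.Agent.ONType.PslCard
open Cfsg.Agent.ONType.Lift
open Cfsg.Agent.ONType.Comm

variable {M : Type*} [Group M] {π : M →* PSL3}

theorem exists_ne_one_of_nontrivial' {G : Type*} [Group G] {H : Subgroup G} (h : H ≠ ⊥) : ∃ k ∈ H, k ≠ 1 := by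
  obtain ⟨a, ha⟩ := Subgroup.ne_bot_iff_exists_ne_one.1 h
  exact ⟨a, a.2, fun e => ha (Subtype.ext e)⟩

theorem one_or_two_dvd {n : ℕ} (h : n ∣ 4) : n = 1 ∨ 2 ∣ n := by
  have : n ≤ 4 := Nat.le_of_dvd (by norm_num) h
  interval_cases n <;> simp_all

section Map

variable {M' : Type*} [Group M'] {π' : M' →* PSL3} (C : CExt π) (C' : CExt π') (ρ : M →* M')
  (h : ∀ m, π' (ρ m) = π m)

include h

theorem map_h : ρ C.h = C'.h := by
  refine C'.eq_of_cube ?_ ?_ C'.h_pow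
  · rw [h, C.map_h, C'.map_h]
  · rw [← map_pow, C.h_pow, map_one]

theorem map_x {i j : Fin 3} (hij : i ≠ j) (u : F4) : ρ (C.x i j u) = C'.x i j u := by
  have h1 : π' (ρ (C.l (t i j u))) = t i j u := by rw [h, C.l_spec]
  rw [C'.x_eq hij h1, ← map_h C C' ρ h]
  show ρ (hat C.h (C.l (t i j u))) = _
  unfold hat
  simp only [map_mul, map_inv]

omit h in
theorem map_cm (a b : M) : ρ (cm a b) = cm (ρ a) (ρ b) := by
  unfold cm
  simp only [map_mul, map_inv]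

theorem map_f (s : F4) : ρ (C.f s) = C'.f s := by
  show ρ (cm _ _) = cm _ _
  rw [map_cm ρ, map_x C C' ρ h (by decide), map_x C C' ρ h (by decide)]

theorem map_g (s : F4) : ρ (C.g s) = C'.g s := by
  show ρ ((C.x 0 2 (s * 1))⁻¹ * cm _ _) = (C'.x 0 2 (s * 1))⁻¹ * cm _ _
  rw [map_mul, map_inv, map_cm ρ, map_x C C' ρ h (by decide), map_x C C' ρ h (by decide),
    map_x C C' ρ h (by decide)]

end Map

/-- the induced extension -/
theorem cext_quot (C : CExt π) {M' : Type*} [Group M'] {π' : M' →* PSL3} (ρ : M →* M')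
    (hρ : Function.Surjective ρ) (h : ∀ m, π' (ρ m) = π m) : CExt π' where
  surj := fun y => by
    obtain ⟨m, hm⟩ := C.surj y
    exact ⟨ρ m, by rw [h, hm]⟩
  cen := fun k hk m => by
    obtain ⟨k, rfl⟩ := hρ k
    obtain ⟨m, rfl⟩ := hρ m
    rw [h] at hk
    rw [← map_mul, C.cen k hk m, map_mul]
  exp := fun k hk => by
    obtain ⟨k, rfl⟩ := hρ k
    rw [h] at hk
    rw [← map_pow, C.exp k hk, map_one]

/-- the kernel is generated by the values of `C.g` -/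
theorem ker_le_closure_g [Finite M] (C : CExt π) (hperf : commutator M = ⊤) :
    π.ker ≤ closure (Set.range C.g) := by
  classical
  set K := closure (Set.range C.g) with hK
  have hKle : K ≤ π.ker := by
    rw [hK, closure_le]
    rintro _ ⟨s, rfl⟩
    exact C.g_map s
  have hKn : K.Normal := ⟨fun n hn g => by
    rw [← C.cen n (hKle hn) g, mul_inv_cancel_right]; exact hn⟩
  -- the quotient by `K`
  let q := QuotientGroup.mk' K
  have hq : Function.Surjective q := QuotientGroup.mk'_surjective _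
  let π₁ : M ⧸ K →* PSL3 := QuotientGroup.lift K π hKle
  have hπ₁ : ∀ m, π₁ (q m) = π m := fun _ => rfl
  have C₁ : CExt π₁ := cext_quot C q hq hπ₁
  have hp₁ : commutator (M ⧸ K) = ⊤ := MulDef.commutator_top_of_surj q hq hperf
  have hg₁ : ∀ s, C₁.g s = 1 := fun s => by
    rw [← map_g C C₁ q hπ₁]
    exact (QuotientGroup.eq_one_iff _).2 (subset_closure ⟨s, rfl⟩)
  have hZ₁ : π₁.ker ≤ center (M ⧸ K) := fun k hk => by
    rw [mem_center_iff]
    intro m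
    exact (C₁.cen k hk m).symm
  -- the kernel of `π₁` is trivial
  have hone : π₁.ker = ⊥ := by
    by_contra hne
    have h2 : 2 ∣ Nat.card π₁.ker := by
      obtain ⟨k, hk, hk1⟩ := exists_ne_one_of_nontrivial' hne
      have h4 := C₁.exp k hk
      have hord : orderOf k ∣ 4 := orderOf_dvd_of_pow_eq_one h4
      have h3 : 2 ∣ orderOf k := by
        rcases one_or_two_dvd hord with h5 | h5
        · exact absurd (orderOf_eq_one_iff.1 h5) hk1
        · exact h5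
      have h6 : orderOf k ∣ Nat.card π₁.ker := by
        have := orderOf_dvd_natCard (⟨k, hk⟩ : π₁.ker)
        rwa [orderOf_mk] at this
      exact h3.trans h6
    obtain ⟨Z₀, hle, hcard⟩ := MulDef.exists_index_two hZ₁ h2
    have hn : Z₀.Normal := ⟨fun n hn g => by
      rw [← C₁.cen n (hle hn) g, mul_inv_cancel_right]; exact hn⟩
    let r := QuotientGroup.mk' Z₀
    have hr : Function.Surjective r := QuotientGroup.mk'_surjective _
    let π₂ : (M ⧸ K) ⧸ Z₀ →* PSL3 := QuotientGroup.lift Z₀ π₁ hle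
    have hπ₂ : ∀ m, π₂ (r m) = π₁ m := fun _ => rfl
    have C₂ : CExt π₂ := cext_quot C₁ r hr hπ₂
    have hp₂ : commutator ((M ⧸ K) ⧸ Z₀) = ⊤ := MulDef.commutator_top_of_surj r hr hp₁
    have hg₂ : ∀ s, C₂.g s = 1 := fun s => by
      rw [← map_g C₁ C₂ r hπ₂, hg₁, map_one]
    have hc2 : Nat.card π₂.ker = 2 := by
      have e1 : Nat.card ((M ⧸ K) ⧸ Z₀) * Nat.card Z₀ = Nat.card (M ⧸ K) :=
        (card_eq_card_quotient_mul_card_subgroup Z₀).symm
      have e2 := C₁.card_M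
      have e3 := C₂.card_M
      have hpos : 0 < Nat.card Z₀ := Nat.card_pos
      rw [e2, e3, hcard] at e1
      have e4 : Nat.card π₂.ker * Nat.card Z₀ = 2 * Nat.card Z₀ := by nlinarith
      exact Nat.eq_of_mul_eq_mul_right hpos e4
    have hne2 : π₂.ker ≠ ⊥ := fun h => by
      rw [h, card_bot] at hc2
      omega
    obtain ⟨z, hz, hz1⟩ := exists_ne_one_of_nontrivial' hne2
    have hsq : ∀ k, π₂ k = 1 → k * k = 1 := fun k hk => by
      have := pow_card_eq_one' (x := (⟨k, hk⟩ : π₂.ker))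
      rw [hc2, pow_two] at this
      exact congrArg Subtype.val this
    obtain ⟨s, hs⟩ := OddHalf.D9.L34.Norm2.exists_g_ne_one C₂ hp₂ hc2 z hz hz1 hsq
    exact hs (hg₂ s)
  intro k hk
  have h1 : q k ∈ π₁.ker := by
    show π₁ (q k) = 1
    rw [hπ₁]; exact hk
  rw [hone, mem_bot] at h1
  exact (QuotientGroup.eq_one_iff _).1 h1

/-- a product of three lifts -/
theorem swap3 (C : CExt π) (u v v' : F4) :
    C.x 1 2 v * C.x 0 1 u * C.x 1 2 v' =
      C.x 0 1 u * C.x 1 2 (v + v') * C.x 0 2 (u * v) * (C.f (u * u * (v * v) * (v' * v')) * (C.g (u * (v * v)))⁻¹) := by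
  have h1 := C.rel_sum 0 2 1 (by decide) (by decide) (by decide) u v
  have h2 := C.rel_col 0 2 1 (by decide) (by decide) (by decide) (u * v) v'
  have e1 : u * v * (u * v) * (v' * v') = u * u * (v * v) * (v' * v') := by ring
  rw [e1] at h2
  have hi := C.x_inv 0 2 (by decide) (u * v)
  have cg : ∀ m : M, (C.g (u * (v * v)))⁻¹ * m = m * (C.g (u * (v * v)))⁻¹ :=
    C.cen _ (by rw [map_inv, C.g_map, inv_one])
  have cf := C.f_cen (u * u * (v * v) * (v' * v'))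
  have h3 : C.x 1 2 v * C.x 0 1 u = C.x 0 1 u * C.x 1 2 v * C.x 0 2 (u * v) * (C.g (u * (v * v)))⁻¹ := by
    rw [h1]
    calc C.x 1 2 v * C.x 0 1 u = C.x 1 2 v * C.x 0 1 u * (C.x 0 2 (u * v) * (C.x 0 2 (u * v))⁻¹) *
          (C.g (u * (v * v)) * (C.g (u * (v * v)))⁻¹) := by group
      _ = C.x 1 2 v * C.x 0 1 u * (C.x 0 2 (u * v) * ((C.x 0 2 (u * v))⁻¹ *
          C.g (u * (v * v))) * (C.g (u * (v * v)))⁻¹) := by group
      _ = C.x 1 2 v * C.x 0 1 u * (C.x 0 2 (u * v) * (C.g (u * (v * v)) * C.x 0 2 (u * v)) *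
          (C.g (u * (v * v)))⁻¹) := by rw [← C.g_cen, hi]
      _ = _ := by group
  rw [h3, ← C.x_add 1 2 (by decide)]
  calc C.x 0 1 u * C.x 1 2 v * C.x 0 2 (u * v) * (C.g (u * (v * v)))⁻¹ * C.x 1 2 v'
      = C.x 0 1 u * C.x 1 2 v * C.x 0 2 (u * v) * ((C.g (u * (v * v)))⁻¹ * C.x 1 2 v') := by group
    _ = C.x 0 1 u * C.x 1 2 v * (C.x 0 2 (u * v) * C.x 1 2 v') * (C.g (u * (v * v)))⁻¹ := by
        rw [cg]; group
    _ = _ := by rw [h2]; group

theorem f_rel (C : CExt π) {μ : F4} (h1 : ∀ c, Commute (C.x 0 1 1 * C.x 1 2 μ) (C.x 0 2 c)) (c : F4) :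
    C.f c = C.f (c * c * (μ * μ)) := by
  have e1 := C.rel_row 0 1 2 (by decide) (by decide) (by decide) 1 c
  have e2 := C.rel_col 0 2 1 (by decide) (by decide) (by decide) c μ
  rw [one_mul] at e1
  have e3 : C.x 0 1 1 * C.x 1 2 μ * C.x 0 2 c = C.x 0 2 c * (C.x 0 1 1 * C.x 1 2 μ) := h1 c
  have cf := C.f_cen c
  have cf' := C.f_cen (c * c * (μ * μ))
  have hs := C.f_sq (c * c * (μ * μ))
  have e4 : C.x 1 2 μ * C.x 0 2 c = C.x 0 2 c * C.x 1 2 μ * C.f (c * c * (μ * μ)) := by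
    rw [e2, mul_assoc, hs, mul_one]
  have e5 : C.x 0 1 1 * C.x 1 2 μ * C.x 0 2 c =
      C.x 0 2 c * (C.x 0 1 1 * C.x 1 2 μ) * (C.f c * C.f (c * c * (μ * μ))) := by
    calc C.x 0 1 1 * C.x 1 2 μ * C.x 0 2 c = C.x 0 1 1 * (C.x 1 2 μ * C.x 0 2 c) := by group
      _ = (C.x 0 1 1 * C.x 0 2 c) * C.x 1 2 μ * C.f (c * c * (μ * μ)) := by rw [e4]; group
      _ = C.x 0 2 c * C.x 0 1 1 * (C.f c * C.x 1 2 μ) * C.f (c * c * (μ * μ)) := by rw [e1]; group
      _ = _ := by rw [cf]; group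
  rw [e3] at e5
  have e6 : C.f c * C.f (c * c * (μ * μ)) = 1 := by
    have := e5.symm
    rwa [mul_eq_left] at this
  have e7 : C.f c * C.f (c * c * (μ * μ)) * C.f (c * c * (μ * μ)) = C.f (c * c * (μ * μ)) := by
    rw [e6, one_mul]
  rw [← e7, mul_assoc, hs, mul_one]

/-- the relation between the values of `C.g` -/
theorem g_rel (C : CExt π) {μ : F4} (hμ : μ ≠ 0) (h1 : ∀ c, Commute (C.x 0 1 1 * C.x 1 2 μ) (C.x 0 2 c))
    (h2 : Commute (C.x 0 1 1 * C.x 1 2 μ) (C.x 0 1 ω * C.x 1 2 (μ * ω))) :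
    C.f (μ * ω) = C.f (μ * ω2) ∧ C.g (μ * μ * ω) = C.g (μ * μ * ω2) := by
  have hf := f_rel C h1
  have e1 : C.f (μ * ω) = C.f (μ * ω2) := by
    rw [hf (μ * ω)]
    congr 1
    have : ∀ μ : F4, μ ≠ 0 → μ * ω * (μ * ω) * (μ * μ) = μ * ω2 := by decide
    exact this μ hμ
  refine ⟨e1, ?_⟩
  have h3 := swap3 C ω μ (μ * ω)
  have h4 := swap3 C 1 (μ * ω) μ
  have h5 : C.x 0 1 1 * C.x 1 2 μ * (C.x 0 1 ω * C.x 1 2 (μ * ω)) =
    C.x 0 1 ω * C.x 1 2 (μ * ω) * (C.x 0 1 1 * C.x 1 2 μ) := h2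
  have h6 : C.x 0 1 1 * (C.x 1 2 μ * C.x 0 1 ω * C.x 1 2 (μ * ω)) =
    C.x 0 1 ω * (C.x 1 2 (μ * ω) * C.x 0 1 1 * C.x 1 2 μ) := by
    calc _ = C.x 0 1 1 * C.x 1 2 μ * (C.x 0 1 ω * C.x 1 2 (μ * ω)) := by group
      _ = _ := by rw [h5]; group
  rw [h3, h4] at h6
  have a1 : C.x 0 1 1 * C.x 0 1 ω = C.x 0 1 ω * C.x 0 1 1 := by
    rw [C.x_add 0 1 (by decide), C.x_add 0 1 (by decide), add_comm]
  have i1 : ω * μ = 1 * (μ * ω) := by ring
  have i2 : μ + μ * ω = μ * ω + μ := by ring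
  have i3 : ω * ω * (μ * μ) * (μ * ω * (μ * ω)) = μ * ω := by
    have : ∀ μ : F4, μ ≠ 0 → ω * ω * (μ * μ) * (μ * ω * (μ * ω)) = μ * ω := by decide
    exact this μ hμ
  have i4 : 1 * 1 * (μ * ω * (μ * ω)) * (μ * μ) = μ * ω2 := by
    have : ∀ μ : F4, μ ≠ 0 → 1 * 1 * (μ * ω * (μ * ω)) * (μ * μ) = μ * ω2 := by decide
    exact this μ hμ
  have i5 : ω * (μ * μ) = μ * μ * ω := by ring
  have i6 : 1 * (μ * ω * (μ * ω)) = μ * μ * ω2 := by
    have : ∀ μ : F4, 1 * (μ * ω * (μ * ω)) = μ * μ * ω2 := by decide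
    exact this μ
  rw [i1, i2, i3, i4, i5, i6, e1] at h6
  have h7 : (C.x 0 1 1 * C.x 0 1 ω) * (C.x 1 2 (μ * ω + μ) * C.x 0 2 (1 * (μ * ω)) * C.f (μ * ω2)) *
      (C.g (μ * μ * ω))⁻¹ = (C.x 0 1 1 * C.x 0 1 ω) * (C.x 1 2 (μ * ω + μ) * C.x 0 2 (1 * (μ * ω)) *
      C.f (μ * ω2)) * (C.g (μ * μ * ω2))⁻¹ := by
    calc _ = C.x 0 1 1 * (C.x 0 1 ω * C.x 1 2 (μ * ω + μ) * C.x 0 2 (1 * (μ * ω)) *
          (C.f (μ * ω2) * (C.g (μ * μ * ω))⁻¹)) := by group
      _ = C.x 0 1 ω * (C.x 0 1 1 * C.x 1 2 (μ * ω + μ) * C.x 0 2 (1 * (μ * ω)) *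
          (C.f (μ * ω2) * (C.g (μ * μ * ω2))⁻¹)) := h6
      _ = (C.x 0 1 ω * C.x 0 1 1) * (C.x 1 2 (μ * ω + μ) * C.x 0 2 (1 * (μ * ω)) * C.f (μ * ω2)) *
          (C.g (μ * μ * ω2))⁻¹ := by group
      _ = _ := by rw [a1]
  exact inv_injective (mul_left_cancel h7)

/-- the LEMMA: the kernel is cyclic of order dividing 4 -/
theorem ker_le_zpowers [Finite M] (C : CExt π) (hperf : commutator M = ⊤) {μ : F4} (hμ : μ ≠ 0)
    (h1 : ∀ c, Commute (C.x 0 1 1 * C.x 1 2 μ) (C.x 0 2 c))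
    (h2 : Commute (C.x 0 1 1 * C.x 1 2 μ) (C.x 0 1 ω * C.x 1 2 (μ * ω))) :
    π.ker ≤ zpowers (C.g (μ * μ * ω)) := by
  obtain ⟨e1, e2⟩ := g_rel C hμ h1 h2
  refine (ker_le_closure_g C hperf).trans ?_
  rw [closure_le]
  -- `f μ = 1`
  have f1 : C.f μ = 1 := by
    have : μ = μ * ω + μ * ω2 := by
      have : ∀ μ : F4, μ = μ * ω + μ * ω2 := by decide
      exact this μ
    rw [this, C.f_add, e1, C.f_sq]
  have g1 : C.g (μ * μ) = C.g (μ * μ * ω) * C.g (μ * μ * ω) := by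
    have i1 : μ * μ = μ * μ * ω + μ * μ * ω2 := by
      have : ∀ μ : F4, μ * μ = μ * μ * ω + μ * μ * ω2 := by decide
      exact this μ
    have i2 : μ * μ * ω * (μ * μ * ω2) = μ := by
      have : ∀ μ : F4, μ ≠ 0 → μ * μ * ω * (μ * μ * ω2) = μ := by decide
      exact this μ hμ
    have h3 := C.g_add (μ * μ * ω) (μ * μ * ω2)
    rw [i2, f1, mul_one, ← e2, ← i1] at h3
    exact h3
  rintro _ ⟨s, rfl⟩
  have hs : s = 0 ∨ s = μ * μ ∨ s = μ * μ * ω ∨ s = μ * μ * ω2 := by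
    have : ∀ μ s : F4, μ ≠ 0 → s = 0 ∨ s = μ * μ ∨ s = μ * μ * ω ∨ s = μ * μ * ω2 := by decide
    exact this μ s hμ
  rcases hs with rfl | rfl | rfl | rfl
  · rw [C.g_zero]; exact one_mem _
  · rw [g1]; exact mul_mem (mem_zpowers _) (mem_zpowers _)
  · exact mem_zpowers _
  · rw [← e2]; exact mem_zpowers _

/-- the kernel is cyclic -/
theorem isCyclic_ker [Finite M] (C : CExt π) (hperf : commutator M = ⊤) {μ : F4} (hμ : μ ≠ 0)
    (h1 : ∀ c, Commute (C.x 0 1 1 * C.x 1 2 μ) (C.x 0 2 c))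
    (h2 : Commute (C.x 0 1 1 * C.x 1 2 μ) (C.x 0 1 ω * C.x 1 2 (μ * ω))) :
    π.ker = zpowers (C.g (μ * μ * ω)) ∧ Nat.card π.ker ∣ 4 := by
  have h3 : π.ker = zpowers (C.g (μ * μ * ω)) := by
    refine le_antisymm (ker_le_zpowers C hperf hμ h1 h2) ?_
    rw [zpowers_le]
    exact C.g_map _
  refine ⟨h3, ?_⟩
  rw [h3, Nat.card_zpowers]
  exact orderOf_dvd_of_pow_eq_one (C.exp _ (C.g_map _))

/-- the form with arbitrary lifts: if the preimages of the elements of `W0(μ)` commute, the kernel has order dividing 4 -/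
theorem card_ker_dvd [Finite M] (C : CExt π) (hperf : commutator M = ⊤) {μ : F4} (hμ : μ ≠ 0)
    (h : ∀ x y : M, (∃ a c, π x = t 0 1 a * t 1 2 (μ * a) * t 0 2 c) →
      (∃ a c, π y = t 0 1 a * t 1 2 (μ * a) * t 0 2 c) → x * y = y * x) :
    IsCyclic π.ker ∧ Nat.card π.ker ∣ 4 := by
  have hm : ∀ a, ∃ a' c, π (C.x 0 1 a * C.x 1 2 (μ * a)) = t 0 1 a' * t 1 2 (μ * a') * t 0 2 c := fun a =>
    ⟨a, 0, by rw [map_mul, C.map_x 0 1 (by decide), C.map_x 1 2 (by decide), t_zero, mul_one]⟩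
  have hm2 : ∀ c, ∃ a' c', π (C.x 0 2 c) = t 0 1 a' * t 1 2 (μ * a') * t 0 2 c' := fun c =>
    ⟨0, c, by rw [C.map_x 0 2 (by decide), mul_zero, t_zero, t_zero, one_mul, one_mul]⟩
  have h3 := isCyclic_ker C hperf hμ
    (fun c => by
      have := h _ _ (hm 1) (hm2 c)
      rw [mul_one] at this
      exact this)
    (by
      have := h _ _ (hm 1) (hm ω)
      rw [mul_one] at this
      exact this)
  refine ⟨?_, h3.2⟩
  rw [h3.1]
  infer_instance

end Cfsg.Agent.KFacts.MulSpor.ONLem
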