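import Cfsg.Agent.KFacts.MulSpor.ONLem
import Cfsg.Agent.KFacts.MulSpor.Class

/-!
# No double cover of a group of O'Nan type (helper87)

* `pre_abelian`: the preimage of an abelian subgroup `A` in a double cover is abelian if some `s` normalises `A` and acts on
  `A/A²` (of order 8) with order 7.
* `Facts X`: the facts used about the group `X` of O'Nan type; `Facts.noDouble : NoDouble X`.
-/

set_option autoImplicit false
set_option linter.constructorNameAsVariable false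
set_option linter.unusedVariables false
set_option linter.unusedSectionVars false

namespace Cfsg.Agent.KFacts.MulSpor.ONLem

open Subgroup Cfsg.Agent.KFacts.MulTwo Cfsg.Agent.KFacts.MulDef
open Cfsg.Agent.SporadicA.FieldFour
open Cfsg.Agent.ONType.Psl
open Cfsg.Agent.ONType.PslCard
open Cfsg.Agent.ONType.Lift
open Cfsg.Agent.ONType.Comm
open scoped commutatorElement

section Abelian

variable {L : Type*} [Group L] {c : L} (hcc : c * c = 1) (hcen : ∀ x : L, c * x = x * c) {B : Subgroup L}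
  (hB : ∀ x ∈ B, ∀ y ∈ B, ⁅x, y⁆ = 1 ∨ ⁅x, y⁆ = c)

include hcc hcen hB

omit hcc in
theorem com_cen {x y : L} (hx : x ∈ B) (hy : y ∈ B) (m : L) : ⁅x, y⁆ * m = m * ⁅x, y⁆ := by
  rcases hB x hx y hy with h | h
  · rw [h, one_mul, mul_one]
  · rw [h, hcen]

omit hcen in
theorem com_sq {x y : L} (hx : x ∈ B) (hy : y ∈ B) : ⁅x, y⁆ * ⁅x, y⁆ = 1 := by
  rcases hB x hx y hy with h | h
  · rw [h, one_mul]
  · rw [h, hcc]

theorem com_symm {x y : L} (hx : x ∈ B) (hy : y ∈ B) : ⁅y, x⁆ = ⁅x, y⁆ := by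
  rw [← commutatorElement_inv, inv_eq_of_mul_eq_one_left (com_sq hcc hB hx hy)]

theorem com_mul_left {x y w : L} (hx : x ∈ B) (hy : y ∈ B) (hw : w ∈ B) : ⁅x * y, w⁆ = ⁅x, w⁆ * ⁅y, w⁆ := by
  have h1 := com_cen hcen hB hy hw
  calc ⁅x * y, w⁆ = x * ⁅y, w⁆ * x⁻¹ * ⁅x, w⁆ := by
        rw [commutatorElement_def, commutatorElement_def, commutatorElement_def]; group
    _ = ⁅y, w⁆ * ⁅x, w⁆ := by rw [← h1 x]; group
    _ = _ := h1 _

theorem com_mul_right {x y w : L} (hx : x ∈ B) (hy : y ∈ B) (hw : w ∈ B) : ⁅x, y * w⁆ = ⁅x, y⁆ * ⁅x, w⁆ := by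
  rw [com_symm hcc hcen hB (mul_mem hy hw) hx, com_mul_left hcc hcen hB hy hw hx,
    com_symm hcc hcen hB hx hy, com_symm hcc hcen hB hx hw]

theorem com_conj {x y s : L} (hx : x ∈ B) (hy : y ∈ B) : ⁅s * x * s⁻¹, s * y * s⁻¹⁆ = ⁅x, y⁆ := by
  have h1 := com_cen hcen hB hx hy s
  calc ⁅s * x * s⁻¹, s * y * s⁻¹⁆ = s * ⁅x, y⁆ * s⁻¹ := by
        rw [commutatorElement_def, commutatorElement_def]; group
    _ = _ := by rw [← h1]; group

theorem com_sq_right {x w : L} (hx : x ∈ B) (hw : w ∈ B) : ⁅x, w * w⁆ = 1 := by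
  rw [com_mul_right hcc hcen hB hx hw hw, com_sq hcc hB hx hw]

omit hcc hcen hB in
theorem com_self (x : L) : ⁅x, x⁆ = 1 := by
  rw [commutatorElement_def]; group

/-- the three basic commutators -/
theorem com_basic {s a w : L} (ha : a ∈ B) (hb : s * a * s⁻¹ ∈ B) (hd : s * (s * a * s⁻¹) * s⁻¹ ∈ B) (hw : w ∈ B)
    (h3 : ∃ e : L, (∀ m, e * m = m * e) ∧
      s * (s * (s * a * s⁻¹) * s⁻¹) * s⁻¹ = a * (s * a * s⁻¹) * (w * w) * e ∧ e ∈ B) :
    ⁅a, s * a * s⁻¹⁆ = 1 ∧ ⁅s * a * s⁻¹, s * (s * a * s⁻¹) * s⁻¹⁆ = 1 ∧ ⁅s * (s * a * s⁻¹) * s⁻¹, a⁆ = 1 := by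
  obtain ⟨e, he, h3, heB⟩ := h3
  have hce : ∀ x ∈ B, ⁅x, e⁆ = 1 := fun x _ => by
    rw [commutatorElement_def, ← he x]; group
  have h1 : ⁅s * a * s⁻¹, s * (s * a * s⁻¹) * s⁻¹⁆ = ⁅a, s * a * s⁻¹⁆ := com_conj hcc hcen hB ha hb
  have h2 : ⁅s * (s * a * s⁻¹) * s⁻¹, s * (s * (s * a * s⁻¹) * s⁻¹) * s⁻¹⁆ =
      ⁅s * a * s⁻¹, s * (s * a * s⁻¹) * s⁻¹⁆ := com_conj hcc hcen hB hb hd
  have h4 : ⁅s * (s * (s * a * s⁻¹) * s⁻¹) * s⁻¹, s * a * s⁻¹⁆ = ⁅s * (s * a * s⁻¹) * s⁻¹, a⁆ :=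
    com_conj hcc hcen hB hd ha
  set b := s * a * s⁻¹ with hbdef
  set d := s * b * s⁻¹ with hddef
  rw [h3] at h2 h4
  have hww : w * w ∈ B := mul_mem hw hw
  have hab : a * b ∈ B := mul_mem ha hb
  rw [com_mul_right hcc hcen hB hd (mul_mem hab hww) heB, com_mul_right hcc hcen hB hd hab hww,
    com_mul_right hcc hcen hB hd ha hb, com_sq_right hcc hcen hB hd hw, hce d hd, mul_one, mul_one,
    com_symm hcc hcen hB hb hd] at h2
  have h5 : ⁅d, a⁆ = 1 := by rwa [mul_eq_right] at h2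
  rw [h5, com_symm hcc hcen hB hb (mul_mem (mul_mem hab hww) heB),
    com_mul_right hcc hcen hB hb (mul_mem hab hww) heB, com_mul_right hcc hcen hB hb hab hww,
    com_mul_right hcc hcen hB hb ha hb, com_sq_right hcc hcen hB hb hw, hce b hb, com_self b,
    mul_one, mul_one, mul_one, com_symm hcc hcen hB ha hb] at h4
  exact ⟨h4, by rw [h1, h4], h5⟩

end Abelian

variable {L X : Type*} [Group L] [Group X] {π : L →* X} {c : L}

/-- the preimage of `A` is abelian -/
theorem pre_abelian (hd : Dbl π c) {A : Subgroup X} (hA : ∀ x ∈ A, ∀ y ∈ A, x * y = y * x) {s a w : X}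
    (ha : a ∈ A) (hs : ∀ x ∈ A, s * x * s⁻¹ ∈ A) (hw : w ∈ A)
    (h3 : s * (s * (s * a * s⁻¹) * s⁻¹) * s⁻¹ = a * (s * a * s⁻¹) * (w * w))
    (hgen : ∀ x ∈ A, ∃ (i j k : ℕ) (y : X), y ∈ A ∧
      x = a ^ i * (s * a * s⁻¹) ^ j * (s * (s * a * s⁻¹) * s⁻¹) ^ k * (y * y))
    (x y : L) (hx : π x ∈ A) (hy : π y ∈ A) : x * y = y * x := by
  obtain ⟨s, rfl⟩ := hd.surj s
  obtain ⟨a, rfl⟩ := hd.surj a
  obtain ⟨w, rfl⟩ := hd.surj w
  set B : Subgroup L := A.comap π with hBdef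
  have hπc := Class.pi_c hd
  have hcB : c ∈ B := by
    show π c ∈ A
    rw [hπc]; exact one_mem _
  have hB : ∀ x ∈ B, ∀ y ∈ B, ⁅x, y⁆ = 1 ∨ ⁅x, y⁆ = c := by
    intro x hx y hy
    apply (hd.ker _).1
    have h1 : π x * π y = π y * π x := hA _ hx _ hy
    rw [commutatorElement_def, map_mul, map_mul, map_mul, map_inv, map_inv, h1]; group
  have haB : a ∈ B := ha
  have hbB : s * a * s⁻¹ ∈ B := by
    show π _ ∈ A
    rw [map_mul, map_mul, map_inv]; exact hs _ ha
  have hdB : s * (s * a * s⁻¹) * s⁻¹ ∈ B := by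
    show π _ ∈ A
    rw [map_mul, map_mul, map_inv]; exact hs _ hbB
  have hwB : w ∈ B := hw
  have h3' : ∃ e : L, (∀ m, e * m = m * e) ∧
      s * (s * (s * a * s⁻¹) * s⁻¹) * s⁻¹ = a * (s * a * s⁻¹) * (w * w) * e ∧ e ∈ B := by
    have h4 : π (s * (s * (s * a * s⁻¹) * s⁻¹) * s⁻¹) = π (a * (s * a * s⁻¹) * (w * w)) := by
      simp only [map_mul, map_inv]
      exact h3
    rcases Class.eq_or hd h4 with h5 | h5
    · exact ⟨1, fun m => by rw [one_mul, mul_one], by rw [h5, mul_one], one_mem _⟩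
    · exact ⟨c, hd.cen, by rw [h5, hd.cen], hcB⟩
  obtain ⟨c1, c2, c3⟩ := com_basic hd.sq hd.cen hB haB hbB hdB hwB h3'
  set b := s * a * s⁻¹ with hb
  set d := s * b * s⁻¹ with hdd
  have cab : Commute a b := commutatorElement_eq_one_iff_commute.1 c1
  have cbd : Commute b d := commutatorElement_eq_one_iff_commute.1 c2
  have cda : Commute d a := commutatorElement_eq_one_iff_commute.1 c3
  have csq : ∀ u ∈ B, ∀ v ∈ B, Commute u (v * v) := fun u hu v hv =>
    commutatorElement_eq_one_iff_commute.1 (com_sq_right hd.sq hd.cen hB hu hv)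
  -- elements of `B`
  have key : ∀ u ∈ B, ∀ m : L, Commute m a → Commute m b → Commute m d → m ∈ B → Commute m u := by
    intro u hu m h1 h2 h4 hm
    obtain ⟨i, j, k, y, hy, e⟩ := hgen (π u) hu
    obtain ⟨y, rfl⟩ := hd.surj y
    have e2 : π u = π (a ^ i * b ^ j * d ^ k * (y * y)) := by
      rw [e, hdd, hb]
      simp only [map_mul, map_inv, map_pow]
    have h5 : Commute m (a ^ i * b ^ j * d ^ k * (y * y)) :=
      (((h1.pow_right i).mul_right (h2.pow_right j)).mul_right (h4.pow_right k)).mul_right (csq m hm y hy)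
    rcases Class.eq_or hd e2 with h6 | h6
    · rw [h6]; exact h5
    · rw [h6]
      exact Commute.mul_right (hd.cen m).symm h5
  have ka : ∀ u ∈ B, Commute a u := fun u hu => key u hu a (Commute.refl a) cab cda.symm haB
  have kb : ∀ u ∈ B, Commute b u := fun u hu => key u hu b cab.symm (Commute.refl b) cbd hbB
  have kd : ∀ u ∈ B, Commute d u := fun u hu => key u hu d cda cbd.symm (Commute.refl d) hdB
  exact key y hy x (ka x hx).symm (kb x hx).symm (kd x hx).symm hx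

/-- the facts used about a group of O'Nan type: `z` an involution, `J = C(z)^∞` (`ρ : J → L3(4)` with kernel of order 4),
`u` an involution of `C(z)` outside `J`, `A = 4³` the preimage of `W0(μ)`, `s` an element of order 7 on `A/A²` -/
structure Facts (X : Type*) [Group X] (z u s a w : X) (J A : Subgroup X) (ρ : J →* PSL3) (μ : F4) : Prop where
  one : ∀ x y : X, orderOf x = 2 → orderOf y = 2 → IsConj x y
  idx : ¬ 2 ∣ (centralizer ({z} : Set X)).index
  JC : ∀ x ∈ J, x * z = z * x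
  norm : ∀ g, g * z = z * g → ∀ x ∈ J, g * x * g⁻¹ ∈ J
  uz : u * z = z * u
  usq : u * u = 1
  uJ : u ∉ J
  cov : ∀ g, g * z = z * g → g ∈ J ∨ u * g ∈ J
  perf : ⁅J, J⁆ = J
  surj : Function.Surjective ρ
  kcen : ∀ k : J, ρ k = 1 → ∀ m : J, k * m = m * k
  kexp : ∀ k : J, ρ k = 1 → k ^ 4 = 1
  kcard : Nat.card ρ.ker = 4
  hμ : μ ≠ 0
  ab : ∀ x ∈ A, ∀ y ∈ A, x * y = y * x
  A_of : ∀ x : J, (∃ a c, ρ x = t 0 1 a * t 1 2 (μ * a) * t 0 2 c) → (x : X) ∈ A
  aA : a ∈ A
  sA : ∀ x ∈ A, s * x * s⁻¹ ∈ A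
  wA : w ∈ A
  s3 : s * (s * (s * a * s⁻¹) * s⁻¹) * s⁻¹ = a * (s * a * s⁻¹) * (w * w)
  gen : ∀ x ∈ A, ∃ (i j k : ℕ) (y : X), y ∈ A ∧
      x = a ^ i * (s * a * s⁻¹) ^ j * (s * (s * a * s⁻¹) * s⁻¹) ^ k * (y * y)
  a4 : a * a * (a * a) = 1
  a2 : a * a ≠ 1
  sa : a * a ≠ s * (a * a) * s⁻¹

/-- an element of a perfect group centralising it modulo the central subgroup `{1, c}` is central -/
theorem cen_of_perfect {M : Type*} [Group M] (hM : commutator M = ⊤) {c k : M} (hc : ∀ m, c * m = m * c)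
    (hk : ∀ m, ⁅k, m⁆ = 1 ∨ ⁅k, m⁆ = c) (m : M) : k * m = m * k := by
  have hcen : ∀ m n, ⁅k, m⁆ * n = n * ⁅k, m⁆ := fun m n => by
    rcases hk m with h | h
    · rw [h, one_mul, mul_one]
    · rw [h, hc]
  have hconj : ∀ m, k * m * k⁻¹ = ⁅k, m⁆ * m := fun m => by
    rw [commutatorElement_def]; group
  have h1 : commutator M ≤ centralizer ({k} : Set M) := by
    rw [commutator_def, commutator_le]
    intro x _ y _
    rw [mem_centralizer_singleton_iff]
    have ex := hcen x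
    have ey := hcen y
    have h2 : k * ⁅x, y⁆ * k⁻¹ = ⁅x, y⁆ := by
      calc k * ⁅x, y⁆ * k⁻¹ = (k * x * k⁻¹) * (k * y * k⁻¹) * (k * x * k⁻¹)⁻¹ * (k * y * k⁻¹)⁻¹ := by
            rw [commutatorElement_def]; group
        _ = (⁅k, x⁆ * x) * (⁅k, y⁆ * y) * (⁅k, x⁆ * x)⁻¹ * (⁅k, y⁆ * y)⁻¹ := by rw [hconj, hconj]
        _ = ⁅k, x⁆ * (x * ⁅k, y⁆) * y * x⁻¹ * (⁅k, x⁆⁻¹ * y⁻¹) * ⁅k, y⁆⁻¹ := by group
        _ = ⁅k, x⁆ * (⁅k, y⁆ * x) * y * x⁻¹ * (y⁻¹ * ⁅k, x⁆⁻¹) * ⁅k, y⁆⁻¹ := by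
            rw [← ey x]
            have h3 : ⁅k, x⁆⁻¹ * y⁻¹ = y⁻¹ * ⁅k, x⁆⁻¹ := by
              rw [← mul_inv_rev, ← mul_inv_rev, ex]
            rw [h3]
        _ = ⁅k, x⁆ * ⁅k, y⁆ * ⁅x, y⁆ * (⁅k, x⁆⁻¹ * ⁅k, y⁆⁻¹) := by
            rw [commutatorElement_def x y]; group
        _ = ⁅k, x⁆ * (⁅k, y⁆ * (⁅x, y⁆ * ⁅k, x⁆⁻¹)) * ⁅k, y⁆⁻¹ := by group
        _ = (⁅k, x⁆ * (⁅k, y⁆ * (⁅k, x⁆⁻¹ * ⁅x, y⁆))) * ⁅k, y⁆⁻¹ := by
            have h3 : ⁅x, y⁆ * ⁅k, x⁆⁻¹ = ⁅k, x⁆⁻¹ * ⁅x, y⁆ := by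
              rw [eq_inv_mul_iff_mul_eq, ← mul_assoc, ex, mul_assoc, mul_inv_cancel, mul_one]
            rw [h3]
        _ = (⁅k, x⁆ * ⁅k, y⁆) * ⁅k, x⁆⁻¹ * ⁅x, y⁆ * ⁅k, y⁆⁻¹ := by group
        _ = (⁅k, y⁆ * ⁅k, x⁆) * ⁅k, x⁆⁻¹ * ⁅x, y⁆ * ⁅k, y⁆⁻¹ := by rw [ex ⁅k, y⁆]
        _ = (⁅k, y⁆ * ⁅x, y⁆) * ⁅k, y⁆⁻¹ := by group
        _ = (⁅x, y⁆ * ⁅k, y⁆) * ⁅k, y⁆⁻¹ := by rw [ey ⁅x, y⁆]
        _ = _ := by group
    have h3 : k * ⁅x, y⁆ = ⁅x, y⁆ * k := mul_inv_eq_iff_eq_mul.1 h2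
    exact h3.symm
  have h2 : m ∈ centralizer ({k} : Set M) := h1 (by rw [hM]; exact mem_top m)
  exact (mem_centralizer_singleton_iff.1 h2).symm

namespace Facts

variable {X : Type*} [Group X] {z u s a w : X} {J A : Subgroup X} {ρ : J →* PSL3} {μ : F4}

/-- **No double cover.** -/
theorem noDouble [Finite X] (F : Facts X z u s a w J A ρ μ) : NoDouble X := by
  classical
  intro L _ _ π c hd
  have hπc := Class.pi_c hd
  -- step 1
  have hsq : ∀ x : L, π x * π x = 1 → x * x = 1 := fun x hx => by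
    refine Class.sq_eq_one hd F.one F.a4 F.a2 (y := s * (a * a) * s⁻¹) ?_ ?_ ?_ F.sa x hx
    · calc s * (a * a) * s⁻¹ * (s * (a * a) * s⁻¹) = s * (a * a * (a * a)) * s⁻¹ := by group
        _ = 1 := by rw [F.a4]; group
    · intro h
      apply F.a2
      have h1 : s * (a * a) = s := mul_inv_eq_one.1 h
      exact mul_eq_left.1 h1
    · exact F.ab _ F.aA _ (F.sA _ (mul_mem F.aA F.aA))
  -- step 2
  have hab := pre_abelian hd F.ab F.aA F.sA F.wA F.s3 F.gen
  -- the preimage of `J`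
  set P : Subgroup L := J.comap π with hP
  have hcP : c ∈ P := by
    show π c ∈ J
    rw [hπc]; exact one_mem _
  have hmap : (⁅P, P⁆).map π = J := by
    rw [map_commutator, map_comap_eq_self_of_surjective hd.surj, F.perf]
  have hle : ⁅P, P⁆ ≤ P := by
    rw [commutator_le]
    intro a ha b hb
    exact mul_mem (mul_mem (mul_mem ha hb) (inv_mem ha)) (inv_mem hb)
  have hcov : ∀ x ∈ P, x ∈ ⁅P, P⁆ ∨ c * x ∈ ⁅P, P⁆ := by
    intro x hx
    have h1 : π x ∈ (⁅P, P⁆).map π := by rw [hmap]; exact hx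
    obtain ⟨y, hy, hyx⟩ := h1
    have h2 : π (y * x⁻¹) = 1 := by rw [map_mul, map_inv, hyx, mul_inv_cancel]
    rcases (hd.ker _).1 h2 with h3 | h3
    · left
      rwa [← mul_inv_eq_one.1 h3]
    · right
      rwa [← mul_inv_eq_iff_eq_mul.1 h3]
  by_cases hc : c ∈ ⁅P, P⁆
  · -- `P` is perfect
    have hPP : ⁅P, P⁆ = P := by
      refine le_antisymm hle fun x hx => ?_
      rcases hcov x hx with h | h
      · exact h
      · have := mul_mem (inv_mem hc) h
        rwa [inv_mul_cancel_left] at this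
    have hperf : commutator P = ⊤ := by
      rw [commutator_def]
      have h1 : Subgroup.map P.subtype ⁅(⊤ : Subgroup P), (⊤ : Subgroup P)⁆ = P := by
        rw [map_commutator, ← MonoidHom.range_eq_map, range_subtype, hPP]
      rw [eq_top_iff]
      intro x _
      have h2 : (x : L) ∈ Subgroup.map P.subtype ⁅(⊤ : Subgroup P), (⊤ : Subgroup P)⁆ := by
        rw [h1]; exact x.2
      obtain ⟨y, hy, hyx⟩ := h2
      rwa [← Subtype.ext (a1 := y) (a2 := x) hyx]
    let r : P →* J := (π.comp P.subtype).codRestrict J fun x => x.2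
    have hr : ∀ x : P, ((r x : J) : X) = π x := fun _ => rfl
    have hrs : Function.Surjective r := by
      rintro ⟨y, hy⟩
      obtain ⟨x, rfl⟩ := hd.surj y
      exact ⟨⟨x, hy⟩, rfl⟩
    have C₀ : CExt ρ := ⟨F.surj, F.kcen, F.kexp⟩
    have C : CExt (ρ.comp r) :=
      { surj := F.surj.comp hrs
        cen := fun k hk m => by
          refine cen_of_perfect hperf (c := (⟨c, hcP⟩ : P)) (fun m => Subtype.ext (hd.cen m)) (fun m => ?_) m
          have h1 : r k * r m = r m * r k := F.kcen _ hk _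
          have h2 : π ((⁅k, m⁆ : P) : L) = 1 := by
            rw [← hr, commutatorElement_def, map_mul, map_mul, map_mul, map_inv, map_inv, h1]
            simp
          rcases (hd.ker _).1 h2 with h3 | h3
          · left; exact Subtype.ext h3
          · right; exact Subtype.ext h3
        exp := fun k hk => by
          have h1 := F.kexp _ hk
          have h2 : π (((k * k : P) : L)) * π (((k * k : P) : L)) = 1 := by
            rw [← hr, map_mul, ← coe_mul]
            have h3 : r k * r k * (r k * r k) = 1 := by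
              rw [← h1]; simp only [pow_succ, pow_zero, one_mul, mul_assoc]
            rw [h3, coe_one]
          have h3 := hsq _ h2
          apply Subtype.ext
          rw [coe_pow, coe_one, ← h3, coe_mul]
          simp only [pow_succ, pow_zero, one_mul, mul_assoc] }
    obtain ⟨-, h4⟩ := card_ker_dvd C hperf F.hμ (fun x y hx hy => by
      apply Subtype.ext
      exact hab x y (F.A_of (r x) hx) (F.A_of (r y) hy))
    -- orders
    have hk2 : Nat.card r.ker = 2 := by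
      rw [Nat.card_eq_two_iff' (1 : r.ker)]
      have hck : (⟨c, hcP⟩ : P) ∈ r.ker := Subtype.ext hπc
      refine ⟨⟨⟨c, hcP⟩, hck⟩, fun h => hd.ne (congrArg (fun v : r.ker => ((v : P) : L)) h), ?_⟩
      rintro ⟨⟨y, hyP⟩, hy⟩ hne
      have h1 : π y = 1 := congrArg Subtype.val (MonoidHom.mem_ker.1 hy)
      rcases (hd.ker y).1 h1 with rfl | rfl
      · exact absurd rfl hne
      · rfl
    have e1 := C.card_M
    have e2 := C₀.card_M
    have e3 : Nat.card P = 2 * Nat.card J := by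
      have h1 := card_mul_index r.ker
      rw [index_ker, MonoidHom.range_eq_top.2 hrs, card_top, hk2] at h1
      exact h1.symm
    rw [F.kcard] at e2
    rw [e1, e2] at e3
    have e4 : Nat.card (ρ.comp r).ker = 8 := by omega
    rw [e4] at h4
    exact absurd h4 (by decide)
  · -- `P = ⁅P, P⁆ × ⟨c⟩`
    obtain ⟨v, hv⟩ := hd.surj u
    have hvv : v * v = 1 := hsq v (by rw [hv]; exact F.usq)
    have hPn : ∀ x ∈ P, v * x * v⁻¹ ∈ P := fun x hx => by
      show π _ ∈ J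
      rw [map_mul, map_mul, map_inv, hv]
      exact F.norm u F.uz _ hx
    have hn : ∀ x ∈ ⁅P, P⁆, v * x * v⁻¹ ∈ ⁅P, P⁆ := by
      intro x hx
      have h1 : (⁅P, P⁆).map (MulAut.conj v).toMonoidHom ≤ ⁅P, P⁆ := by
        rw [map_commutator]
        have h2 : P.map (MulAut.conj v).toMonoidHom ≤ P := by
          rintro _ ⟨y, hy, rfl⟩
          exact hPn y hy
        exact commutator_mono h2 h2
      exact h1 ⟨x, hx, rfl⟩
    have hvi : v⁻¹ = v := inv_eq_of_mul_eq_one_left hvv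
    have hn' : ∀ x ∈ ⁅P, P⁆, v * x * v ∈ ⁅P, P⁆ := fun x hx => by
      have := hn x hx
      rwa [hvi] at this
    let P₁ : Subgroup L :=
      { carrier := {x | x ∈ ⁅P, P⁆ ∨ v * x ∈ ⁅P, P⁆}
        one_mem' := Or.inl (one_mem _)
        mul_mem' := by
          rintro x y (hx | hx) (hy | hy)
          · exact Or.inl (mul_mem hx hy)
          · right
            have h1 := mul_mem (hn' x hx) hy
            have h2 : v * x * v * (v * y) = v * (x * y) := by
              calc v * x * v * (v * y) = v * x * (v * v) * y := by group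
                _ = _ := by rw [hvv]; group
            rwa [h2] at h1
          · right
            have h1 := mul_mem hx hy
            rwa [mul_assoc] at h1
          · left
            have h1 := mul_mem (hn' _ hx) hy
            have h2 : v * (v * x) * v * (v * y) = x * y := by
              calc v * (v * x) * v * (v * y) = (v * v) * x * (v * v) * y := by group
                _ = _ := by rw [hvv]; group
            rwa [h2] at h1
        inv_mem' := by
          rintro x (hx | hx)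
          · exact Or.inl (inv_mem hx)
          · right
            have h1 := hn' _ (inv_mem hx)
            have h2 : v * (v * x)⁻¹ * v = v * x⁻¹ := by
              rw [mul_inv_rev, hvi]
              calc v * (x⁻¹ * v) * v = v * x⁻¹ * (v * v) := by group
                _ = _ := by rw [hvv, mul_one]
            rwa [h2] at h1 }
    have hQ : c ∈ (centralizer ({z} : Set X)).comap π := by
      show π c ∈ centralizer ({z} : Set X)
      rw [hπc]; exact one_mem _
    refine hd.toCtr.false_of_compl (P := (centralizer ({z} : Set X)).comap π) (P₁ := P₁) hQ ?_ ?_ ?_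
    · rw [index_comap_of_surjective _ hd.surj]; exact F.idx
    · rintro (h | h)
      · exact hc h
      · apply F.uJ
        have h1 : π (v * c) ∈ J := hle h
        rwa [map_mul, hπc, mul_one, hv] at h1
    · intro x hx
      have hx' : π x * z = z * π x := mem_centralizer_singleton_iff.1 hx
      rcases F.cov _ hx' with h | h
      · rcases hcov x h with h1 | h1
        · exact Or.inl (Or.inl h1)
        · exact Or.inr (Or.inl h1)
      · have h0 : v * x ∈ P := by
          show π (v * x) ∈ J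
          rw [map_mul, hv]; exact h
        rcases hcov _ h0 with h1 | h1
        · exact Or.inl (Or.inr h1)
        · right; right
          have h2 : v * (c * x) = c * (v * x) := by
            rw [← mul_assoc, ← hd.cen v, mul_assoc]
          rw [h2]; exact h1

end Facts

end Cfsg.Agent.KFacts.MulSpor.ONLem
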