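import Cfsg.Agent.KFacts.MulBound

/-!
# Double covers and perfect subgroups of odd index

* `of_odd_index`: if `C` is a perfect subgroup of odd index of the finite group `X` and `C` has no perfect double cover,
  then `X` has no perfect double cover.
* `of_cover`: if `OneCover Y` and `C → Y` is a perfect double cover, then `C` has no perfect double cover.
-/

set_option autoImplicit false

namespace Cfsg.Agent.KFacts.MulSpor.OddIdx

open Subgroup Cfsg.Agent.KFacts.MulTwo Cfsg.Agent.KFacts.MulDef Cfsg.Agent.KFacts.MulBound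
open scoped commutatorElement

universe u v w

/-- A perfect subgroup of odd index without double cover. -/
theorem of_odd_index {X : Type v} [Group X] (C : Subgroup X) (hidx : ¬ 2 ∣ C.index) (hC : ⁅C, C⁆ = C)
    (hn : NoDouble C) : NoDouble X := by
  intro L _ _ π c hd
  have hπc : π c = 1 := (hd.ker c).2 (Or.inr rfl)
  let P : Subgroup L := C.comap π
  have hcP : c ∈ P := by
    show π c ∈ C
    rw [hπc]; exact one_mem _
  have hP : ¬ 2 ∣ P.index := by
    rwa [index_comap_of_surjective _ hd.surj]
  -- the derived group of `P` covers `C`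
  have hmap : (⁅P, P⁆).map π = C := by
    rw [map_commutator, map_comap_eq_self_of_surjective hd.surj, hC]
  have hle : ⁅P, P⁆ ≤ P := by
    rw [commutator_le]
    intro a ha b hb
    exact mul_mem (mul_mem (mul_mem ha hb) (inv_mem ha)) (inv_mem hb)
  have hcov : ∀ x ∈ P, x ∈ ⁅P, P⁆ ∨ c * x ∈ ⁅P, P⁆ := by
    intro x hx
    have h1 : π x ∈ (⁅P, P⁆).map π := by rw [hmap]; exact hx
    obtain ⟨y, hy, hyx⟩ := h1
    have h2 : π (y * x⁻¹) = 1 := by rw [map_mul, map_inv, hyx, mul_inv_cancel]
    rcases (hd.ker _).1 h2 with h3 | h3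
    · left
      rwa [← mul_inv_eq_one.1 h3]
    · right
      rwa [← mul_inv_eq_iff_eq_mul.1 h3]
  by_cases hc : c ∈ ⁅P, P⁆
  · -- `P` is a perfect double cover of `C`
    have hPP : ⁅P, P⁆ = P := by
      refine le_antisymm hle fun x hx => ?_
      rcases hcov x hx with h | h
      · exact h
      · have := mul_mem (inv_mem hc) h
        rwa [inv_mul_cancel_left] at this
    let ρ : P →* C := (π.comp P.subtype).codRestrict C fun x => x.2
    refine hn.false (L := P) (π := ρ) (c := ⟨c, hcP⟩) ⟨⟨?_, ?_, ?_, ?_⟩, ?_, ?_⟩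
    · intro h
      exact hd.ne (congrArg Subtype.val h)
    · exact Subtype.ext hd.sq
    · exact fun x => Subtype.ext (hd.cen x)
    · rw [commutator_def]
      have h1 : Subgroup.map P.subtype ⁅(⊤ : Subgroup P), (⊤ : Subgroup P)⁆ = P := by
        rw [map_commutator, ← MonoidHom.range_eq_map, range_subtype, hPP]
      rw [eq_top_iff]
      intro x _
      have h2 : (x : L) ∈ Subgroup.map P.subtype ⁅(⊤ : Subgroup P), (⊤ : Subgroup P)⁆ := by
        rw [h1]; exact x.2
      obtain ⟨y, hy, hyx⟩ := h2
      rwa [← Subtype.ext (a1 := y) (a2 := x) hyx]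
    · rintro ⟨y, hy⟩
      obtain ⟨x, rfl⟩ := hd.surj y
      exact ⟨⟨x, hy⟩, rfl⟩
    · intro x
      rw [← Subtype.coe_inj (a := ρ x)]
      show π x = 1 ↔ _
      rw [hd.ker, ← Subtype.coe_inj, ← Subtype.coe_inj (b := (⟨c, hcP⟩ : P))]
      rfl
  · exact hd.toCtr.false_of_compl hcP hP hc hcov

/-- A perfect double cover of a group with at most one double cover. -/
theorem of_cover {Y : Type v} [Group Y] (h : OneCover Y) {C : Type w} [Group C] {ρ : C →* Y} {z : C}
    (hz : Dbl ρ z) : NoDouble C := by
  intro L _ _ π c hd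
  have hπc : π c = 1 := (hd.ker c).2 (Or.inr rfl)
  let f : L →* Y := ρ.comp π
  have hf : Function.Surjective f := hz.surj.comp hd.surj
  -- the kernel is central
  have hker : f.ker ≤ center L := by
    intro k hk
    rw [MonoidHom.mem_ker] at hk
    have hk' : π k = 1 ∨ π k = z := (hz.ker _).1 hk
    have hcomm : ∀ x, π k * π x = π x * π k := by
      intro x
      rcases hk' with h1 | h1
      · rw [h1, one_mul, mul_one]
      · rw [h1]; exact hz.cen _
    -- `x ↦ ⁅k, x⁆` is a homomorphism into `{1, c}`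
    have hor : ∀ x : L, ⁅k, x⁆ = 1 ∨ ⁅k, x⁆ = c := by
      intro x
      refine (hd.ker _).1 ?_
      rw [map_commutatorElement, commutatorElement_eq_one_iff_mul_comm]
      exact hcomm x
    have hcen : ∀ x y : L, ⁅k, x⁆ * y = y * ⁅k, x⁆ := by
      intro x y
      rcases hor x with h1 | h1
      · rw [h1, one_mul, mul_one]
      · rw [h1]; exact hd.cen y
    have hmul : ∀ x y : L, ⁅k, x * y⁆ = ⁅k, x⁆ * ⁅k, y⁆ := by
      intro x y
      have h1 : ⁅k, x * y⁆ = ⁅k, x⁆ * (x * ⁅k, y⁆ * x⁻¹) := by
        simp only [commutatorElement_def]; group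
      rw [h1, ← hcen y x, mul_inv_cancel_right]
    -- the centraliser of `k` contains all commutators
    rw [mem_center_iff]
    have hle : commutator L ≤ centralizer {k} := by
      rw [commutator_def, commutator_le]
      intro a _ b _
      rw [mem_centralizer_singleton_iff]
      have hinv : ∀ x : L, ⁅k, x⁻¹⁆ = ⁅k, x⁆⁻¹ := fun x => by
        rw [eq_inv_iff_mul_eq_one, ← hmul, inv_mul_cancel, commutatorElement_one_right]
      have h2 : ⁅k, ⁅a, b⁆⁆ = 1 := by
        rw [commutatorElement_def a b, hmul, hmul, hmul, hinv, hinv]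
        rw [mul_assoc ⁅k, a⁆, hcen b, mul_assoc, mul_assoc]
        group
      exact (commutatorElement_eq_one_iff_mul_comm.1 h2).symm
    intro x
    have h1 : x ∈ centralizer ({k} : Set L) := hle (hd.perf ▸ mem_top x)
    exact mem_centralizer_singleton_iff.1 h1
  refine h.not_four_dvd hd.perf hf hker ?_
  -- order of the kernel
  have hfinC : Finite C := Finite.of_surjective π hd.surj
  have hker2 : ∀ {A : Type} {B : Type w} [Group A] [Group B] [Finite A] (g : A →* B), Function.Surjective g →
      Nat.card A = Nat.card g.ker * Nat.card B := by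
    intro A B _ _ _ g hg
    rw [← g.ker.card_mul_index, Subgroup.index_ker, MonoidHom.range_eq_top.2 hg, Subgroup.card_top]
  have hker3 : ∀ {A : Type} {B : Type v} [Group A] [Group B] [Finite A] (g : A →* B), Function.Surjective g →
      Nat.card A = Nat.card g.ker * Nat.card B := by
    intro A B _ _ _ g hg
    rw [← g.ker.card_mul_index, Subgroup.index_ker, MonoidHom.range_eq_top.2 hg, Subgroup.card_top]
  have hρ : Nat.card ρ.ker = 2 := by
    rw [Nat.card_eq_two_iff]
    refine ⟨1, ⟨z, (hz.ker z).2 (Or.inr rfl)⟩, fun h => hz.ne (congrArg Subtype.val h).symm, ?_⟩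
    ext ⟨x, hx⟩
    simp only [Set.mem_insert_iff, Set.mem_singleton_iff, Set.mem_univ, iff_true]
    rcases (hz.ker x).1 hx with h3 | h3
    · left; exact Subtype.ext h3
    · right; exact Subtype.ext h3
  have hπ : Nat.card π.ker = 2 := by
    rw [Nat.card_eq_two_iff]
    refine ⟨1, ⟨c, hπc⟩, fun h => hd.ne (congrArg Subtype.val h).symm, ?_⟩
    ext ⟨x, hx⟩
    simp only [Set.mem_insert_iff, Set.mem_singleton_iff, Set.mem_univ, iff_true]
    rcases (hd.ker x).1 hx with h3 | h3
    · left; exact Subtype.ext h3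
    · right; exact Subtype.ext h3
  have hCY : Nat.card C = 2 * Nat.card Y := by
    rw [← hρ, ← ρ.ker.card_mul_index, Subgroup.index_ker, MonoidHom.range_eq_top.2 hz.surj, Subgroup.card_top]
  have h1 := hker2 π hd.surj
  have h2 := hker3 f hf
  rw [h1, hπ, hCY, ← mul_assoc] at h2
  have hY : 0 < Nat.card Y := by
    have : Finite Y := Finite.of_surjective f hf
    exact Nat.card_pos
  have h4 := Nat.eq_of_mul_eq_mul_right hY h2
  omega

end Cfsg.Agent.KFacts.MulSpor.OddIdx
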