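import Cfsg.Agent.KFacts.MulCov

/-!
# Signs of involutions in a central extension by a group of order two

`IsSq π v s` : the lifts of `v` have square `s`.

* `IsSq.of_conj` : conjugate elements have the same square.
* `seven` : the product of the squares of the seven involutions of an elementary abelian group of order 8 is 1.
* `comm_of_isSq` : commuting involutions whose product lifts to an involution have commuting lifts.
-/

set_option autoImplicit false

namespace Cfsg.Agent.KFacts.MulSpor.SignLift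

open Cfsg.Agent.KFacts.MulCov

universe u v

variable {L : Type u} {X : Type v} [Group L] [Group X] {π : L →* X} {c : L}

/-- the lifts of `v` have square `s` -/
def IsSq (π : L →* X) (v : X) (s : L) : Prop := ∀ x, π x = v → x * x = s

theorem exists_isSq (h : Ext π c) {v : X} (hv : v * v = 1) : ∃ s, (s = 1 ∨ s = c) ∧ IsSq π v s := by
  obtain ⟨x, rfl⟩ := h.surj v
  refine ⟨x * x, h.mul_self_or hv, fun y hy => h.mul_self_eq hy⟩

theorem IsSq.of_conj (h : Ext π c) {u v : X} {s : L} (hs : IsSq π u s) (hs' : s = 1 ∨ s = c) {g : X}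
    (hg : g * v = u * g) : IsSq π v s := by
  intro x hx
  obtain ⟨k, rfl⟩ := h.surj g
  have h1 : k * x * k⁻¹ * (k * x * k⁻¹) = s := by
    apply hs
    rw [map_mul, map_mul, map_inv, hx, hg, mul_inv_cancel_right]
  have h2 : k * (x * x) * k⁻¹ = s := by rw [← h1]; group
  have h3 : x * x = k⁻¹ * s * k := by rw [← h2]; group
  rw [h3]
  rcases hs' with rfl | rfl
  · group
  · rw [mul_assoc, h.cen, inv_mul_cancel_left]

/-- commutation up to the central element -/
theorem comm_or (h : Ext π c) {x y : L} (hxy : π x * π y = π y * π x) :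
    ∃ k, (k = 1 ∨ k = c) ∧ y * x = x * y * k := by
  have h1 : π (y * x) = π (x * y) := by rw [map_mul, map_mul, hxy]
  rcases h.eq_or h1 with h2 | h2
  · exact ⟨1, Or.inl rfl, by rw [h2, mul_one]⟩
  · exact ⟨c, Or.inr rfl, h2⟩

theorem seven (h : Ext π c) {a b d : X} (hab : a * b = b * a) (had : a * d = d * a) (hbd : b * d = d * b)
    {s1 s2 s3 s4 s5 s6 s7 : L} (h1 : s1 = 1 ∨ s1 = c) (h2 : s2 = 1 ∨ s2 = c) (h3 : s3 = 1 ∨ s3 = c)
    (q1 : IsSq π a s1) (q2 : IsSq π b s2) (q3 : IsSq π d s3) (q4 : IsSq π (a * b) s4) (q5 : IsSq π (a * d) s5)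
    (q6 : IsSq π (b * d) s6) (q7 : IsSq π (a * (b * d)) s7) : s1 * s2 * s3 * s4 * s5 * s6 * s7 = 1 := by
  obtain ⟨x, rfl⟩ := h.surj a
  obtain ⟨y, rfl⟩ := h.surj b
  obtain ⟨z, rfl⟩ := h.surj d
  obtain ⟨k1, hk1, e1⟩ := comm_or h hab
  obtain ⟨k2, hk2, e2⟩ := comm_or h had
  obtain ⟨k3, hk3, e3⟩ := comm_or h hbd
  have hcen : ∀ k : L, (k = 1 ∨ k = c) → ∀ w, k * w = w * k := by
    rintro k (rfl | rfl) w
    · rw [one_mul, mul_one]
    · exact h.cen w
  have hsq : ∀ k : L, (k = 1 ∨ k = c) → k * k = 1 := by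
    rintro k (rfl | rfl)
    · rw [one_mul]
    · exact h.sq
  have e4 : s4 = s1 * s2 * k1 := by
    rw [← q4 (x * y) (map_mul _ _ _), ← q1 x rfl, ← q2 y rfl]
    calc x * y * (x * y) = x * (y * x) * y := by group
      _ = x * (x * y * k1) * y := by rw [e1]
      _ = x * x * y * (k1 * y) := by group
      _ = x * x * y * (y * k1) := by rw [hcen k1 hk1]
      _ = _ := by group
  have e5 : s5 = s1 * s3 * k2 := by
    rw [← q5 (x * z) (map_mul _ _ _), ← q1 x rfl, ← q3 z rfl]
    calc x * z * (x * z) = x * (z * x) * z := by group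
      _ = x * (x * z * k2) * z := by rw [e2]
      _ = x * x * z * (k2 * z) := by group
      _ = x * x * z * (z * k2) := by rw [hcen k2 hk2]
      _ = _ := by group
  have e6 : s6 = s2 * s3 * k3 := by
    rw [← q6 (y * z) (map_mul _ _ _), ← q2 y rfl, ← q3 z rfl]
    calc y * z * (y * z) = y * (z * y) * z := by group
      _ = y * (y * z * k3) * z := by rw [e3]
      _ = y * y * z * (k3 * z) := by group
      _ = y * y * z * (z * k3) := by rw [hcen k3 hk3]
      _ = _ := by group
  have e7 : s7 = s1 * s2 * s3 * (k1 * k2 * k3) := by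
    rw [← q7 (x * (y * z)) (by rw [map_mul, map_mul]), ← q1 x rfl, ← q2 y rfl, ← q3 z rfl]
    calc x * (y * z) * (x * (y * z)) = x * y * (z * x) * y * z := by group
      _ = x * y * (x * z * k2) * y * z := by rw [e2]
      _ = x * (y * x) * z * (k2 * (y * z)) := by group
      _ = x * (x * y * k1) * z * ((y * z) * k2) := by rw [e1, hcen k2 hk2]
      _ = x * x * y * (k1 * (z * y)) * z * k2 := by group
      _ = x * x * y * ((z * y) * k1) * z * k2 := by rw [hcen k1 hk1]
      _ = x * x * y * (y * z * k3) * (k1 * z) * k2 := by rw [e3]; group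
      _ = x * x * (y * y) * z * (k3 * (z * k1)) * k2 := by rw [hcen k1 hk1 z]; group
      _ = x * x * (y * y) * z * ((z * k1) * k3) * k2 := by rw [hcen k3 hk3]
      _ = x * x * (y * y) * (z * z) * (k1 * (k3 * k2)) := by group
      _ = _ := by rw [hcen k3 hk3 k2]; group
  rw [e4, e5, e6, e7]
  clear e4 e5 e6 e7 q1 q2 q3 q4 q5 q6 q7 e1 e2 e3
  have hcc := h.sq
  have hc4 : c * (c * 1) = 1 := by rw [mul_one]; exact hcc
  rcases h1 with rfl | rfl <;> rcases h2 with rfl | rfl <;> rcases h3 with rfl | rfl <;>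
    rcases hk1 with rfl | rfl <;> rcases hk2 with rfl | rfl <;> rcases hk3 with rfl | rfl <;>
    simp only [mul_one, one_mul, hcc]

/-- commuting involutions whose product lifts to an involution have commuting lifts -/
theorem comm_of_isSq {x y : L} (hx : x * x = 1) (hy : y * y = 1) (hxy : x * y * (x * y) = 1) : x * y = y * x := by
  have h1 : x * y = (x * y)⁻¹ := eq_inv_of_mul_eq_one_left hxy
  rw [h1, mul_inv_rev, inv_eq_of_mul_eq_one_left hx, inv_eq_of_mul_eq_one_left hy]

/-- odd powers can be corrected -/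
theorem exists_sign (h : Ext π c) {x y : L} {n : ℕ} (hn : Odd n) (hxy : (π x * π y) ^ n = 1) :
    ∃ x', π x' = π x ∧ (x' * y) ^ n = 1 := by
  rw [← map_mul, ← map_pow] at hxy
  rcases (h.ker _).1 hxy with h1 | h1
  · exact ⟨x, rfl, h1⟩
  · refine ⟨c * x, by rw [map_mul, h.map_c, one_mul], ?_⟩
    have hc : Commute c (x * y) := h.cen _
    rw [mul_assoc, hc.mul_pow, h1, h.pow_c_odd hn, h.sq]

end Cfsg.Agent.KFacts.MulSpor.SignLift
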