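import Cfsg.Agent.KFacts.Th.Double
import Cfsg.Agent.KFacts.Th.Main

/-!
# The 2-part of the multiplier of the Thompson group is trivial (helper950)
-/

set_option autoImplicit false

namespace Cfsg.Agent.KFacts.MulSpor.Th

/-- `Th` has no perfect double cover -/
theorem noDouble : Cfsg.Agent.KFacts.MulDef.NoDouble Cfsg.Spor.Th :=
  fun _ _ _ _ _ hd => Cfsg.Agent.KFacts.Th.Double.false_of_dbl Cfsg.Agent.KFacts.Th.Main.ctx hd

end Cfsg.Agent.KFacts.MulSpor.Th
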