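import Cfsg.Agent.KFacts.MulDef
import Cfsg.Agent.KFacts.MulSpor.M24
import Cfsg.Agent.OddHalf.CoverAlt
import Cfsg.Agent.SporRec.LyFiveCov
import Cfsg.Agent.TypeM.Two

/-!
# Groups with a perfect subgroup `2.A_n` of odd index have no double cover

* `Dbl.perf_comap` : the preimage of a perfect subgroup of odd index in a perfect double cover is perfect.
* `noDouble_of_cover` : no perfect double cover of a group with a subgroup `2.A_n`, `n ≥ 5`, of odd index.
* `noDouble_m24`.
-/

set_option autoImplicit false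
set_option linter.style.haveILetI false

namespace Cfsg.Agent.KFacts.MulSpor.TwoAnRow

open Subgroup Equiv
open Cfsg.Agent.KFacts.MulTwo Cfsg.Agent.KFacts.MulDef
open Cfsg.Agent.SporRec.TwoAn

universe u v

section perf

variable {L : Type u} {X : Type v} [Group L] [Group X] {π : L →* X} {c : L}

theorem map_c (h : Dbl π c) : π c = 1 := (h.ker c).2 (Or.inr rfl)

/-- The preimage of a perfect subgroup of odd index is perfect. -/
theorem perf_comap [Finite L] (h : Dbl π c) {P : Subgroup X} (hP : ¬ 2 ∣ P.index) (hperf : commutator P = ⊤) :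
    commutator ↥(P.comap π) = ⊤ := by
  have hc : c ∈ P.comap π := by rw [mem_comap, map_c h]; exact one_mem _
  have h1 : (⟨c, hc⟩ : P.comap π) ∈ commutator ↥(P.comap π) := by
    have h2 := h.toCtr.hom_eq_one (P := P.comap π) hc (by rwa [index_comap_of_surjective _ h.surj])
      (Abelianization.of)
    have h3 : (⟨c, hc⟩ : P.comap π) ∈ (Abelianization.of (G := ↥(P.comap π))).ker := h2
    rwa [Abelianization.ker_of] at h3
  let f : ↥(P.comap π) →* P := (π.comp (P.comap π).subtype).codRestrict P (fun x => x.2)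
  have hf : Function.Surjective f := by
    rintro ⟨y, hy⟩
    obtain ⟨x, rfl⟩ := h.surj y
    exact ⟨⟨x, hy⟩, rfl⟩
  have h3 : (commutator ↥(P.comap π)).map f = ⊤ := by
    rw [_root_.commutator_def, map_commutator, ← MonoidHom.range_eq_map, MonoidHom.range_eq_top.2 hf,
      ← _root_.commutator_def, hperf]
  rw [eq_top_iff]
  intro x _
  have h4 : f x ∈ (commutator ↥(P.comap π)).map f := by rw [h3]; exact mem_top _
  obtain ⟨y, hy, hyx⟩ := h4
  have h5 : π ((y⁻¹ * x : ↥(P.comap π)) : L) = 1 := by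
    have h6 : f (y⁻¹ * x) = 1 := by rw [map_mul, map_inv, hyx, inv_mul_cancel]
    exact congrArg Subtype.val h6
  have h7 : y⁻¹ * x ∈ commutator ↥(P.comap π) := by
    rcases (h.ker _).1 h5 with h8 | h8
    · have : y⁻¹ * x = 1 := Subtype.ext h8
      rw [this]; exact one_mem _
    · have : y⁻¹ * x = ⟨c, hc⟩ := Subtype.ext h8
      rw [this]; exact h1
  have := mul_mem hy h7
  rwa [mul_inv_cancel_left] at this

/-- In a perfect group, an element which is central modulo a central subgroup is central. -/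
theorem central_of_perf {C D : Type*} [Group C] [Group D] (hC : commutator C = ⊤) (f : C →* D)
    (hcen : ∀ x, f x = 1 → ∀ y, x * y = y * x) {w : C} (hw : ∀ y, f (w * y) = f (y * w)) (y : C) :
    w * y = y * w := by
  -- `y ↦ [y, w]` is a homomorphism
  have h1 : ∀ y, f (y * w * y⁻¹ * w⁻¹) = 1 := fun y => by
    rw [map_mul, map_mul, ← hw y, ← map_mul, ← map_mul]
    rw [show w * y * y⁻¹ * w⁻¹ = 1 by group, map_one]
  let φ : C →* center C :=
    { toFun := fun y => ⟨y * w * y⁻¹ * w⁻¹, mem_center_iff.2 fun g => (hcen _ (h1 y) g).symm⟩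
      map_one' := Subtype.ext (by simp)
      map_mul' := fun a b => Subtype.ext (by
        show a * b * w * (a * b)⁻¹ * w⁻¹ = a * w * a⁻¹ * w⁻¹ * (b * w * b⁻¹ * w⁻¹)
        calc a * b * w * (a * b)⁻¹ * w⁻¹ = a * (b * w * b⁻¹ * w⁻¹) * w * a⁻¹ * w⁻¹ := by group
          _ = (b * w * b⁻¹ * w⁻¹) * a * w * a⁻¹ * w⁻¹ := by rw [← hcen _ (h1 b) a]
          _ = (b * w * b⁻¹ * w⁻¹) * (a * w * a⁻¹ * w⁻¹) := by group
          _ = _ := hcen _ (h1 b) _) }
  letI : CommGroup (center C) :=
    { (inferInstance : Group (center C)) with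
      mul_comm := fun a b => Subtype.ext (mem_center_iff.1 b.2 a) }
  have h2 : (commutator C) ≤ φ.ker := Abelianization.commutator_subset_ker φ
  rw [hC] at h2
  have h3 : φ y = 1 := h2 (mem_top y)
  have h4 : y * w * y⁻¹ * w⁻¹ = 1 := congrArg Subtype.val h3
  exact (mul_inv_eq_iff_eq_mul.1 (mul_inv_eq_one.1 h4)).symm

end perf

/-- **No perfect double cover** of a group with a subgroup `2.A_n`, `n ≥ 5`, of odd index. -/
theorem noDouble_of_cover {G : Type v} [Group G] {P : Subgroup G} (hP : ¬ 2 ∣ P.index) {n : ℕ} (hn : 5 ≤ n)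
    (K : Cover (Fin n) P) : NoDouble G := by
  intro L _ _ π c h
  have hperfP : commutator P = ⊤ := Cfsg.Agent.SporRec.LyFiveCov.commutator_eq_top K (by rwa [Fintype.card_fin])
  have hperf := perf_comap h hP hperfP
  let f : ↥(P.comap π) →* P := (π.comp (P.comap π).subtype).codRestrict P (fun x => x.2)
  have hf : Function.Surjective f := by
    rintro ⟨y, hy⟩
    obtain ⟨x, rfl⟩ := h.surj y
    exact ⟨⟨x, hy⟩, rfl⟩
  have hfker : ∀ x, f x = 1 ↔ (x : L) = 1 ∨ (x : L) = c := fun x => by
    rw [← h.ker]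
    exact ⟨fun e => congrArg Subtype.val e, fun e => Subtype.ext e⟩
  let p : P →* alternatingGroup (Fin n) := K.π.codRestrict _ K.mem_alternating
  have hp : Function.Surjective p := by
    rintro ⟨σ, hσ⟩
    obtain ⟨g, hg⟩ := K.exists_lift hσ
    exact ⟨g, Subtype.ext hg⟩
  have hpker : ∀ x, p x = 1 ↔ x = 1 ∨ x = K.z := fun x => by
    rw [← K.ker]
    exact ⟨fun e => congrArg Subtype.val e, fun e => Subtype.ext e⟩
  have hfcen : ∀ x, f x = 1 → ∀ y, x * y = y * x := by
    intro x hx y
    apply Subtype.ext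
    rcases (hfker x).1 hx with h1 | h1
    · show (x : L) * y = y * x
      rw [h1, one_mul, mul_one]
    · show (x : L) * y = y * x
      rw [h1, h.cen]
  have hzsq : ∀ x, p (f x) = 1 → f x * f x = 1 := by
    intro x hx
    rcases (hpker _).1 hx with h1 | h1
    · rw [h1, one_mul]
    · rw [h1, K.z_mul_z]
  have hE : Cfsg.Agent.OddHalf.CoverAlt.Ext (p.comp f) := by
    refine ⟨hp.comp hf, ?_, ?_, hperf⟩
    · intro x hx y
      refine central_of_perf hperf f hfcen (fun y => ?_) y
      rw [map_mul, map_mul]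
      rcases (hpker _).1 hx with h1 | h1
      · rw [h1, one_mul, mul_one]
      · rw [h1, K.z_comm]
    · intro x hx
      refine ⟨2, ?_⟩
      have h1 : f (x * x) = 1 := by rw [map_mul]; exact hzsq x hx
      have h2 : (x * x) * (x * x) = 1 := by
        rcases (hfker _).1 h1 with h3 | h3
        · have : x * x = 1 := Subtype.ext h3
          rw [this, one_mul]
        · apply Subtype.ext
          show ((x * x : ↥(P.comap π)) : L) * ((x * x : ↥(P.comap π)) : L) = 1
          rw [h3, h.sq]
      calc x ^ 2 ^ 2 = (x * x) * (x * x) := by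
            rw [show 2 ^ 2 = 2 * 2 by norm_num, pow_mul, pow_two, pow_two]
        _ = 1 := h2
  obtain ⟨z, -, -, hz⟩ := hE.exists_z hn
  have hc : c ∈ P.comap π := by rw [mem_comap, map_c h]; exact one_mem _
  have h1 : (⟨c, hc⟩ : P.comap π) = z := by
    rcases hz ⟨c, hc⟩ (by
      show p (f ⟨c, hc⟩) = 1
      rw [(hfker ⟨c, hc⟩).2 (Or.inr rfl), map_one]) with h2 | h2
    · exact absurd (congrArg Subtype.val h2) h.ne
    · exact h2
  obtain ⟨w, hw⟩ := hf K.z
  have h2 : w = z := by
    rcases hz w (by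
      show p (f w) = 1
      rw [hw]; exact (hpker _).2 (Or.inr rfl)) with h2 | h2
    · rw [h2, map_one] at hw
      exact absurd hw.symm K.z_ne
    · exact h2
  rw [h2, ← h1, (hfker ⟨c, hc⟩).2 (Or.inr rfl)] at hw
  exact K.z_ne hw.symm

/-- the order of a double cover -/
theorem card_cover {n : ℕ} (hn : 2 ≤ n) {C : Type*} [Group C] [Finite C] (K : Cover (Fin n) C) :
    Nat.card C = n.factorial := by
  have h1 := Subgroup.card_eq_card_quotient_mul_card_subgroup K.π.ker
  have h2 : Nat.card (C ⧸ K.π.ker) = Nat.card (alternatingGroup (Fin n)) := by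
    rw [Nat.card_congr (QuotientGroup.quotientKerEquivRange K.π).toEquiv, K.range_eq]
  have h3 : Nat.card K.π.ker = 2 := by
    rw [Nat.card_eq_two_iff' (1 : K.π.ker)]
    refine ⟨⟨K.z, K.π_z⟩, fun e => K.z_ne (congrArg Subtype.val e), ?_⟩
    rintro ⟨y, hy⟩ hne
    rcases (K.ker y).1 hy with h4 | h4
    · exact absurd (Subtype.ext h4) hne
    · exact Subtype.ext h4
  have : Nontrivial (Fin n) := Fin.nontrivial_iff_two_le.2 hn
  have h4 := two_mul_nat_card_alternatingGroup (α := Fin n)
  rw [h1, h2, h3, mul_comm, h4, Nat.card_eq_fintype_card, Fintype.card_perm, Fintype.card_fin]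

theorem index_mt {n : ℕ} (hn : 2 ≤ n) {G : Type*} [Group G] [Finite G] (M : Cfsg.Agent.TypeM.Two.MT n G) :
    n.factorial * (centralizer ({M.t} : Set G)).index = Nat.card G := by
  rw [← card_cover hn M.K]
  exact card_mul_index _

/-- `M24` has no perfect double cover. -/
theorem noDouble_m24 : NoDouble Cfsg.M24 := fun _ _ _ π _ h => M24.no_double h.toCtr π h.surj h.ker

end Cfsg.Agent.KFacts.MulSpor.TwoAnRow
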